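import Cfsg.Agent.Lib.PLocal.PStable
import Cfsg.Agent.Lib.PLocal.Offender

/-!
# The abelian Thompson subgroup: replacement
-/

set_option autoImplicit false
set_option linter.all false

namespace CfsgLib.Techniques

open Subgroup Cfsg CfsgLib.PLocal
open scoped commutatorElement

variable {G : Type*} [Group G] {p : ℕ}

theorem abelian_sup {A B : Subgroup G} (hA : IsMulCommutative A) (hB : IsMulCommutative B)
    (h : A ≤ centralizer (B : Set G)) : IsMulCommutative (A ⊔ B : Subgroup G) := by
  rw [← le_centralizer_iff_isMulCommutative, CfsgLib.PLocal.centralizer_sup]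
  exact le_inf (sup_le (le_centralizer_iff_isMulCommutative.2 hA) (le_centralizer_iff.1 h))
    (sup_le h (le_centralizer_iff_isMulCommutative.2 hB))

theorem abelian_mono {A B : Subgroup G} (hA : IsMulCommutative A) (h : B ≤ A) :
    IsMulCommutative B :=
  le_centralizer_iff_isMulCommutative.1 fun x hx => mem_centralizer_iff.2 fun y hy =>
    comm_of_mem hA (h hy) (h hx)

/-- Thompson replacement for an abelian subgroup of largest order in a `p`-group `T`. -/
theorem replacement_abelian [Finite G] [Fact p.Prime] {T V A : Subgroup G} (hT : IsPGroup p T)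
    (hV : IsElementaryAbelian p V) (hVT : V ≤ T) (hTV : T ≤ normalizer (V : Set G))
    (hA : IsMulCommutative A) (hAT : A ≤ T)
    (hmax : ∀ B : Subgroup G, B ≤ T → IsMulCommutative B → Nat.card B ≤ Nat.card A) :
    ∃ A' : Subgroup G, A' ≤ T ∧ IsMulCommutative A' ∧ Nat.card A' = Nat.card A ∧
      ⁅⁅V, A'⁆, A'⁆ = ⊥ ∧ (⁅V, A⁆ ≠ ⊥ → ⁅V, A'⁆ ≠ ⊥) := by
  have hAV : A ≤ normalizer (V : Set G) := hAT.trans hTV
  have hab : ⁅A, A⁆ ≤ centralizer (V : Set G) := by
    rw [(commutator_self_eq_bot_iff (H := A)).2 hA]; exact bot_le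
  have hbest : ∀ B : Subgroup G, B ≤ A → offMeasure V B ≤ offMeasure V A := by
    intro B hB
    set W := V ⊓ centralizer (B : Set G)
    have hBW : B ≤ centralizer (W : Set G) := le_centralizer_centralizer_inf V B
    have hcm := abelian_sup (abelian_mono hA hB) (abelian_mono hV.1 inf_le_left) hBW
    have h1 := CfsgLib.PLocal.card_sup_mul_card_inf B W (hBW.trans (centralizer_le_normalizer _))
    show Nat.card B * Nat.card W ≤ _
    rw [h1]
    refine Nat.mul_le_mul (hmax _ (sup_le (hB.trans hAT) (inf_le_left.trans hVT)) hcm)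
      (card_le_of_le ?_)
    exact le_inf (inf_le_right.trans inf_le_left)
      (fun x hx => le_centralizer_iff_isMulCommutative.2 hA (hB hx.1))
  obtain ⟨h1, h2⟩ := thompson_replacement hV.1 hAV hab hbest V le_rfl
  set W := ⁅V, A⁆ with hW
  set B := A ⊓ centralizer (W : Set G) with hB
  set C := V ⊓ centralizer (A : Set G) with hC
  have hWV : W ≤ V := commutator_le_of_le_normalizer hAV le_rfl
  have hCA : C ≤ A := by
    have hcm := abelian_sup hA (abelian_mono hV.1 (inf_le_left : C ≤ V))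
      (le_centralizer_centralizer_inf V A)
    have := eq_of_le_of_card_ge (le_sup_left : A ≤ A ⊔ C)
      (hmax _ (sup_le hAT (inf_le_left.trans hVT)) hcm)
    exact (le_sup_right : C ≤ A ⊔ C).trans this.ge
  have hCB : C ≤ B :=
    le_inf hCA fun x hx => centralizer_le (SetLike.coe_subset_coe.2 hWV)
      (le_centralizer_iff_isMulCommutative.2 hV.1 hx.1)
  have hBV : B ⊓ V = C :=
    le_antisymm (le_inf inf_le_right fun x hx => le_centralizer_iff_isMulCommutative.2 hA hx.1.1)
      (le_inf hCB inf_le_left)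
  have hBW : B ≤ centralizer ((W ⊔ C : Subgroup G) : Set G) := by
    rw [CfsgLib.PLocal.centralizer_sup]
    exact le_inf inf_le_right (inf_le_left.trans (le_centralizer_centralizer_inf V A))
  have hSeq : W ⊔ B = B ⊔ (W ⊔ C) := by
    rw [sup_comm W B, sup_comm W C, ← sup_assoc, sup_eq_left.2 hCB]
  have hWC : B ⊓ (W ⊔ C) = C :=
    le_antisymm ((inf_le_inf_left _ (sup_le hWV inf_le_left)).trans hBV.le)
      (le_inf hCB le_sup_right)
  have hcard : Nat.card ↥(W ⊔ B : Subgroup G) = Nat.card A := by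
    have h3 := CfsgLib.PLocal.card_sup_mul_card_inf B (W ⊔ C) (hBW.trans (centralizer_le_normalizer _))
    rw [← hSeq, hWC] at h3
    have h4 : Nat.card B * Nat.card ↥(W ⊔ C) = Nat.card A * Nat.card C := by
      unfold offMeasure at h1
      rw [h2] at h1
      exact h1
    exact Nat.eq_of_mul_eq_mul_right (Nat.card_pos (α := C)) (h3.symm.trans h4)
  refine ⟨W ⊔ B, sup_le (hWV.trans hVT) (inf_le_left.trans hAT),
    abelian_sup (abelian_mono hV.1 hWV) (abelian_mono hA inf_le_left)
      (le_centralizer_iff.1 inf_le_right), hcard, ?_, fun hne hbot => hne ?_⟩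
  · have hle : ⁅V, W ⊔ B⁆ ≤ W := by
      rw [commutator_comm, commutator_le]
      intro x hx v hv
      rw [← SetLike.mem_coe, sup_comm W B, coe_mul_of_left_le_normalizer_right B W
        (inf_le_right.trans (centralizer_le_normalizer _))] at hx
      obtain ⟨b, hb, w, hw, rfl⟩ := hx
      rw [comm_mul_left']
      have hwv : ⁅w, v⁆ = 1 :=
        commutatorElement_eq_one_iff_mul_comm.2 (comm_of_mem hV.1 (hWV hw) hv)
      rw [hwv]
      simpa using comm_mem_commutator_swap hb.1 hv
    refine eq_bot_iff.2 ((commutator_mono hle le_rfl).trans ?_)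
    rw [le_bot_iff, commutator_eq_bot_iff_le_centralizer, CfsgLib.PLocal.centralizer_sup]
    exact le_inf (fun x hx => centralizer_le (SetLike.coe_subset_coe.2 hWV)
      (le_centralizer_iff_isMulCommutative.2 hV.1 (hWV hx)))
      (Subgroup.le_centralizer_iff.1 inf_le_right)
  · have hbot' : ⁅V, B⁆ = ⊥ :=
      eq_bot_iff.2 ((commutator_mono le_rfl (le_sup_right : B ≤ W ⊔ B)).trans hbot.le)
    refine eq_bot_of_le_commutator (isPGroup_of_elementary hV) hAV (fun a ha => ?_) hWV ?_
    · obtain ⟨k, hk⟩ := hT ⟨a, hAT ha⟩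
      exact ⟨k, by rw [show a ^ p ^ k = 1 from congrArg Subtype.val hk]; exact one_mem _⟩
    · have hV' : V ≤ W ⊔ C := by
        rw [inf_eq_left.2 (commutator_eq_bot_iff_le_centralizer.1 hbot')] at h2
        exact h2.le
      calc W ≤ ⁅W ⊔ C, A⁆ := commutator_mono hV' le_rfl
        _ = ⁅W, A⁆ ⊔ ⁅C, A⁆ := commutator_sup_left hV.1 hAV hWV inf_le_left
        _ ≤ ⁅W, A⁆ := by
            rw [commutator_eq_bot_iff_le_centralizer.2 inf_le_right, sup_bot_eq]

/-- If all largest abelian subgroups of `P` lie in `U ≤ P`, then `J(U) = J(P)`. -/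
theorem thompsonAOf_eq_of_le [Finite G] {U P : Subgroup G} (hUP : U ≤ P)
    (h : ∀ A : Subgroup G, IsMaxIn (fun A => IsMulCommutative A) P A → A ≤ U) :
    thompsonSubgroupAOf U = thompsonSubgroupAOf P := by
  have key : ∀ T : Subgroup G, thompsonSubgroupAOf T =
      sSup {A : Subgroup G | IsMaxIn (fun A => IsMulCommutative A) T A} := by
    intro T
    rw [thompsonSubgroupAOf, thompsonSubgroupA]
    refine le_antisymm (map_le_iff_le_comap.2 (sSup_le fun A hA => map_le_iff_le_comap.1
      (le_sSup ((maxAbelian_image T).le ⟨A, hA, rfl⟩)))) (sSup_le fun A hA => ?_)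
    obtain ⟨A, hA', rfl⟩ := (maxAbelian_image T).ge hA
    exact map_mono (le_sSup hA')
  obtain ⟨A₀, hA₀⟩ := exists_maxIn (goodPred_abelian (G := G) 1) P
  rw [key, key]
  congr 1
  ext A
  constructor
  · rintro ⟨h1, h2, h3⟩
    exact ⟨h1.trans hUP, h2, fun B hB hB' => (hA₀.2.2 B hB hB').trans (h3 A₀ (h A₀ hA₀) hA₀.2.1)⟩
  · intro hA
    exact ⟨h A hA, hA.2.1, fun B hB hB' => hA.2.2 B (hB.trans hUP) hB'⟩

theorem thompsonAOf_map {H : Type*} [Group H] (f : G →* H) (S : Subgroup G)
    (hf : Disjoint S f.ker) :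
    (thompsonSubgroupAOf S).map f = thompsonSubgroupAOf (S.map f) := by
  have hinj : Function.Injective (f.subgroupMap S) := by
    rw [← MonoidHom.ker_eq_bot_iff, eq_bot_iff]
    intro x hx
    exact Subtype.ext (disjoint_def.1 hf x.2 (congrArg Subtype.val hx : f x = 1))
  let e : S ≃* S.map f :=
    MulEquiv.ofBijective _ ⟨hinj, f.subgroupMap_surjective S⟩
  rw [thompsonSubgroupAOf, thompsonSubgroupAOf, ← map_equiv_thompsonA e, map_map, map_map]
  rfl

theorem thompsonAOf_ne_bot [Finite G] {S : Subgroup G} (hS : S ≠ ⊥) :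
    thompsonSubgroupAOf S ≠ ⊥ := by
  intro h
  obtain ⟨⟨x, hx⟩, hx1⟩ := ne_bot_iff_exists_ne_one.mp hS
  obtain ⟨A, hA⟩ := exists_maxIn (goodPred_abelian (G := G) 1) S
  have hA1 : A = ⊥ := by
    rw [eq_bot_iff, ← h]
    obtain ⟨B, hB, rfl⟩ := (maxAbelian_image S).ge hA
    exact map_mono (le_sSup hB)
  have := hA.2.2 (zpowers x) (zpowers_le.2 hx) inferInstance
  rw [hA1, Subgroup.card_bot, Nat.card_zpowers] at this
  refine hx1 (Subtype.ext ?_)
  exact orderOf_eq_one_iff.1 (le_antisymm this (orderOf_pos x))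

end CfsgLib.Techniques
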