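import Cfsg.Agent.Lib.LocalEven.SFour
import Cfsg.Agent.Lib.ThreeTrans.Braid
import Cfsg.Agent.Lib.LocalEvenB.BaerSuzuki
import Cfsg.Agent.Lib.Signalizer.Basic
import Cfsg.Agent.Lib.Techniques.SectionFusion
import Cfsg.Agent.Lib.Components.FStar
import Cfsg.Agent.Lib.Core.SolvableStruct
import Cfsg.Prelude.Def_Transfer

/-!
# Elementary abelian subgroups in groups without sections `S₄`
-/

set_option autoImplicit false
set_option linter.all false

namespace CfsgLib.Techniques

open Subgroup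
open scoped commutatorElement

universe u

variable {X : Type u} [Group X] [Finite X]

/-- no element acts as an inverted element of order `3` -/
theorem mem_centralizer_of_inverted_cube (hfree : ¬ Cfsg.Involves (Equiv.Perm (Fin 4)) X)
    {E : Subgroup X} (hE : Cfsg.IsElementaryAbelian 2 E) {x y : X}
    (hx : x ∈ normalizer (E : Set X)) (hy : y ∈ normalizer (E : Set X))
    (hxy : x * y * x⁻¹ * y ∈ centralizer (E : Set X)) (h3 : y ^ 3 ∈ centralizer (E : Set X)) :
    y ∈ centralizer (E : Set X) := by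
  by_contra hyc
  set N := normalizer (E : Set X) with hN
  set C := (centralizer (E : Set X)).subgroupOf N with hC
  haveI : C.Normal := (normal_subgroupOf_iff_le_normalizer (centralizer_le_normalizer _)).2
    normalizer_le_normalizer_centralizer
  haveI : Fact (Nat.Prime 3) := ⟨Nat.prime_three⟩
  set q := QuotientGroup.mk' C with hq
  have hqy : q ⟨y, hy⟩ ≠ 1 := fun h => hyc ((QuotientGroup.eq_one_iff (⟨y, hy⟩ : N)).1 h)
  have hord : orderOf (q ⟨y, hy⟩) = 3 ^ 1 := by
    rw [pow_one]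
    refine orderOf_eq_prime ?_ hqy
    rw [← map_pow]
    exact (QuotientGroup.eq_one_iff _).2 h3
  have hinv : q ⟨x, hx⟩ * q ⟨y, hy⟩ * (q ⟨x, hx⟩)⁻¹ = (q ⟨y, hy⟩)⁻¹ := by
    rw [← map_inv q ⟨x, hx⟩, ← map_mul, ← map_mul]
    exact eq_inv_of_mul_eq_one_left (by rw [← map_mul]; exact (QuotientGroup.eq_one_iff _).2 hxy)
  obtain ⟨t, z, ⟨k, hk⟩, ⟨j, hj⟩, htz, hz⟩ := LocalEven.exists_inverting_lift q
    (QuotientGroup.mk'_surjective C) (p := 3) (by decide) ⟨1, hord⟩ hqy hinv
  obtain ⟨i, hi, hzi⟩ : ∃ i, q z ^ 3 ^ i ≠ 1 ∧ q z ^ 3 ^ (i + 1) = 1 := by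
    have hex : ∃ i, q z ^ 3 ^ i = 1 := ⟨j, by rw [← map_pow, ← hj, pow_orderOf_eq_one, map_one]⟩
    classical
    have h0 : Nat.find hex ≠ 0 := fun h0 => hz (by
      have := Nat.find_spec hex
      rwa [h0, pow_zero, pow_one] at this)
    obtain ⟨i, hi⟩ := Nat.exists_eq_succ_of_ne_zero h0
    exact ⟨i, Nat.find_min hex (by omega), by rw [← Nat.succ_eq_add_one, ← hi]; exact Nat.find_spec hex⟩
  obtain ⟨v, hv, hvz⟩ : ∃ v ∈ E, ((z ^ 3 ^ i : N) : X) * v ≠ v * ((z ^ 3 ^ i : N) : X) := by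
    by_contra hcon
    push Not at hcon
    refine hi ?_
    rw [← map_pow]
    exact (QuotientGroup.eq_one_iff _).2 (mem_centralizer_iff.2 fun v hv => (hcon v hv).symm)
  refine hfree (LocalEven.involves_four_of_elementary E (fun v hv => by rw [← pow_two, hE.2 v hv])
    (fun v hv w hw => congrArg Subtype.val (hE.1.is_comm.comm ⟨v, hv⟩ ⟨w, hw⟩))
    (x := (t : X)) (y := ((z ^ 3 ^ i : N) : X)) t.2 (SetLike.coe_mem _)
    ⟨k, by rw [← SubmonoidClass.coe_pow, ← hk, pow_orderOf_eq_one]; rfl⟩ ?_ (fun w hw => ?_)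
    ⟨v, hv, hvz⟩)
  · have : t * z ^ 3 ^ i * t⁻¹ = (z ^ 3 ^ i)⁻¹ := by rw [← conj_pow, htz, inv_pow]
    exact congrArg Subtype.val this
  · have h : (z ^ 3 ^ i) ^ 3 ∈ C := by
      rw [← QuotientGroup.eq_one_iff, ← pow_mul, ← pow_succ]
      show q (z ^ 3 ^ (i + 1)) = 1
      rw [map_pow, hzi]
    exact (mem_centralizer_iff.1 h w hw).symm

omit [Finite X] in
/-- an element of odd order modulo `C(E)` fixing a series of `E` centralizes `E` -/
theorem mem_centralizer_of_chain {E : Subgroup X} (hE : Cfsg.IsElementaryAbelian 2 E) {k : X}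
    {m : ℕ} (hm : Odd m) (hkm : k ^ m ∈ centralizer (E : Set X)) {F : Subgroup X} (hFE : F ≤ E)
    (hF : k ∈ centralizer (F : Set X)) (h : ∀ e ∈ E, e⁻¹ * (k * e * k⁻¹) ∈ F) :
    k ∈ centralizer (E : Set X) := by
  refine mem_centralizer_iff.2 fun e he => ?_
  set d := e⁻¹ * (k * e * k⁻¹) with hd
  have hkd : k * d * k⁻¹ = d := by
    rw [← mem_centralizer_iff.1 hF d (h e he), mul_inv_cancel_right]
  have hj : ∀ j : ℕ, k ^ j * e * (k ^ j)⁻¹ = e * d ^ j := by
    intro j
    induction j with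
    | zero => simp
    | succ j ih =>
      calc k ^ (j + 1) * e * (k ^ (j + 1))⁻¹ = k * (k ^ j * e * (k ^ j)⁻¹) * k⁻¹ := by
            rw [pow_succ']; group
        _ = k * e * k⁻¹ * (k * d * k⁻¹) ^ j := by rw [ih, conj_pow]; group
        _ = e * d * d ^ j := by rw [hkd]; simp [hd, mul_assoc]
        _ = e * d ^ (j + 1) := by rw [pow_succ', mul_assoc]
  have h1 : d ^ m = 1 := by
    have := hj m
    rw [← mem_centralizer_iff.1 hkm e he, mul_inv_cancel_right, left_eq_mul] at this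
    exact this
  have h2 : d = 1 := by
    obtain ⟨r, rfl⟩ := hm
    rwa [pow_succ, pow_mul, hE.2 d (hFE (h e he)), one_pow, one_mul] at h1
  have := hd.symm.trans h2
  rw [inv_mul_eq_one, eq_mul_inv_iff_mul_eq] at this
  exact this

omit [Finite X] in
theorem card_mul_relIndex' {H K : Subgroup X} (h : H ≤ K) :
    Nat.card H * H.relIndex K = Nat.card K := by
  rw [Subgroup.relIndex, ← Nat.card_congr (subgroupOfEquivOfLe h).toEquiv, card_mul_index]

omit [Finite X] in
theorem mem_of_sq_of_odd_pow {H : Subgroup X} {k : X} {m : ℕ} (hm : Odd m) (h2 : k ^ 2 ∈ H)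
    (hkm : k ^ m ∈ H) : k ∈ H := by
  obtain ⟨r, rfl⟩ := hm
  have : k = (k ^ (2 * r))⁻¹ * k ^ (2 * r + 1) := by rw [pow_succ, inv_mul_cancel_left]
  rw [this]
  exact mul_mem (inv_mem (by rw [pow_mul]; exact pow_mem h2 r)) hkm

/-- an involution inverting a nontrivial element of odd order modulo `C(E)` moves at least `4`
cosets -/
theorem four_mul_card_le
    {E : Subgroup X} (hE : Cfsg.IsElementaryAbelian 2 E) {a k : X} (ha : a ∈ normalizer (E : Set X))
    (hk : k ∈ normalizer (E : Set X)) (hak : a * k * a⁻¹ * k ∈ centralizer (E : Set X))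
    (hm : ∃ m, Odd m ∧ k ^ m ∈ centralizer (E : Set X)) (hkc : k ∉ centralizer (E : Set X))
    (hcube : k ^ 3 ∈ centralizer (E : Set X) → k ∈ centralizer (E : Set X)) :
    4 * Nat.card ↥(E ⊓ centralizer ({a} : Set X)) ≤ Nat.card E := by
  obtain ⟨m, hm, hkm⟩ := hm
  haveI : Fact (Nat.Prime 2) := ⟨Nat.prime_two⟩
  set E' := E ⊓ centralizer ({a} : Set X) with hE'
  have hmul : Nat.card E' * E'.relIndex E = Nat.card E :=
    card_mul_relIndex' (inf_le_left : E' ≤ E)
  by_contra hlt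
  have hidx : E'.relIndex E ≤ 2 := by
    obtain ⟨j, hj⟩ := IsPGroup.iff_card.1 (CfsgLib.Signalizer.elementary_isPGroup (p := 2) hE)
    obtain ⟨i, -, hi⟩ := (Nat.dvd_prime_pow Nat.prime_two).1 (hj ▸ Dvd.intro_left _ hmul)
    have h4 : E'.relIndex E < 4 := by
      by_contra h
      exact hlt (by nlinarith)
    rcases i with _ | _ | i
    · rw [hi]; decide
    · rw [hi]
      simp
    · rw [hi, pow_succ, pow_succ] at h4
      have := Nat.one_le_two_pow (n := i)
      omega
  set F := E' ⊓ E'.map (MulAut.conj k).toMonoidHom with hF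
  have hFE : F ≤ E := inf_le_left.trans inf_le_left
  have hFidx : F.relIndex E ≤ 4 := by
    have h2 : (E'.map (MulAut.conj k).toMonoidHom).relIndex E = E'.relIndex E := by
      conv_lhs => rw [← map_conj_of_mem_normalizer hk]
      exact relIndex_map_map_of_injective _ _ (MulAut.conj k).injective
    calc F.relIndex E ≤ E'.relIndex E * (E'.map (MulAut.conj k).toMonoidHom).relIndex E :=
          relIndex_inf_le
      _ ≤ 2 * 2 := by rw [h2]; exact Nat.mul_le_mul hidx hidx
  -- `k` fixes `F`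
  have hk2 : k ^ 2 ∈ centralizer (F : Set X) := by
    refine mem_centralizer_iff.2 fun e he => ?_
    obtain ⟨heE, f, hf, rfl⟩ := he
    have hae : a * (k * f * k⁻¹) * a⁻¹ = k * f * k⁻¹ := by
      rw [mul_inv_eq_iff_eq_mul]; exact mem_centralizer_singleton_iff.1 heE.2 |>.symm
    have haf : a⁻¹ * f * a = f := by
      rw [mul_assoc, mem_centralizer_singleton_iff.1 hf.2, inv_mul_cancel_left]
    have hc := mem_centralizer_iff.1 hak f hf.1
    have hkf : k⁻¹ * f * k = k * f * k⁻¹ := by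
      calc k⁻¹ * f * k = k⁻¹ * (f * (a * k * a⁻¹ * k)) * (a * k * a⁻¹ * k)⁻¹ * k := by group
        _ = k⁻¹ * ((a * k * a⁻¹ * k) * f) * (a * k * a⁻¹ * k)⁻¹ * k := by rw [hc]
        _ = k⁻¹ * (a * k * a⁻¹ * (k * f * k⁻¹) * a * k⁻¹ * a⁻¹) * k := by group
        _ = k⁻¹ * (a * k * (a⁻¹ * (a * (k * f * k⁻¹) * a⁻¹) * a) * k⁻¹ * a⁻¹) * k := by
            rw [hae]; group
        _ = k⁻¹ * (a * (k * (k * f * k⁻¹) * k⁻¹) * a⁻¹) * k := by group
        _ = k * f * k⁻¹ := by
            have h6 : k * (k * f * k⁻¹) * k⁻¹ = f := by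
              have h7 : a * k * a⁻¹ * k * f * (a * k * a⁻¹ * k)⁻¹ = f := by
                rw [← hc, mul_inv_cancel_right]
              calc k * (k * f * k⁻¹) * k⁻¹
                  = k * (a⁻¹ * (a * (k * f * k⁻¹) * a⁻¹) * a) * k⁻¹ := by group
                _ = a⁻¹ * (a * k * a⁻¹ * k * f * (a * k * a⁻¹ * k)⁻¹) * a := by rw [hae]; group
                _ = f := by rw [h7, haf]
            rw [h6, show a * f * a⁻¹ = f by
              rw [mul_inv_eq_iff_eq_mul]; exact mem_centralizer_singleton_iff.1 hf.2 |>.symm]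
            calc k⁻¹ * f * k = k⁻¹ * (k * (k * f * k⁻¹) * k⁻¹) * k := by rw [h6]
              _ = k * f * k⁻¹ := by group
    show k * f * k⁻¹ * k ^ 2 = k ^ 2 * (k * f * k⁻¹)
    calc k * f * k⁻¹ * k ^ 2 = k * (f * k) := by group
      _ = k * (k * (k⁻¹ * f * k)) := by group
      _ = k ^ 2 * (k * f * k⁻¹) := by rw [hkf, pow_two]; group
  have hkF : k ∈ centralizer (F : Set X) :=
    mem_of_sq_of_odd_pow hm hk2 (centralizer_le (SetLike.coe_subset_coe.2 hFE) hkm)
  have hkE : ∀ n : ℕ, ∀ e ∈ E, k ^ n * e * (k ^ n)⁻¹ ∈ E := fun n e he =>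
    (mem_normalizer_iff.1 (pow_mem hk n) e).1 he
  -- `k ^ 6` acts trivially on `E / F`
  have h6 : ∀ e ∈ E, e⁻¹ * (k ^ 6 * e * (k ^ 6)⁻¹) ∈ F := by
    intro e he
    set T : ℕ → X := fun d => e⁻¹ * (k ^ d * e * (k ^ d)⁻¹) with hT
    have hstep : ∀ d, T d ∈ F → ∀ u, T (u + d) = T u * T d := fun d hd u => by
      have hfix : k ^ u * T d * (k ^ u)⁻¹ = T d := by
        rw [← mem_centralizer_iff.1 (pow_mem hkF u) _ hd, mul_inv_cancel_right]
      calc T (u + d) = T u * (k ^ u * T d * (k ^ u)⁻¹) := by simp only [hT, pow_add]; group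
        _ = T u * T d := by rw [hfix]
    by_cases he0 : e ∈ F
    · have : k ^ 6 * e * (k ^ 6)⁻¹ = e := by
        rw [← mem_centralizer_iff.1 (pow_mem hkF 6) e he0, mul_inv_cancel_right]
      rw [this, inv_mul_cancel]; exact one_mem _
    let c : ℕ → ↥E ⧸ F.subgroupOf E := fun i => QuotientGroup.mk ⟨_, hkE i e he⟩
    obtain ⟨i, hi4, i', hi'4, hne, heq⟩ : ∃ i ∈ Finset.range 4, ∃ i' ∈ Finset.range 4,
        i ≠ i' ∧ c i = c i' := by
      classical
      haveI : Fintype (↥E ⧸ F.subgroupOf E) := Fintype.ofFinite _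
      refine Finset.exists_ne_map_eq_of_card_lt_of_maps_to
        (t := Finset.univ.erase (QuotientGroup.mk (1 : E))) ?_ fun i _ => ?_
      · rw [Finset.card_range, Finset.card_erase_of_mem (Finset.mem_univ _), Finset.card_univ,
          ← Nat.card_eq_fintype_card]
        have : Nat.card (↥E ⧸ F.subgroupOf E) = F.relIndex E := rfl
        omega
      · refine Finset.mem_erase.2 ⟨fun h => he0 ?_, Finset.mem_univ _⟩
        have h1 : (⟨_, hkE i e he⟩ : E)⁻¹ * 1 ∈ F.subgroupOf E := QuotientGroup.eq.1 h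
        rw [mul_one, inv_mem_iff] at h1
        have h2 : k ^ i * e * (k ^ i)⁻¹ ∈ F := h1
        have h3 := mem_centralizer_iff.1 (pow_mem hkF i) _ h2
        rw [inv_mul_cancel_right, mul_right_inj] at h3
        rwa [← h3] at h2
    have key : ∀ i i', i < i' → c i = c i' → T (i' - i) ∈ F := by
      intro i i' hlt heq
      have h1 : (k ^ i * e * (k ^ i)⁻¹)⁻¹ * (k ^ i' * e * (k ^ i')⁻¹) ∈ F :=
        (QuotientGroup.eq (s := F.subgroupOf E) (a := ⟨_, hkE i e he⟩)
          (b := ⟨_, hkE i' e he⟩)).1 heq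
      have h2 := mem_centralizer_iff.1 (pow_mem hkF i) _ h1
      obtain ⟨d, rfl⟩ := Nat.exists_eq_add_of_le hlt.le
      rw [Nat.add_sub_cancel_left]
      have e1 : (k ^ i * e * (k ^ i)⁻¹)⁻¹ * (k ^ (i + d) * e * (k ^ (i + d))⁻¹) =
          k ^ i * T d * (k ^ i)⁻¹ := by simp only [hT, pow_add]; group
      rw [e1] at h1 h2
      rw [inv_mul_cancel_right, mul_right_inj] at h2
      rwa [← h2] at h1
    obtain ⟨d, hd0, hd4, hd⟩ : ∃ d, 0 < d ∧ d < 4 ∧ T d ∈ F := by
      rw [Finset.mem_range] at hi4 hi'4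
      rcases lt_or_gt_of_ne hne with h | h
      · exact ⟨i' - i, by omega, by omega, key i i' h heq⟩
      · exact ⟨i - i', by omega, by omega, key i' i h heq.symm⟩
    have hmul : ∀ l, T (l * d) ∈ F := by
      intro l
      induction l with
      | zero => simp [hT]
      | succ l ih => rw [add_mul, one_mul, hstep d hd]; exact mul_mem ih hd
    have : T 6 ∈ F := by
      interval_cases d
      · exact hmul 6
      · exact hmul 3
      · exact hmul 2
    exact this
  have hk6 : k ^ 6 ∈ centralizer (E : Set X) := mem_centralizer_of_chain hE hm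
    (by rw [← pow_mul, Nat.mul_comm, pow_mul]; exact pow_mem hkm 6) hFE (pow_mem hkF 6) h6
  refine hkc (hcube (mem_of_sq_of_odd_pow hm ?_ ?_))
  · rw [← pow_mul]; exact hk6
  · rw [← pow_mul, Nat.mul_comm, pow_mul]; exact pow_mem hkm 3

/-- the offender bound -/
theorem pow_four_mul_card_le_of :
    ∀ (n : ℕ) (E : Subgroup X), Cfsg.IsElementaryAbelian 2 E → ∀ a k : Fin n → X,
      (∀ i, a i ∈ normalizer (E : Set X)) → (∀ i, k i ∈ normalizer (E : Set X)) →
      (∀ i, a i * a i ∈ centralizer (E : Set X)) → (∀ i j, a i * a j = a j * a i) →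
      (∀ i, a i * k i * (a i)⁻¹ * k i ∈ centralizer (E : Set X)) →
      (∀ i j, i ≠ j → a i * k j * (a i)⁻¹ * (k j)⁻¹ ∈ centralizer (E : Set X)) →
      (∀ i, ∃ m, Odd m ∧ k i ^ m ∈ centralizer (E : Set X)) →
      (∀ i, k i ∉ centralizer (E : Set X)) →
      (∀ i, ∀ F : Subgroup X, F ≤ E → a i ∈ normalizer (F : Set X) → k i ∈ normalizer (F : Set X) →
        a i * k i * (a i)⁻¹ * k i ∈ centralizer (F : Set X) → a i * a i ∈ centralizer (F : Set X) →
        k i ^ 3 ∈ centralizer (F : Set X) → k i ∈ centralizer (F : Set X)) →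
      4 ^ n * Nat.card ↥(E ⊓ centralizer (Set.range a)) ≤ Nat.card E := by
  intro n
  induction n with
  | zero =>
    intro E _ a k _ _ _ _ _ _ _ _ _
    rw [pow_zero, one_mul]
    exact Subgroup.card_le_of_le inf_le_left
  | succ n ih =>
    intro E hE a k haN hkN ha2 hac hak hakj hm hkc hcube
    set E' := E ⊓ centralizer ({a 0} : Set X) with hE'
    have hE'e : Cfsg.IsElementaryAbelian 2 E' :=
      CfsgLib.Signalizer.elementary_of_le (p := 2) hE inf_le_left
    have hcle : centralizer (E : Set X) ≤ centralizer (E' : Set X) :=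
      centralizer_le (SetLike.coe_subset_coe.2 inf_le_left)
    have hN' : ∀ g ∈ normalizer (E : Set X),
        (∀ e ∈ E', a 0 * (g * e * g⁻¹) = g * e * g⁻¹ * a 0) → g ∈ normalizer (E' : Set X) := by
      intro g hg h
      refine mem_normalizer_of_map_conj_eq (eq_of_le_of_card_ge ?_ (card_map_conj E' g).ge)
      rintro _ ⟨e, he, rfl⟩
      exact ⟨(mem_normalizer_iff.1 hg e).1 he.1, mem_centralizer_singleton_iff.2 (h e he).symm⟩
    have ha' : ∀ i : Fin n, a i.succ ∈ normalizer (E' : Set X) := fun i =>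
      hN' _ (haN _) fun e he => by
        calc a 0 * (a i.succ * e * (a i.succ)⁻¹)
            = a 0 * a i.succ * e * (a i.succ)⁻¹ := by group
          _ = a i.succ * (a 0 * e) * (a i.succ)⁻¹ := by rw [hac 0 i.succ]; group
          _ = a i.succ * (e * a 0) * (a i.succ)⁻¹ := by
              rw [mem_centralizer_singleton_iff.1 he.2]
          _ = a i.succ * e * (a 0 * (a i.succ)⁻¹) := by group
          _ = a i.succ * e * (a i.succ)⁻¹ * a 0 := by
              rw [show a 0 * (a i.succ)⁻¹ = (a i.succ)⁻¹ * a 0 from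
                (Commute.inv_right (hac 0 i.succ)).eq]; group
    have hswap : ∀ (i : Fin n) (e : X), e ∈ E →
        a 0 * (k i.succ * e * (k i.succ)⁻¹) * (a 0)⁻¹ =
          k i.succ * (a 0 * e * (a 0)⁻¹) * (k i.succ)⁻¹ := by
      intro i e he
      have he' : k i.succ * (a 0 * e * (a 0)⁻¹) * (k i.succ)⁻¹ ∈ E :=
        (mem_normalizer_iff.1 (hkN _) _).1 ((mem_normalizer_iff.1 (haN 0) _).1 he)
      have h1 := mem_centralizer_iff.1 (hakj 0 i.succ (Fin.succ_ne_zero i).symm) _ he'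
      set c := a 0 * k i.succ * (a 0)⁻¹ * (k i.succ)⁻¹ with hc
      calc a 0 * (k i.succ * e * (k i.succ)⁻¹) * (a 0)⁻¹
          = c * (k i.succ * (a 0 * e * (a 0)⁻¹) * (k i.succ)⁻¹) * c⁻¹ := by rw [hc]; group
        _ = _ := by rw [← h1, mul_inv_cancel_right]
    have hk' : ∀ i : Fin n, k i.succ ∈ normalizer (E' : Set X) := fun i =>
      hN' _ (hkN _) fun e he => by
        rw [← mul_inv_eq_iff_eq_mul, hswap i e he.1, show a 0 * e * (a 0)⁻¹ = e by
          rw [← mem_centralizer_singleton_iff.1 he.2, mul_inv_cancel_right]]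
    have hkc' : ∀ i : Fin n, k i.succ ∉ centralizer (E' : Set X) := by
      intro i hi
      obtain ⟨m, hm1, hm2⟩ := hm i.succ
      refine hkc i.succ (mem_centralizer_of_chain hE hm1 hm2 (F := E') inf_le_left hi fun e he => ?_)
      set K := k i.succ with hK
      have hae : a 0 * e * (a 0)⁻¹ ∈ E := (mem_normalizer_iff.1 (haN 0) _).1 he
      have hai : (a 0)⁻¹ * e * a 0 = a 0 * e * (a 0)⁻¹ := by
        calc (a 0)⁻¹ * e * a 0 = (a 0)⁻¹ * (e * (a 0 * a 0)) * (a 0)⁻¹ := by group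
          _ = (a 0)⁻¹ * (a 0 * a 0 * e) * (a 0)⁻¹ := by rw [mem_centralizer_iff.1 (ha2 0) e he]
          _ = a 0 * e * (a 0)⁻¹ := by group
      have hcomm : ∀ v ∈ E, ∀ w ∈ E, v * w = w * v := fun v hv w hw =>
        congrArg Subtype.val (hE.1.is_comm.comm ⟨v, hv⟩ ⟨w, hw⟩)
      have hinvE : ∀ v ∈ E, v⁻¹ = v := fun v hv =>
        inv_eq_of_mul_eq_one_right (by rw [← pow_two]; exact hE.2 v hv)
      set s := e * (a 0 * e * (a 0)⁻¹) with hs
      have hsE' : s ∈ E' := by
        refine ⟨E.mul_mem he hae, mem_centralizer_singleton_iff.2 ?_⟩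
        calc s * a 0 = (e * (a 0 * e * (a 0)⁻¹)) * a 0 := rfl
          _ = (a 0 * e * (a 0)⁻¹ * e) * a 0 := by rw [hcomm e he _ hae]
          _ = a 0 * e * ((a 0)⁻¹ * e * a 0) := by group
          _ = a 0 * (e * (a 0 * e * (a 0)⁻¹)) := by rw [hai]; group
      have hKs : K * s * K⁻¹ = s := by
        rw [← mem_centralizer_iff.1 hi s hsE', mul_inv_cancel_right]
      set d := e⁻¹ * (K * e * K⁻¹) with hd
      have hKe : K * e * K⁻¹ ∈ E := (mem_normalizer_iff.1 (hkN _) _).1 he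
      have hdE : d ∈ E := E.mul_mem (E.inv_mem he) hKe
      refine ⟨hdE, mem_centralizer_singleton_iff.2 ?_⟩
      have h1 : K * e * K⁻¹ * (a 0 * (K * e * K⁻¹) * (a 0)⁻¹) = s := by
        rw [hswap i e he]
        calc _ = K * s * K⁻¹ := by rw [hs, hK]; group
          _ = s := hKs
      have hKae : a 0 * (K * e * K⁻¹) * (a 0)⁻¹ ∈ E := (mem_normalizer_iff.1 (haN 0) _).1 hKe
      have h2 : a 0 * d * (a 0)⁻¹ = d := by
        calc a 0 * d * (a 0)⁻¹
            = (a 0 * e * (a 0)⁻¹)⁻¹ * (a 0 * (K * e * K⁻¹) * (a 0)⁻¹) := by rw [hd]; group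
          _ = (a 0 * e * (a 0)⁻¹)⁻¹ * ((K * e * K⁻¹)⁻¹ * s) := by rw [← h1]; group
          _ = (a 0 * e * (a 0)⁻¹) * ((K * e * K⁻¹) * (e * (a 0 * e * (a 0)⁻¹))) := by
              rw [hinvE _ hae, hinvE _ hKe]
          _ = (a 0 * e * (a 0)⁻¹) * ((K * e * K⁻¹ * e) * (a 0 * e * (a 0)⁻¹)) := by group
          _ = (a 0 * e * (a 0)⁻¹) * ((a 0 * e * (a 0)⁻¹) * (K * e * K⁻¹ * e)) := by
              rw [hcomm _ (E.mul_mem hKe he) _ hae]
          _ = (a 0 * e * (a 0)⁻¹) * (a 0 * e * (a 0)⁻¹) * (K * e * K⁻¹ * e) := by group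
          _ = K * e * K⁻¹ * e := by rw [← pow_two, hE.2 _ hae, one_mul]
          _ = d := by rw [hd, hinvE e he, hcomm _ hKe e he]
      exact (mul_inv_eq_iff_eq_mul.1 h2).symm
    have h0 := four_mul_card_le hE (haN 0) (hkN 0) (hak 0) (hm 0) (hkc 0)
      (hcube 0 E le_rfl (haN 0) (hkN 0) (hak 0) (ha2 0))
    have hrest := ih E' hE'e (fun i => a i.succ) (fun i => k i.succ) ha' hk'
      (fun i => hcle (ha2 _)) (fun i j => hac _ _) (fun i => hcle (hak _))
      (fun i j hij => hcle (hakj _ _ (fun h => hij (Fin.succ_injective _ h))))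
      (fun i => (hm i.succ).imp fun m h => ⟨h.1, hcle h.2⟩) hkc'
      (fun i F hF => hcube i.succ F (hF.trans inf_le_left))
    have hle : Nat.card ↥(E ⊓ centralizer (Set.range a)) ≤
        Nat.card ↥(E' ⊓ centralizer (Set.range fun i : Fin n => a i.succ)) :=
      Subgroup.card_le_of_le (le_inf (inf_le_inf_left _ (centralizer_le (Set.singleton_subset_iff.2
        ⟨0, rfl⟩))) (inf_le_right.trans (centralizer_le (by rintro _ ⟨i, rfl⟩; exact ⟨i.succ, rfl⟩))))
    calc 4 ^ (n + 1) * Nat.card ↥(E ⊓ centralizer (Set.range a))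
        = 4 * (4 ^ n * Nat.card ↥(E ⊓ centralizer (Set.range a))) := by rw [pow_succ']; ring
      _ ≤ 4 * Nat.card E' :=
          Nat.mul_le_mul_left 4 ((Nat.mul_le_mul_left _ hle).trans hrest)
      _ ≤ Nat.card E := h0

/-- the offender bound without sections `S₄` -/
theorem pow_four_mul_card_le (hfree : ¬ Cfsg.Involves (Equiv.Perm (Fin 4)) X)
    (n : ℕ) (E : Subgroup X) (hE : Cfsg.IsElementaryAbelian 2 E) (a k : Fin n → X)
    (haN : ∀ i, a i ∈ normalizer (E : Set X)) (hkN : ∀ i, k i ∈ normalizer (E : Set X))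
    (ha2 : ∀ i, a i * a i ∈ centralizer (E : Set X)) (hac : ∀ i j, a i * a j = a j * a i)
    (hak : ∀ i, a i * k i * (a i)⁻¹ * k i ∈ centralizer (E : Set X))
    (hakj : ∀ i j, i ≠ j → a i * k j * (a i)⁻¹ * (k j)⁻¹ ∈ centralizer (E : Set X))
    (hm : ∀ i, ∃ m, Odd m ∧ k i ^ m ∈ centralizer (E : Set X))
    (hkc : ∀ i, k i ∉ centralizer (E : Set X)) :
    4 ^ n * Nat.card ↥(E ⊓ centralizer (Set.range a)) ≤ Nat.card E :=
  pow_four_mul_card_le_of n E hE a k haN hkN ha2 hac hak hakj hm hkc fun i F hF ha hk h1 _ h3 =>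
    mem_centralizer_of_inverted_cube hfree (CfsgLib.Signalizer.elementary_of_le (p := 2) hE hF)
      ha hk h1 h3

/-- an inverted element of order `3` on a subgroup gives a section `S₃` -/
theorem mem_centralizer_of_cube_sthree {M E : Subgroup X}
    (hfree : ¬ Cfsg.Involves (Equiv.Perm (Fin 3)) M) {x y : X} (hxM : x ∈ M) (hyM : y ∈ M)
    (hx : x ∈ normalizer (E : Set X)) (hy : y ∈ normalizer (E : Set X))
    (hxy : x * y * x⁻¹ * y ∈ centralizer (E : Set X)) (hxx : x * x ∈ centralizer (E : Set X))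
    (h3 : y ^ 3 ∈ centralizer (E : Set X)) : y ∈ centralizer (E : Set X) := by
  by_contra hyc
  set N := (normalizer (E : Set X)).subgroupOf M with hN
  set C := ((centralizer (E : Set X)).subgroupOf M).subgroupOf N with hC
  haveI : C.Normal := ⟨fun c hc g => by
    have hg : ((g : M) : X) ∈ normalizer ((centralizer (E : Set X) : Subgroup X) : Set X) :=
      normalizer_le_normalizer_centralizer g.2
    exact (mem_normalizer_iff.1 hg _).1 hc⟩
  set q := QuotientGroup.mk' C with hq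
  have hq1 : ∀ g : N, q g = 1 ↔ ((g : M) : X) ∈ centralizer (E : Set X) := fun g =>
    QuotientGroup.eq_one_iff g
  let a : N := ⟨⟨x, hxM⟩, hx⟩
  let k : N := ⟨⟨y, hyM⟩, hy⟩
  have ea : q a * q a = 1 := by rw [← map_mul, hq1]; exact hxx
  have ek : q k ^ 3 = 1 := by rw [← map_pow, hq1]; exact h3
  have einv : q a * q k * q a = (q k)⁻¹ := by
    have h : q a * q k * (q a)⁻¹ * q k = 1 := by
      rw [← map_inv, ← map_mul, ← map_mul, ← map_mul, hq1]; exact hxy
    rw [inv_eq_of_mul_eq_one_right ea] at h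
    exact eq_inv_of_mul_eq_one_left h
  have ekk : q k * q k = (q k)⁻¹ :=
    eq_inv_of_mul_eq_one_left (by rw [← ek, pow_succ, pow_two])
  have eb : (q a * q k) * (q a * q k) = 1 := by
    rw [← mul_assoc, einv, inv_mul_cancel]
  have hbraid : q a * (q a * q k) * q a = (q a * q k) * q a * (q a * q k) := by
    calc q a * (q a * q k) * q a = q k * q a := by rw [← mul_assoc (q a), ea, one_mul]
      _ = q a * (q a * q k * q a) := by
          rw [← mul_assoc, ← mul_assoc, ea, one_mul]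
      _ = q a * (q k * q k) := by rw [einv, ekk]
      _ = _ := by
          rw [mul_assoc (q a * q k), ← mul_assoc (q a) (q a), ea, one_mul, mul_assoc]
  obtain ⟨φ, hφa, hφb⟩ := CfsgLib.ThreeTrans.exists_hom_perm_three ea eb hbraid
  have hinj : Function.Injective φ := CfsgLib.ThreeTrans.injective_of_perm_three φ (by
    rw [map_mul, hφa, hφb, ← mul_assoc, ea, one_mul, Ne, hq1]
    exact hyc)
  refine hfree (CfsgLib.Fusion.involves_of_surjective (N.subtype.comp (φ.range.comap q).subtype)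
    (N.subtype_injective.comp (φ.range.comap q).subtype_injective)
    ((MonoidHom.ofInjective hinj).symm.toMonoidHom.comp (q.subgroupComap φ.range))
    ((MonoidHom.ofInjective hinj).symm.surjective.comp
      (q.subgroupComap_surjective_of_surjective φ.range (QuotientGroup.mk'_surjective C))))

/-- a basis of `A` dual to elements of a normal subgroup of odd order containing its centralizer -/
theorem exists_dual_family {M : Type u} [Group M] [Finite M] (K : Subgroup M) [K.Normal]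
    (hodd : Odd (Nat.card K)) (hCK : centralizer (K : Set M) ≤ K) (A : Subgroup M)
    (hA : Cfsg.IsElementaryAbelian 2 A) :
    ∃ (n : ℕ) (a k : Fin n → M), Nat.card A ≤ 2 ^ n ∧ (∀ i, a i ∈ A) ∧ (∀ i, k i ∈ K) ∧
      (∀ i, k i ≠ 1) ∧ (∀ i, a i * k i * (a i)⁻¹ = (k i)⁻¹) ∧
      ∀ i j, i ≠ j → a i * k j = k j * a i := by
  classical
  haveI : Fintype (Subgroup M) := Fintype.ofFinite _
  haveI : Fact (Nat.Prime 2) := ⟨Nat.prime_two⟩
  let 𝔅 : Finset (Subgroup M) := Finset.univ.filter fun B => B ≤ A ∧ B.relIndex A ≤ 2 ∧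
    ∃ x ∈ K, x ∈ centralizer (B : Set M) ∧ x ∉ centralizer (A : Set M)
  have hbot : A ⊓ 𝔅.inf id = ⊥ := by
    set D := A ⊓ 𝔅.inf id with hD
    have hKD : K ≤ centralizer (D : Set M) := by
      refine CfsgLib.Signalizer.le_of_hyperplanes_le (p := 2) hA
        (fun h => (Nat.not_even_iff_odd.2 hodd) (even_iff_two_dvd.2 h))
        (by rw [normalizer_eq_top]; exact le_top) fun B hBA hB x hx => ?_
      by_cases hxA : x ∈ centralizer (A : Set M)
      · exact centralizer_le (SetLike.coe_subset_coe.2 inf_le_left) hxA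
      · have hmem : B ∈ 𝔅 := Finset.mem_filter.2 ⟨Finset.mem_univ _, hBA, hB, x, hx.1, hx.2, hxA⟩
        exact centralizer_le (SetLike.coe_subset_coe.2
          (inf_le_right.trans (Finset.inf_le (f := id) hmem))) hx.2
    have hDK : D ≤ K := (le_centralizer_iff.1 hKD).trans hCK
    refine (Subgroup.eq_bot_iff_forall _).2 fun d hd => ?_
    have h1 : orderOf d ∣ Nat.card K := orderOf_dvd_natCard K (hDK hd)
    have h2 : orderOf d ∣ 2 := orderOf_dvd_of_pow_eq_one (hA.2 d hd.1)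
    rw [← orderOf_eq_one_iff]
    exact Nat.eq_one_of_dvd_coprimes (Nat.coprime_two_left.2 hodd) h2 h1
  obtain ⟨F, hF, hmin⟩ := Finset.exists_min_image
    (Finset.univ.filter fun F : Finset (Subgroup M) => F ⊆ 𝔅 ∧ A ⊓ F.inf id = ⊥) Finset.card
    ⟨𝔅, Finset.mem_filter.2 ⟨Finset.mem_univ _, subset_rfl, hbot⟩⟩
  obtain ⟨-, hF𝔅, hFbot⟩ := Finset.mem_filter.1 hF
  have hprop : ∀ B ∈ F, ∃ a x : M, a ∈ A ∧ a ∉ B ∧ (∀ B' ∈ F, B' ≠ B → a ∈ B') ∧ B.relIndex A ≤ 2 ∧
      B ≤ A ∧ x ∈ K ∧ x ∈ centralizer (B : Set M) ∧ x ∉ centralizer (A : Set M) := by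
    intro B hB
    obtain ⟨-, hBA, hBi, x, hxK, hxB, hxA⟩ := Finset.mem_filter.1 (hF𝔅 hB)
    have hne : A ⊓ (F.erase B).inf id ≠ ⊥ := fun h => by
      have := hmin (F.erase B) (Finset.mem_filter.2
        ⟨Finset.mem_univ _, (Finset.erase_subset _ _).trans hF𝔅, h⟩)
      have := Finset.card_erase_lt_of_mem hB
      omega
    haveI := (nontrivial_iff_ne_bot _).2 hne
    obtain ⟨⟨a, ha⟩, ha1⟩ := exists_ne (1 : ↥(A ⊓ (F.erase B).inf id))
    refine ⟨a, x, ha.1, fun haB => ha1 (Subtype.ext ?_), fun B' hB' hne' =>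
      Finset.inf_le (f := id) (Finset.mem_erase.2 ⟨hne', hB'⟩) ha.2, hBi, hBA, hxK, hxB, hxA⟩
    have : a ∈ A ⊓ F.inf id := by
      rw [← Finset.insert_erase hB, Finset.inf_insert]
      exact ⟨ha.1, haB, ha.2⟩
    rw [hFbot] at this
    exact mem_bot.1 this
  choose af xf h using hprop
  let e : Fin F.card ≃ F := F.equivFin.symm
  let a : Fin F.card → M := fun i => af _ (e i).2
  let x : Fin F.card → M := fun i => xf _ (e i).2
  have hab : ∀ u ∈ A, ∀ v ∈ A, u * v = v * u := fun u hu v hv =>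
    congrArg Subtype.val (hA.1.is_comm.comm ⟨u, hu⟩ ⟨v, hv⟩)
  refine ⟨F.card, a, fun i => (x i)⁻¹ * (a i * x i * (a i)⁻¹), ?_, fun i => (h _ (e i).2).1,
    fun i => K.mul_mem (K.inv_mem (h _ (e i).2).2.2.2.2.2.1)
      ((inferInstance : K.Normal).conj_mem _ (h _ (e i).2).2.2.2.2.2.1 _), fun i hi => ?_,
    fun i => ?_, fun i j hij => ?_⟩
  · have hle : ∀ F' : Finset (Subgroup M), (∀ B ∈ F', B.relIndex A ≤ 2) →
        (F'.inf id).relIndex A ≤ 2 ^ F'.card := by
      intro F'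
      induction F' using Finset.induction with
      | empty => intro _; simp
      | insert B F' hB ih =>
        intro hs
        rw [Finset.inf_insert, Finset.card_insert_of_notMem hB, pow_succ']
        exact relIndex_inf_le.trans (Nat.mul_le_mul (hs B (Finset.mem_insert_self _ _))
          (ih fun B' hB' => hs B' (Finset.mem_insert_of_mem hB')))
    have := hle F fun B hB => (h B hB).2.2.2.1
    rwa [← inf_relIndex_right, inf_comm, hFbot, relIndex_bot_left] at this
  · obtain ⟨haA, haB, -, hBi, hBA, hxK, hxB, hxA⟩ := h _ (e i).2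
    have hax : x i * a i = a i * x i := by
      rw [inv_mul_eq_one, eq_mul_inv_iff_mul_eq] at hi
      exact hi
    refine hxA (mem_centralizer_iff.2 fun u hu => ?_)
    -- `A = B ∪ a B`
    have hu' : u ∈ ((e i : Subgroup M)) ∨ (a i)⁻¹ * u ∈ (e i : Subgroup M) := by
      by_contra hcon
      push Not at hcon
      set B : Subgroup M := (e i : Subgroup M)
      haveI : Fintype (↥A ⧸ B.subgroupOf A) := Fintype.ofFinite _
      have hc : Fintype.card (↥A ⧸ B.subgroupOf A) ≤ 2 := by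
        rw [← Nat.card_eq_fintype_card]; exact hBi
      have h01 : (QuotientGroup.mk (1 : A) : ↥A ⧸ B.subgroupOf A) ≠ QuotientGroup.mk ⟨a i, haA⟩ :=
        fun h' => haB (by
          have := (QuotientGroup.eq.1 h' : (1 : A)⁻¹ * ⟨a i, haA⟩ ∈ B.subgroupOf A)
          rw [inv_one, one_mul] at this
          exact this)
      have h02 : (QuotientGroup.mk (1 : A) : ↥A ⧸ B.subgroupOf A) ≠ QuotientGroup.mk ⟨u, hu⟩ :=
        fun h' => hcon.1 (by
          have := (QuotientGroup.eq.1 h' : (1 : A)⁻¹ * ⟨u, hu⟩ ∈ B.subgroupOf A)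
          rw [inv_one, one_mul] at this
          exact this)
      have h12 : (QuotientGroup.mk ⟨a i, haA⟩ : ↥A ⧸ B.subgroupOf A) ≠ QuotientGroup.mk ⟨u, hu⟩ :=
        fun h' => hcon.2 (QuotientGroup.eq.1 h' : (⟨a i, haA⟩ : A)⁻¹ * ⟨u, hu⟩ ∈ B.subgroupOf A)
      have h3 : ({QuotientGroup.mk (1 : A), QuotientGroup.mk (⟨a i, haA⟩ : A),
          QuotientGroup.mk (⟨u, hu⟩ : A)} : Finset (↥A ⧸ B.subgroupOf A)).card = 3 :=
        Finset.card_eq_three.2 ⟨_, _, _, h01, h02, h12, rfl⟩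
      have := h3 ▸ Finset.card_le_univ ({QuotientGroup.mk (1 : A), QuotientGroup.mk (⟨a i, haA⟩ : A),
          QuotientGroup.mk (⟨u, hu⟩ : A)} : Finset (↥A ⧸ B.subgroupOf A))
      omega
    rcases hu' with hu' | hu'
    · exact mem_centralizer_iff.1 hxB u hu'
    · have h1 : (a i)⁻¹ * u * x i = x i * ((a i)⁻¹ * u) := mem_centralizer_iff.1 hxB _ hu'
      show u * x i = x i * u
      calc u * x i = a i * ((a i)⁻¹ * u * x i) := by group
        _ = a i * (x i * ((a i)⁻¹ * u)) := by rw [h1]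
        _ = x i * a i * ((a i)⁻¹ * u) := by rw [hax]; group
        _ = _ := by group
  · have ha2 : a i * a i = 1 := by rw [← pow_two]; exact hA.2 _ (h _ (e i).2).1
    have hai : (a i)⁻¹ = a i := inv_eq_of_mul_eq_one_right ha2
    show a i * ((x i)⁻¹ * (a i * x i * (a i)⁻¹)) * (a i)⁻¹ = ((x i)⁻¹ * (a i * x i * (a i)⁻¹))⁻¹
    calc a i * ((x i)⁻¹ * (a i * x i * (a i)⁻¹)) * (a i)⁻¹
        = a i * (x i)⁻¹ * a i * x i * ((a i)⁻¹ * (a i)⁻¹) := by group
      _ = a i * (x i)⁻¹ * (a i)⁻¹ * x i := by rw [← mul_inv_rev, ha2, inv_one, mul_one, hai]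
      _ = _ := by group
  · have hai : a i ∈ (e j : Subgroup M) := (h _ (e i).2).2.2.1 _ (e j).2
      (fun hh => hij (e.injective (Subtype.ext hh.symm)))
    have h1 : a i * x j = x j * a i := mem_centralizer_iff.1 (h _ (e j).2).2.2.2.2.2.2.1 _ hai
    have h2 : a i * a j = a j * a i := hab _ (h _ (e i).2).1 _ (h _ (e j).2).1
    have c1 : Commute (a i) (x j) := h1
    have c2 : Commute (a i) (a j) := h2
    exact (c1.inv_right.mul_right ((c2.mul_right c1).mul_right c2.inv_right)).eq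

end CfsgLib.Techniques
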