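import Cfsg.Agent.Lib.PLocal.NormalPComplementThms
import Cfsg.Agent.Lib.Techniques.Sections

/-!
# Reduction of normal `p`-complement criteria inside a section-closed class

The argument of `PLocal.ComplementReduction` with the induction restricted to sections of a fixed
group, without the final quadratic-action step (valid at `p = 2` as well).
-/

set_option autoImplicit false
set_option linter.all false

open scoped commutatorElement

universe w

namespace CfsgLib.Techniques

open Subgroup Cfsg CfsgLib.PLocal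

/-- The configuration left by the reduction. -/
structure ConfigFree {K : Type w} [Group K] (p : ℕ) (P : Sylow p K) : Prop where
  centralizer_le : centralizer (pCore p K : Set K) ≤ pCore p K
  dich : ∀ N : Subgroup K, N.Normal → N ≤ pCore p K ∨ N ⊔ (P : Subgroup K) = ⊤
  exists_coprime : ∃ T : Subgroup K, (Nat.card T).Coprime p ∧ (pCore p K ⊔ T).Normal ∧
    T ⊔ (P : Subgroup K) = ⊤ ∧ IsMulCommutative T
  exists_odd : ∃ M : Subgroup (K ⧸ pCore p K), M.Normal ∧ (Nat.card M).Coprime p ∧
    centralizer (M : Set (K ⧸ pCore p K)) ≤ M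
  solvable : Group.IsSolvable K

variable {G : Type w} [Group G] {p : ℕ}

variable [Fact p.Prime]

/-- `G` has no normal complement, its local subgroups do, and the criterion holds below `G`. -/
structure MinimalIn (G₀ : Type w) [Group G₀] (𝓛 : Set (Loc.{w} p)) [Finite G] (P : Sylow p G) :
    Prop where
  locals : ∀ L ∈ 𝓛, HasNormalPComplement p (L.M (P : Subgroup G))
  no : ¬ HasNormalPComplement p G
  sec : IsSec G₀ G
  ih : ∀ (K : Type w) [Group K] [Finite K], IsSec G₀ K → Nat.card K < Nat.card G → ∀ Q : Sylow p K,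
    (∀ L ∈ 𝓛, HasNormalPComplement p (L.M (Q : Subgroup K))) → HasNormalPComplement p K

variable [Finite G] {G₀ : Type w} [Group G₀] {𝓛 : Set (Loc.{w} p)} {P : Sylow p G}

theorem MinimalIn.pPrimeCore_eq_bot (hmin : MinimalIn G₀ 𝓛 P) : pPrimeCore p G = ⊥ := by
  by_contra hne
  apply hmin.no
  have hN := CfsgLib.Core.coprime_card_pPrimeCore p G
  refine npc_of_quotient _ hN (hmin.ih _ (hmin.sec.quotient _) (CfsgLib.Core.card_quotient_lt _ hne)
    (P.mapSurjective (QuotientGroup.mk'_surjective (pPrimeCore p G))) fun L hL => ?_)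
  rw [Sylow.coe_mapSurjective]
  exact npc_of_le (L.M_quot _ hN _ P.2) (npc_map _ (hmin.locals L hL))

/-- A proper subgroup containing `P` has a normal complement. -/
theorem MinimalIn.npc_of_sylow_le (hmin : MinimalIn G₀ 𝓛 P) {U : Subgroup G} (hU : U ≠ ⊤)
    (hPU : (P : Subgroup G) ≤ U) : HasNormalPComplement p U := by
  refine hmin.ih U (hmin.sec.subgroup U) (CfsgLib.Core.card_subgroup_lt U hU) (P.subtype hPU) fun L hL => ?_
  rw [Sylow.coe_subtype]
  exact npc_of_map_subtype (npc_of_le (L.M_sub U _ hPU) (hmin.locals L hL))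

/-- `G` has a nontrivial normal `p`-subgroup, and larger `p`-subgroups normalised by `P` have
normalisers with normal complements. -/
theorem MinimalIn.pCore_ne_bot (hmin : MinimalIn G₀ 𝓛 P) :
    pCore p G ≠ ⊥ ∧ ∀ X : Subgroup G, IsPGroup p X → pCore p G < X →
      (P : Subgroup G) ≤ normalizer (X : Set G) → HasNormalPComplement p (normalizer (X : Set G)) := by
  classical
  let bad : Set (Subgroup G) :=
    {X | IsPGroup p X ∧ X ≠ ⊥ ∧ ¬ HasNormalPComplement p (normalizer (X : Set G))}
  have hne : bad.Nonempty := by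
    by_contra hb
    rw [Set.not_nonempty_iff_eq_empty] at hb
    apply hmin.no
    refine (CfsgLib.Transfer.hasNormalPComplement_iff_centralizes P).mpr fun Q hQ g hg hc => ?_
    by_cases hQb : Q = ⊥
    · subst hQb
      exact mem_centralizer_iff.mpr fun x hx => by
        rw [show x = 1 from hx, one_mul, mul_one]
    have hnpc : HasNormalPComplement p (normalizer (Q : Set G)) := by
      by_contra h
      exact (Set.eq_empty_iff_forall_notMem.mp hb Q) ⟨P.2.to_le hQ, hQb, h⟩
    haveI : (Q.subgroupOf (normalizer (Q : Set G))).Normal := normal_in_normalizer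
    have := CfsgLib.Transfer.mem_centralizer_of_hasNormalPComplement hnpc
      (Q := Q.subgroupOf (normalizer (Q : Set G))) ((P.2.to_le hQ).comap_subtype) (g := ⟨g, hg⟩)
      (Subgroup.le_normalizer_of_normal (K := ⊤) (mem_top _)) (by rw [Subgroup.orderOf_mk]; exact hc)
    rw [mem_centralizer_iff] at this ⊢
    intro x hx
    exact congrArg Subtype.val (this ⟨x, le_normalizer hx⟩ (mem_subgroupOf.mpr hx))
  obtain ⟨H, ⟨hHp, hHb, hHno⟩, hmax⟩ := Set.exists_max_image bad
    (fun X => pPart p (normalizer (X : Set G)) * (Nat.card G + 1) + Nat.card X) (Set.toFinite _) hne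
  have hcmp : ∀ X : Subgroup G, X ∈ bad →
      pPart p (normalizer (X : Set G)) ≤ pPart p (normalizer (H : Set G)) := by
    intro X hX
    by_contra hlt
    push Not at hlt
    have h1 := hmax X hX
    have h2 : Nat.card H ≤ Nat.card G := Subgroup.card_le_card_group H
    have h3 := Nat.mul_le_mul_right (Nat.card G + 1) (Nat.succ_le_of_lt hlt)
    rw [Nat.succ_mul] at h3
    omega
  have hNtop : normalizer (H : Set G) = ⊤ := by
    by_contra htop
    obtain ⟨T, hHT, hTN, hTp, hTi⟩ := CfsgLib.Transfer.exists_sylow_of_le (le_normalizer (H := H)) hHp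
    obtain ⟨R, hR⟩ := hTp.exists_le_sylow
    obtain ⟨g, hg⟩ := MulAction.exists_smul_eq G R P
    generalize hφ : (MulAut.conj g).toMonoidHom = φ
    have hinj : Function.Injective φ := hφ ▸ (MulAut.conj g).injective
    have hNmap : normalizer ((H.map φ : Subgroup G) : Set G) = (normalizer (H : Set G)).map φ := by
      rw [← hφ]; exact CfsgLib.Transfer.normalizer_map_conj g H
    generalize hU : normalizer ((H.map φ : Subgroup G) : Set G) = U at hNmap
    have hQU : T.map φ ≤ U := hNmap ▸ map_mono hTN
    have hQP : T.map φ ≤ (P : Subgroup G) := by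
      rw [← hg, Sylow.coe_subgroup_smul, ← hφ]
      exact map_mono hR
    have hQp : IsPGroup p (T.map φ) := hTp.map φ
    have hQi : ¬ p ∣ (T.map φ).relIndex U := by
      rw [hNmap, relIndex_map_map_of_injective _ _ hinj]
      exact hTi
    have hUne : U ≠ ⊤ := by
      intro h
      apply htop
      refine Subgroup.map_injective hinj ?_
      rw [← hNmap, h, ← hφ]
      exact (map_top_of_surjective _ (MulAut.conj g).surjective).symm
    have hnpcU : HasNormalPComplement p U := by
      refine hmin.ih U (hmin.sec.subgroup U) (CfsgLib.Core.card_subgroup_lt U hUne)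
        ((hQp.comap_subtype (K := U)).toSylow hQi) fun L hL => ?_
      show HasNormalPComplement p (L.M ((T.map φ).subgroupOf U))
      refine npc_of_map_subtype (npc_of_le (L.M_sub U _ hQU) ?_)
      by_cases hQeq : T.map φ = (P : Subgroup G)
      · rw [hQeq]; exact hmin.locals L hL
      refine npc_of_le (L.M_le _) ?_
      by_contra hno
      have hTb : T.map φ ≠ ⊥ := by
        rw [Ne, map_eq_bot_iff_of_injective _ hinj]
        exact fun h => hHb (le_bot_iff.mp (h ▸ hHT))
      have hbad : L.W (T.map φ) ∈ bad := ⟨hQp.to_le (L.W_le _), L.W_ne _ hQp hTb, hno⟩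
      have h1 := CfsgLib.Transfer.lt_inf_normalizer P.2 (lt_of_le_of_ne hQP hQeq)
      have h2 := CfsgLib.Transfer.card_lt_of_lt h1
      have h3 := card_le_pPart (U := normalizer ((L.W (T.map φ) : Subgroup G) : Set G))
        (P.2.to_le inf_le_left) (inf_le_right.trans (L.W_normalizer (T.map φ)))
      have h4 := hcmp _ hbad
      rw [pPart_eq hTp hTN hTi] at h4
      rw [card_map_of_injective φ hinj] at h2
      omega
    apply hHno
    exact CfsgLib.Transfer.hasNormalPComplement_of_injective
      ((normalizer (H : Set G)).equivMapOfInjective φ hinj).toMonoidHom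
      ((normalizer (H : Set G)).equivMapOfInjective φ hinj).injective (hNmap ▸ hnpcU)
  haveI : H.Normal := normalizer_eq_top_iff.mp hNtop
  have hHle : H ≤ pCore p G := CfsgLib.Core.le_pCore hHp
  refine ⟨fun h => hHb (le_bot_iff.mp (h ▸ hHle)), fun X hXp hlt hPX => ?_⟩
  by_contra hno
  have h1 := hmax X ⟨hXp, fun h => not_lt_bot (h ▸ hlt), hno⟩
  have h2 := card_le_pPart P.2 hPX
  have h3 := pPart_le_card P (normalizer (H : Set G))
  have h4 : Nat.card H < Nat.card X :=
    lt_of_le_of_lt (Subgroup.card_le_of_le hHle) (CfsgLib.Transfer.card_lt_of_lt hlt)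
  have h5 := Nat.mul_le_mul_right (Nat.card G + 1) (h3.trans h2)
  omega

theorem MinimalIn.pCore_lt (hmin : MinimalIn G₀ 𝓛 P)
    (hnorm : ∃ L ∈ 𝓛, ∀ {K : Type w} [Group K] [Finite K] (S : Subgroup K),
      normalizer ((L.W S : Subgroup K) : Set K) ≤ L.M S) : pCore p G < (P : Subgroup G) := by
  refine lt_of_le_of_ne (CfsgLib.Core.pCore_le_sylow P) fun h => hmin.no ?_
  obtain ⟨L, hL, hLN⟩ := hnorm
  refine npc_of_top (top_le_iff.mp ?_) (hmin.locals L hL)
  refine le_trans ?_ ((L.W_normalizer (P : Subgroup G)).trans (hLN (P : Subgroup G)))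
  rw [← h, normalizer_eq_top]

theorem MinimalIn.npc_quotient (hmin : MinimalIn G₀ 𝓛 P) (hlt : pCore p G < (P : Subgroup G)) :
    HasNormalPComplement p (G ⧸ pCore p G) := by
  obtain ⟨hne, hX⟩ := hmin.pCore_ne_bot
  generalize hf : QuotientGroup.mk' (pCore p G) = f
  have hker : f.ker = pCore p G := hf ▸ QuotientGroup.ker_mk' _
  have hsurj : Function.Surjective f := hf ▸ QuotientGroup.mk'_surjective _
  refine hmin.ih _ (hmin.sec.quotient _) (CfsgLib.Core.card_quotient_lt _ hne) (P.mapSurjective hsurj) fun L hL => ?_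
  rw [Sylow.coe_mapSurjective]
  have hPb : (P : Subgroup G).map f ≠ ⊥ := by
    rw [Ne, Subgroup.map_eq_bot_iff, hker]
    exact not_le_of_gt hlt
  have hPp : IsPGroup p ((P : Subgroup G).map f) := P.2.map f
  have hXp : IsPGroup p ((L.W ((P : Subgroup G).map f)).comap f) :=
    (hPp.to_le (L.W_le _)).comap_of_ker_isPGroup f (by rw [hker]; exact CfsgLib.Core.isPGroup_pCore p G)
  have hcX : (normalizer ((L.W ((P : Subgroup G).map f) : Subgroup _) : Set _)).comap f =
      normalizer (((L.W ((P : Subgroup G).map f)).comap f : Subgroup G) : Set G) :=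
    comap_normalizer_eq_of_surjective _ hsurj
  have hlt' : pCore p G < (L.W ((P : Subgroup G).map f)).comap f := by
    refine lt_of_le_of_ne (hker.ge.trans (MonoidHom.ker_le_comap f _)) fun he => L.W_ne _ hPp hPb ?_
    rw [← map_comap_eq_self_of_surjective hsurj (L.W ((P : Subgroup G).map f)), ← he,
      Subgroup.map_eq_bot_iff, hker]
  have hPX : (P : Subgroup G) ≤ normalizer (((L.W ((P : Subgroup G).map f)).comap f : Subgroup G) : Set G) := by
    rw [← hcX]
    exact map_le_iff_le_comap.mp (le_normalizer.trans (L.W_normalizer _))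
  refine npc_of_le (L.M_le _) ?_
  rw [← map_comap_eq_self_of_surjective hsurj
    (normalizer ((L.W ((P : Subgroup G).map f) : Subgroup _) : Set _)), hcX]
  exact npc_map f (hX _ hXp hlt' hPX)

theorem MinimalIn.centralizer_le (hmin : MinimalIn G₀ 𝓛 P) (hlt : pCore p G < (P : Subgroup G)) :
    centralizer (pCore p G : Set G) ≤ pCore p G := by
  obtain ⟨M, hM, hMc, hMp⟩ :=
    CfsgLib.Transfer.hasNormalPComplement_iff_exists.mp (hmin.npc_quotient hlt)
  refine centralizer_pCore_le ?_ hmin.pPrimeCore_eq_bot
  generalize hf : QuotientGroup.mk' (pCore p G) = f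
  have hker : f.ker = pCore p G := hf ▸ QuotientGroup.ker_mk' _
  have hsurj : Function.Surjective f := hf ▸ QuotientGroup.mk'_surjective _
  have h1 : pCore p G ≤ M.comap f := hker.ge.trans (MonoidHom.ker_le_comap f M)
  refine ⟨3, ![⊥, pCore p G, M.comap f, ⊤], rfl, rfl, ?_, ?_, ?_⟩
  · refine Fin.monotone_iff_le_succ.mpr fun i => ?_
    fin_cases i
    · exact bot_le
    · exact h1
    · exact le_top
  · intro i
    fin_cases i
    · exact (inferInstance : (⊥ : Subgroup G).Normal)
    · exact CfsgLib.Core.normal_pCore p G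
    · exact hM.comap f
    · exact (inferInstance : (⊤ : Subgroup G).Normal)
  · intro i
    fin_cases i
    · left
      obtain ⟨k, hk⟩ := IsPGroup.iff_card.mp (CfsgLib.Core.isPGroup_pCore p G)
      exact ⟨k, (relIndex_bot_left (pCore p G)).trans hk⟩
    · right
      show ((pCore p G).relIndex (M.comap f)).Coprime p
      have h := relIndex_ker (K := M.comap f) f
      rw [hker, map_comap_eq_self_of_surjective hsurj] at h
      rw [h]
      exact hMc
    · left
      obtain ⟨k, hk⟩ := IsPGroup.iff_card.mp hMp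
      refine ⟨k, ?_⟩
      show (M.comap f).relIndex ⊤ = p ^ k
      rw [relIndex_top_right, index_comap_of_surjective _ hsurj, index_eq_card, hk]

/-- The coprime part `O^p(G/O_p(G))`: abelian and moved freely by `P`. -/
theorem MinimalIn.configFree (hmin : MinimalIn G₀ 𝓛 P)
    (hlt : pCore p G < (P : Subgroup G)) : ConfigFree p P := by
  have hc := hmin.centralizer_le hlt
  have hnpc := hmin.npc_quotient hlt
  generalize hH : pCore p G = H at hlt hc
  haveI : H.Normal := hH ▸ inferInstance
  have hHp : IsPGroup p H := hH ▸ CfsgLib.Core.isPGroup_pCore p G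
  have hnpc' : HasNormalPComplement p (G ⧸ H) := by subst hH; exact hnpc
  have hcore : pCore p (G ⧸ H) = ⊥ := by subst hH; exact CfsgLib.Core.pCore_quotient_pCore p G
  generalize hf : QuotientGroup.mk' H = f
  have hker : f.ker = H := hf ▸ QuotientGroup.ker_mk' _
  have hsurj : Function.Surjective f := hf ▸ QuotientGroup.mk'_surjective _
  obtain ⟨P', hP'⟩ : ∃ P', P' = (P : Subgroup G).map f := ⟨_, rfl⟩
  have hP'p : IsPGroup p P' := hP' ▸ P.2.map f
  generalize hK : pResidual p (G ⧸ H) = K
  haveI hKn : K.Normal := hK ▸ inferInstance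
  have hKc : (Nat.card K).Coprime p :=
    hK ▸ CfsgLib.Transfer.hasNormalPComplement_iff_coprime.mp hnpc'
  have hKP : K ⊔ P' = ⊤ := by
    have := CfsgLib.Transfer.pResidual_sup_sylow (p := p) (P.mapSurjective hsurj)
    rw [hK, Sylow.coe_mapSurjective] at this
    rw [hP']; exact this
  have hKP' : K ⊓ P' = ⊥ := by
    obtain ⟨k, hk⟩ := IsPGroup.iff_card.mp hP'p
    exact Subgroup.inf_eq_bot_of_coprime (hk ▸ hKc.pow_right k)
  have hPX : (P : Subgroup G) ≤ (P').comap f := hP' ▸ le_comap_map f _
  have hKne : K ≠ ⊥ := by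
    intro h
    rw [h, bot_sup_eq] at hKP
    have hp1 : IsPGroup p (G ⧸ H) := (hKP ▸ hP'p).of_equiv Subgroup.topEquiv
    apply hmin.no
    refine CfsgLib.Transfer.hasNormalPComplement_of_isPGroup ?_
    have h2 : IsPGroup p ((⊤ : Subgroup (G ⧸ H)).comap f) :=
      (hp1.to_subgroup ⊤).comap_of_ker_isPGroup f (by rw [hker]; exact hHp)
    rw [comap_top] at h2
    exact h2.of_equiv Subgroup.topEquiv
  have hirr : ∀ E : Subgroup (G ⧸ H), E ≤ K → E ≠ ⊥ → P' ≤ normalizer (E : Set (G ⧸ H)) → E = K := by
    intro E hEK hEb hPE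
    by_cases hU : (E ⊔ P').comap f = ⊤
    · have htop : E ⊔ P' = ⊤ := by
        rw [← map_comap_eq_self_of_surjective hsurj (E ⊔ P'), hU, map_top_of_surjective _ hsurj]
      refine eq_of_le_of_card_ge hEK ?_
      have h1 := CfsgLib.Core.card_sup_of_disjoint P' E hPE
        (le_bot_iff.mp ((inf_le_inf_left _ hEK).trans (by rw [inf_comm, hKP'])))
      have h2 := CfsgLib.Core.card_sup_of_disjoint P' K le_normalizer_of_normal
        (by rw [inf_comm]; exact hKP')
      rw [sup_comm, htop] at h1
      rw [sup_comm, hKP] at h2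
      exact le_of_eq (Nat.eq_of_mul_eq_mul_left Nat.card_pos (h2.symm.trans h1))
    exfalso
    have hPU : (P : Subgroup G) ≤ (E ⊔ P').comap f := hPX.trans (comap_mono le_sup_right)
    have hnpcU := hmin.npc_of_sylow_le hU hPU
    generalize hUdef : (E ⊔ P').comap f = U at hU hPU hnpcU
    have hHU : H ≤ U := hUdef ▸ hker.ge.trans (MonoidHom.ker_le_comap f _)
    have hRc : (Nat.card ((pResidual p U).map U.subtype)).Coprime p := by
      rw [card_map_of_injective _ U.subtype_injective]
      exact CfsgLib.Transfer.hasNormalPComplement_iff_coprime.mp hnpcU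
    have hRn : U ≤ normalizer (((pResidual p U).map U.subtype : Subgroup G) : Set G) := by
      intro u hu
      exact le_normalizer_map U.subtype (mem_map_of_mem (x := ⟨u, hu⟩) _
        ((normalizer_eq_top (H := pResidual p U)).symm ▸ mem_top _))
    have hdisj : H ⊓ (pResidual p U).map U.subtype = ⊥ := by
      obtain ⟨k, hk⟩ := IsPGroup.iff_card.mp hHp
      exact Subgroup.inf_eq_bot_of_coprime (hk ▸ (hRc.pow_right k).symm)
    have hRH : (pResidual p U).map U.subtype ≤ H := by
      refine le_trans ?_ hc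
      intro r hr
      rw [mem_centralizer_iff]
      intro h hh
      have h1 : h * r * h⁻¹ * r⁻¹ ∈ H ⊓ (pResidual p U).map U.subtype := by
        refine ⟨?_, ?_⟩
        · have := (inferInstance : H.Normal).conj_mem _ (H.inv_mem hh) r
          simpa [mul_assoc] using H.mul_mem hh this
        · exact Subgroup.mul_mem _ (CfsgLib.Core.conj_mem_of_le_normalizer hRn (hHU hh) hr)
            (Subgroup.inv_mem _ hr)
      rw [hdisj, mem_bot, mul_inv_eq_one, mul_inv_eq_iff_eq_mul] at h1
      exact h1
    have hR0 : pResidual p U = ⊥ := by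
      rw [inf_eq_right.mpr hRH] at hdisj
      exact (map_eq_bot_iff_of_injective _ U.subtype_injective).mp hdisj
    have hUp : IsPGroup p U :=
      (CfsgLib.Transfer.isPGroup_quotient_pResidual (p := p) (G := U)).of_equiv
        ((QuotientGroup.quotientMulEquivOfEq hR0).trans QuotientGroup.quotientBot)
    have hEp : IsPGroup p E := by
      refine (hUp.map f).to_le ?_
      rw [← hUdef, map_comap_eq_self_of_surjective hsurj]
      exact le_sup_left
    obtain ⟨k, hk⟩ := IsPGroup.iff_card.mp hEp
    apply hEb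
    rw [← Subgroup.card_eq_one]
    exact Nat.eq_one_of_dvd_coprimes (hKc.pow_right k) (card_dvd_of_le hEK) (hk ▸ dvd_rfl)
  -- `K` is abelian
  haveI hKab : IsMulCommutative K := by
    obtain ⟨q, hq, hqd⟩ := Nat.exists_prime_and_dvd (n := Nat.card K)
      fun h => hKne (Subgroup.card_eq_one.mp h)
    haveI := Fact.mk hq
    obtain ⟨k, hk⟩ := IsPGroup.iff_card.mp hP'p
    haveI := hP'p.isNilpotent
    obtain ⟨Q, hQ⟩ := CfsgLib.Core.exists_invariant_sylow (A := P') (K := K)
      le_normalizer_of_normal (hk ▸ (hKc.pow_right k).symm) (Or.inl inferInstance) q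
    generalize hQ' : (Q : Subgroup K).map K.subtype = Q' at hQ
    have hQK : Q' ≤ K := hQ' ▸ map_subtype_le _
    have hQb : Q' ≠ ⊥ := by
      rw [← hQ', Ne, map_eq_bot_iff_of_injective _ K.subtype_injective]
      exact Q.ne_bot_of_dvd_card hqd
    have hQp : IsPGroup q Q' := hQ' ▸ Q.2.map _
    have hE : Q' ⊓ centralizer (Q' : Set (G ⧸ H)) = K := by
      refine hirr _ (inf_le_left.trans hQK) ?_ ?_
      · haveI : Nontrivial Q' := Q'.nontrivial_iff_ne_bot.mpr hQb
        obtain ⟨⟨⟨z, hz⟩, hzc⟩, hz1⟩ := ne_bot_iff_exists_ne_one.mp hQp.bot_lt_center.ne'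
        intro hb
        refine hz1 (Subtype.ext (Subtype.ext (mem_bot.mp (hb.le ⟨hz, ?_⟩))))
        exact mem_centralizer_iff.mpr fun y hy => congrArg Subtype.val (mem_center_iff.mp hzc ⟨y, hy⟩)
      · refine (le_inf hQ ?_).trans inf_normalizer_le_normalizer_inf
        rw [le_normalizer_iff]
        intro x hx z hz
        rw [mem_centralizer_iff] at hz ⊢
        intro y hy
        have h2 := congrArg (fun w => x * w * x⁻¹)
          (hz (x⁻¹ * y * x) (CfsgLib.Core.conj_mem_of_le_normalizer' hQ hx hy))
        simpa [mul_assoc] using h2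
    rw [← le_centralizer_iff_isMulCommutative, ← hE]
    exact inf_le_right.trans (Subgroup.centralizer_le inf_le_left)
  have hCK : P' ⊓ centralizer (K : Set (G ⧸ H)) = ⊥ := by
    haveI : (P' ⊓ centralizer (K : Set (G ⧸ H))).Normal := by
      rw [← normalizer_eq_top_iff, eq_top_iff, ← hKP]
      refine sup_le ?_ ((le_inf le_normalizer le_normalizer_of_normal).trans
        inf_normalizer_le_normalizer_inf)
      exact (le_centralizer_iff.mp inf_le_right).trans (centralizer_le_normalizer _)
    rw [← le_bot_iff, ← hcore]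
    exact CfsgLib.Core.le_pCore (hP'p.to_le inf_le_left)
  -- a complement `T` of `H` in the preimage of `K`
  have hHK : H ≤ K.comap f := hker.ge.trans (MonoidHom.ker_le_comap f K)
  obtain ⟨hi, hhi⟩ := IsPGroup.iff_card.mp hHp
  have hrel : H.relIndex (K.comap f) = Nat.card K := by
    have h := relIndex_ker (K := K.comap f) f
    rw [hker, map_comap_eq_self_of_surjective hsurj] at h
    exact h
  obtain ⟨B, hB⟩ := Subgroup.exists_right_complement'_of_coprime (N := H.subgroupOf (K.comap f)) (by
    rw [Nat.card_congr (subgroupOfEquivOfLe hHK).toEquiv, hhi,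
      show (H.subgroupOf (K.comap f)).index = Nat.card K from hrel]
    exact (hKc.pow_right hi).symm)
  generalize hT : B.map (K.comap f).subtype = T
  have hTK : T ≤ K.comap f := hT ▸ map_subtype_le _
  have hTc : Nat.card T = Nat.card K := by
    rw [← hT, card_map_of_injective _ (K.comap f).subtype_injective, ← hB.symm.index_eq_card]
    exact hrel
  have hTH : T ⊓ H = ⊥ := Subgroup.inf_eq_bot_of_coprime (by
    rw [hTc, hhi]; exact hKc.pow_right hi)
  have hHT : H ⊔ T = K.comap f := by
    rw [sup_comm]
    refine eq_of_le_of_card_ge (sup_le hTK hHK) (le_of_eq ?_)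
    rw [CfsgLib.Core.card_sup_of_disjoint T H le_normalizer_of_normal hTH, hTc, ← hf,
      CfsgLib.Core.card_comap_mk', mul_comm]
  have hTP : T ⊔ (P : Subgroup G) = ⊤ := by
    have h1 : (K.comap f) ⊔ (P : Subgroup G) = ⊤ := by
      have h := congrArg (Subgroup.comap f) hKP
      rw [hP', comap_top] at h
      rw [← h, ← map_comap_eq_self_of_surjective hsurj K, ← Subgroup.map_sup,
        map_comap_eq_self_of_surjective hsurj K, comap_map_eq, hker,
        sup_eq_left.mpr (hHK.trans le_sup_left)]
    rw [eq_top_iff, ← h1, ← hHT]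
    exact sup_le (sup_le (hlt.le.trans le_sup_right) le_sup_left) le_sup_right
  haveI hTab : IsMulCommutative T := by
    rw [← le_centralizer_iff_isMulCommutative]
    intro s hs
    rw [mem_centralizer_iff]
    intro t ht
    have h1 : f t * f s = f s * f t :=
      mem_centralizer_iff.mp (le_centralizer K (hTK hs)) (f t) (hTK ht)
    have h2 : t * s * (s * t)⁻¹ ∈ T ⊓ H := by
      refine ⟨T.mul_mem (T.mul_mem ht hs) (T.inv_mem (T.mul_mem hs ht)), ?_⟩
      refine hker.le (MonoidHom.mem_ker.mpr ?_)
      rw [map_mul, map_inv, map_mul, map_mul, h1, mul_inv_cancel]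
    rw [hTH, mem_bot, mul_inv_eq_one] at h2
    exact h2
  refine ⟨hH ▸ hc, ?_, ⟨T, hTc ▸ hKc, ?_, hTP, hTab⟩, ?_, ?_⟩
  · intro N hN
    rw [hH]
    haveI := hN
    haveI : (N.map f).Normal := hN.map f hsurj
    by_cases hb : N.map f ⊓ K = ⊥
    · left
      have hcomm : N.map f ≤ centralizer (K : Set (G ⧸ H)) := by
        intro x hx
        rw [mem_centralizer_iff]
        exact fun y hy => (Subgroup.commute_of_normal_of_disjoint _ _ inferInstance hKn
          (disjoint_iff.mpr hb) x y hx hy).eq.symm
      have hNp : IsPGroup p (N.map f) := by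
        obtain ⟨k, hk⟩ := IsPGroup.iff_card.mp
          (CfsgLib.Transfer.isPGroup_quotient_pResidual (p := p) (G := G ⧸ H))
        rw [hK] at hk
        have hd : Nat.card (N.map f) ∣ p ^ k := by
          rw [← hk, ← index_eq_card]
          have h1 := relIndex_dvd_of_le_left (⊤ : Subgroup (G ⧸ H)) (le_sup_right : K ≤ N.map f ⊔ K)
          have h2 : K.relIndex (N.map f) = Nat.card (N.map f) := by
            rw [← inf_relIndex_right, inf_comm, hb, relIndex_bot_left]
          rw [← h2]
          exact relIndex_dvd_index_of_normal K (N.map f)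
        obtain ⟨i, -, hi'⟩ := (Nat.dvd_prime_pow Fact.out).mp hd
        exact IsPGroup.of_card hi'
      have : N.map f = ⊥ := le_bot_iff.mp (hcore ▸ CfsgLib.Core.le_pCore hNp)
      rwa [Subgroup.map_eq_bot_iff, hker] at this
    · right
      have hKN : K ≤ N.map f :=
        (hirr (N.map f ⊓ K) inf_le_right hb le_normalizer_of_normal).ge.trans inf_le_left
      have h : (K.comap f) ≤ N ⊔ H := by
        have h := comap_mono (f := f) hKN
        rwa [comap_map_eq, hker] at h
      rw [eq_top_iff, ← hTP]
      refine sup_le ((hTK.trans h).trans (sup_le le_sup_left (hlt.le.trans le_sup_right))) le_sup_right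
  · rw [hH, hHT]; infer_instance
  · subst hH hf
    refine ⟨K, hKn, hKc, fun x hx => ?_⟩
    have hx' : x ∈ K ⊔ P' := hKP.ge (mem_top x)
    rw [← SetLike.mem_coe, coe_mul_of_right_le_normalizer_left K P'
      le_normalizer_of_normal] at hx'
    obtain ⟨k, hk, y, hy, rfl⟩ := hx'
    have hyc : y ∈ P' ⊓ centralizer (K : Set (G ⧸ pCore p G)) := by
      refine ⟨hy, ?_⟩
      have := mul_mem (inv_mem ((le_centralizer_iff_isMulCommutative.2 hKab) hk)) hx
      rwa [inv_mul_cancel_left] at this
    rw [hCK, mem_bot] at hyc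
    show k * y ∈ K
    rw [hyc, mul_one]
    exact hk
  · haveI : Group.IsSolvable P' := haveI := hP'p.isNilpotent; inferInstance
    haveI : Group.IsSolvable H := haveI := hHp.isNilpotent; inferInstance
    haveI : Group.IsSolvable K :=
      Group.isSolvable_of_comm fun a b => hKab.is_comm.comm a b
    haveI : Group.IsSolvable ((G ⧸ H) ⧸ K) := by
      subst hK
      haveI := (CfsgLib.Transfer.isPGroup_quotient_pResidual (p := p) (G := G ⧸ H)).isNilpotent
      infer_instance
    haveI : Group.IsSolvable (G ⧸ H) := (Group.isSolvable_iff_subgroup_quotient K).2 ⟨‹_›, ‹_›⟩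
    exact (Group.isSolvable_iff_subgroup_quotient H).2 ⟨‹_›, ‹_›⟩

end CfsgLib.Techniques
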