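import Cfsg.Agent.Lib.Transfer.SLTwoFree
import Cfsg.Agent.Lib.Transfer.LinearStable

/-!
# Normalizers in sections and normalizer `p`-stability
-/

set_option autoImplicit false
set_option linter.all false

namespace CfsgLib.Techniques

open Subgroup Cfsg

universe u

variable {p : ℕ}

/-- the normalizer of a nontrivial `p`-subgroup of a section is a section of a `p`-local -/
theorem exists_local_isSec_normalizer {G X : Type u} [Group G] [Finite G] [Group X]
    [Fact p.Prime] (hX : IsSec G X) (Q : Subgroup X) (hQ : IsPGroup p Q) (hne : Q ≠ ⊥) :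
    ∃ P : Subgroup G, IsPGroup p P ∧ P ≠ ⊥ ∧
      IsSec ↥(normalizer (P : Set G)) ↥(normalizer (Q : Set X)) := by
  obtain ⟨K, π, hπ⟩ := hX
  let N := (normalizer (Q : Set X)).comap π
  let ψ : N →* normalizer (Q : Set X) := π.subgroupComap _
  have hψ : Function.Surjective ψ := fun y => by
    obtain ⟨k, hk⟩ := hπ y
    exact ⟨⟨k, show π k ∈ normalizer (Q : Set X) from hk ▸ y.2⟩, Subtype.ext hk⟩
  set Q' := Q.subgroupOf (normalizer (Q : Set X)) with hQ'
  haveI : Q'.Normal := normal_subgroupOf_of_le_normalizer le_rfl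
  set M := Q'.comap ψ with hM
  haveI : M.Normal := Subgroup.Normal.comap inferInstance ψ
  let f : M →* Q' := ψ.subgroupComap Q'
  have hf : Function.Surjective f := fun y => by
    obtain ⟨k, hk⟩ := hψ y
    exact ⟨⟨k, show ψ k ∈ Q' from hk ▸ y.2⟩, Subtype.ext hk⟩
  have hQ'p : IsPGroup p Q' := hQ.comap_subtype
  obtain ⟨T⟩ : Nonempty (Sylow p M) := inferInstance
  have htop : (T.mapSurjective hf : Subgroup Q') = ⊤ :=
    ((T.mapSurjective hf).is_maximal' (hQ'p.to_subgroup _) le_top).symm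
  set T' : Subgroup N := (T : Subgroup M).map M.subtype with hT'
  have hQT : ∀ y ∈ Q', ∃ t ∈ T', ψ t = y := fun y hy => by
    have : (⟨y, hy⟩ : Q') ∈ (T.mapSurjective hf : Subgroup Q') := htop ▸ Subgroup.mem_top _
    obtain ⟨t, ht, hty⟩ := this
    exact ⟨t, ⟨t, ht, rfl⟩, congrArg Subtype.val hty⟩
  have hfr : normalizer (T' : Set N) ⊔ M = ⊤ := Sylow.normalizer_sup_eq_top T
  have hsurj : ∀ y, ∃ n ∈ normalizer (T' : Set N), ψ n = y := by
    intro y
    obtain ⟨k, hk⟩ := hψ y
    obtain ⟨n, hn, m, hm, rfl⟩ := mem_sup_of_normal_right.1 (hfr ▸ Subgroup.mem_top k)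
    obtain ⟨t, ht, hty⟩ := hQT (ψ m) hm
    exact ⟨n * t, mul_mem hn (le_normalizer ht), by rw [map_mul, hty, ← map_mul, hk]⟩
  let j : N →* G := K.subtype.comp N.subtype
  have hj : Function.Injective j := K.subtype_injective.comp N.subtype_injective
  refine ⟨T'.map j, (T.2.map _).map _, ?_, ?_⟩
  · rw [Ne, map_eq_bot_iff_of_injective _ hj]
    intro h
    refine hne (eq_bot_iff.2 fun y hy => ?_)
    obtain ⟨t, ht, hty⟩ := hQT ⟨y, le_normalizer hy⟩ hy
    rw [h, mem_bot] at ht
    rw [ht, map_one] at hty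
    exact (congrArg Subtype.val hty).symm
  · let L := (normalizer (T' : Set N)).map j
    have hL : L ≤ normalizer ((T'.map j : Subgroup G) : Set G) := le_normalizer_map j
    let e := (normalizer (T' : Set N)).equivMapOfInjective j hj
    refine ⟨L.subgroupOf _, ((ψ.comp (normalizer (T' : Set N)).subtype).comp
      e.symm.toMonoidHom).comp (subgroupOfEquivOfLe hL).toMonoidHom, ?_⟩
    have hs : Function.Surjective (ψ.comp (normalizer (T' : Set N)).subtype) := fun y => by
      obtain ⟨n, hn, hny⟩ := hsurj y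
      exact ⟨⟨n, hn⟩, hny⟩
    exact (hs.comp e.symm.surjective).comp (subgroupOfEquivOfLe hL).surjective

theorem not_involves_of_isSec {S : Type*} [Group S] {G H : Type u} [Group G] [Group H]
    (h : IsSec G H) (hS : ¬ Involves S G) : ¬ Involves S H := by
  rintro ⟨K, R, hR, ⟨e⟩⟩
  haveI := hR
  obtain ⟨K', R', hR', ⟨e'⟩⟩ :=
    ((h.subgroup K).quotient (R.subgroupOf K)).exists_quotient
  exact hS ⟨K', R', hR', ⟨e'.trans e⟩⟩

/-- normalizer `p`-stability of a section from the `p`-locals not involving `SL(2, p)` -/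
theorem isNormalizerPStable_of_locals {G X : Type u} [Group G] [Finite G] [Group X] [Finite X]
    [Fact p.Prime] (hp : p ≠ 2)
    (h : ∀ P : Subgroup G, IsPGroup p P → P ≠ ⊥ →
      ¬ Involves (Matrix.SpecialLinearGroup (Fin 2) (ZMod p)) ↥(normalizer (P : Set G)))
    (hX : IsSec G X) : IsNormalizerPStable p X := by
  intro Q hQ g hg hq
  set N := normalizer (Q : Set X) with hN
  set Q' := Q.subgroupOf N with hQ'
  haveI : Q'.Normal := normal_subgroupOf_of_le_normalizer le_rfl
  have hC : (centralizer (Q : Set X)).subgroupOf N = centralizer (Q' : Set N) := by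
    ext n
    rw [mem_subgroupOf, mem_centralizer_iff, mem_centralizer_iff]
    exact ⟨fun h y hy => Subtype.ext (h _ hy),
      fun h y hy => congrArg Subtype.val (h ⟨y, le_normalizer hy⟩ hy)⟩
  rcases eq_or_ne Q ⊥ with hQb | hQb
  · have : (⟨g, hg⟩ : N) ∈ (centralizer (Q : Set X)).subgroupOf N := by
      rw [mem_subgroupOf, mem_centralizer_iff]
      intro y hy
      rw [hQb] at hy
      rw [mem_bot.1 hy, one_mul, mul_one]
    rw [(QuotientGroup.eq_one_iff _).2 this]
    exact one_mem _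
  obtain ⟨P, hP, hPne, hsec⟩ := exists_local_isSec_normalizer hX Q hQ hQb
  have hnq : Transfer.NoQuad p N := Transfer.noQuad_of_not_involves
    (fun Y _ _ V H h1 h2 h3 h4 x hx hx1 h5 h6 =>
      Transfer.involves_SLTwo_of_quadratic hp V H h1 h2 h3 h4 x hx hx1 h5 h6)
    (not_involves_of_isSec hsec (h P hP hPne))
  set a : N := ⟨g, hg⟩ with ha
  have hqa : ⁅⁅Q', zpowers a⁆, zpowers a⁆ = ⊥ := by
    refine (map_eq_bot_iff_of_injective _ N.subtype_injective).1 (eq_bot_iff.2 ?_)
    rw [map_commutator, map_commutator, MonoidHom.map_zpowers, hQ',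
      map_subgroupOf_eq_of_le le_normalizer]
    exact hq.le
  -- the `p`-part of `g` induces the same automorphism as `g`
  obtain ⟨k, hk⟩ := IsPGroup.iff_card.1 hQ
  have hfix : ∀ y : Q', (a : N) * ((a * y * a⁻¹) * (y : N)⁻¹) * a⁻¹ = a * y * a⁻¹ * (y : N)⁻¹ := by
    intro y
    have hm : a * y * a⁻¹ * (y : N)⁻¹ ∈ ⁅Q', zpowers a⁆ := by
      rw [commutator_comm, ← commutatorElement_def]
      exact commutator_mem_commutator (mem_zpowers a) y.2
    rw [mem_centralizer_iff.1 ((commutator_eq_bot_iff_le_centralizer.1 hqa) hm) a (mem_zpowers a),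
      mul_inv_cancel_right]
  have hkc : a ^ p ^ k ∈ centralizer (Q' : Set N) := by
    rw [mem_centralizer_iff]
    intro y hy
    set c := a * y * a⁻¹ * y⁻¹ with hc
    have hpow : ∀ n : ℕ, a ^ n * y * (a ^ n)⁻¹ = c ^ n * y := by
      intro n
      induction n with
      | zero => simp
      | succ n ih =>
        have hca : Commute a (c ^ n) :=
          (show Commute a c from mul_inv_eq_iff_eq_mul.1 (hfix ⟨y, hy⟩)).pow_right n
        calc a ^ (n + 1) * y * (a ^ (n + 1))⁻¹ = a * (a ^ n * y * (a ^ n)⁻¹) * a⁻¹ := by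
              rw [pow_succ']; group
          _ = c ^ n * (a * y * a⁻¹) := by rw [ih, ← mul_assoc a, hca.eq]; group
          _ = c ^ (n + 1) * y := by
              rw [pow_succ, mul_assoc (c ^ n) c, hc, inv_mul_cancel_right]
    have hcQ : c ∈ Q' := mul_mem ((inferInstance : Q'.Normal).conj_mem y hy a) (inv_mem hy)
    have hc1 : c ^ p ^ k = 1 := by
      have h1 : (⟨c, hcQ⟩ : Q') ^ p ^ k = 1 := by
        rw [← hk, ← Nat.card_congr (subgroupOfEquivOfLe (le_normalizer (H := Q))).toEquiv]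
        exact pow_card_eq_one'
      exact congrArg Subtype.val h1
    have := hpow (p ^ k)
    rw [hc1, one_mul, mul_inv_eq_iff_eq_mul] at this
    exact this.symm
  obtain ⟨b, m, hm, hbm⟩ := Nat.exists_eq_pow_mul_and_not_dvd (orderOf_pos a).ne' p
    (Fact.out : p.Prime).ne_one
  have hmc : Nat.Coprime m (p ^ k) :=
    (((Fact.out : p.Prime).coprime_iff_not_dvd.2 hm).symm).pow_right k
  have hbez : (1 : ℤ) = (m : ℤ) * Nat.gcdA m (p ^ k) + ((p ^ k : ℕ) : ℤ) * Nat.gcdB m (p ^ k) := by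
    rw [← Nat.gcd_eq_gcd_ab, hmc.gcd_eq_one, Nat.cast_one]
  have hord : ∃ i : ℕ, orderOf (a ^ ((m : ℤ) * Nat.gcdA m (p ^ k))) = p ^ i := by
    have h1 : (a ^ ((m : ℤ) * Nat.gcdA m (p ^ k))) ^ p ^ b = 1 := by
      rw [← zpow_natCast, ← zpow_mul, mul_comm ((m : ℤ) * _), ← mul_assoc, zpow_mul,
        ← Nat.cast_mul, zpow_natCast, ← hbm, pow_orderOf_eq_one, one_zpow]
    obtain ⟨i, -, hi⟩ := (Nat.dvd_prime_pow Fact.out).1 (orderOf_dvd_of_pow_eq_one h1)
    exact ⟨i, hi⟩
  have hq' : ⁅⁅Q', zpowers (a ^ ((m : ℤ) * Nat.gcdA m (p ^ k)))⁆,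
      zpowers (a ^ ((m : ℤ) * Nat.gcdA m (p ^ k)))⁆ = ⊥ := by
    have hle : zpowers (a ^ ((m : ℤ) * Nat.gcdA m (p ^ k))) ≤ zpowers a :=
      zpowers_le.2 (zpow_mem (mem_zpowers a) _)
    exact le_bot_iff.1 ((commutator_mono (commutator_mono le_rfl hle) hle).trans hqa.le)
  have hmain := Transfer.quadratic_mem_of_noQuad _ N hnq Q' rfl hQ.comap_subtype _ hord hq'
  have hmem : (QuotientGroup.mk a : N ⧸ centralizer (Q' : Set N)) =
      QuotientGroup.mk (a ^ ((m : ℤ) * Nat.gcdA m (p ^ k))) := by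
    rw [QuotientGroup.eq, ← zpow_neg_one a, ← zpow_add,
      show (-1 : ℤ) + (m : ℤ) * Nat.gcdA m (p ^ k) =
        ((p ^ k : ℕ) : ℤ) * (-Nat.gcdB m (p ^ k)) by linear_combination (-1 : ℤ) * hbez,
      zpow_mul, zpow_natCast]
    exact zpow_mem hkc _
  rw [← hmem] at hmain
  let e := QuotientGroup.quotientMulEquivOfEq hC.symm
  have h2 := CfsgLib.Core.map_equiv_pCore (p := p) e
  rw [← h2]
  exact ⟨_, hmain, rfl⟩

end CfsgLib.Techniques
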