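import Cfsg.Agent.Lib.Techniques2.ThompsonA
import Cfsg.Agent.Lib.Techniques2.ComplementFree
import Cfsg.Agent.Lib.Techniques2.SFourFree
import Cfsg.Agent.Lib.Techniques2.LocalSections

/-!
# Thompson's normal `p`-complement theorem, abelian version of `J`
-/

set_option autoImplicit false
set_option linter.all false

open scoped commutatorElement

universe w

namespace CfsgLib.Techniques

open Subgroup Cfsg CfsgLib.PLocal

variable {p : ℕ} [Fact p.Prime]

/-- The local functor `S ↦ N(J(S))`, abelian `J`. -/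
def thompsonALoc (p : ℕ) [Fact p.Prime] : Loc.{w} p :=
  normalizerLoc (fun S => thompsonSubgroupAOf S) (fun S => map_subtype_le _)
    (fun S _ hb => thompsonAOf_ne_bot hb) (fun f S hf => thompsonAOf_map f S hf)

/-- With `C(V)` large, `Z(P)` is central. -/
theorem centralizer_center_eq_top {G : Type w} [Group G] [Finite G] {P : Sylow p G}
    (hc : centralizer (pCore p G : Set G) ≤ pCore p G)
    (hT : ∃ T : Subgroup G, (Nat.card T).Coprime p ∧ (pCore p G ⊔ T).Normal ∧
      T ⊔ (P : Subgroup G) = ⊤ ∧ IsMulCommutative T)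
    (hV : centralizer ((omegaZClosure p G : Subgroup G) : Set G) ⊔ (P : Subgroup G) = ⊤) :
    centralizer (((P : Subgroup G) ⊓ centralizer ((P : Subgroup G) : Set G) : Subgroup G) : Set G)
      = ⊤ := by
  have hY : centralizer ((omegaZ p (P : Subgroup G) : Subgroup G) : Set G) = ⊤ := by
    rw [eq_top_iff, ← hV]
    have hle : omegaZ p (P : Subgroup G) ≤ omegaZClosure p G := (omegaZ_fixed P).trans inf_le_left
    refine sup_le (Subgroup.centralizer_le (SetLike.coe_subset_coe.2 hle)) ?_
    rw [le_centralizer_iff]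
    exact omegaZ_le_centralizer _
  obtain ⟨T, hTc, hTn, hTP, hTab⟩ := hT
  haveI := hTn
  haveI := hTab
  generalize hH : pCore p G = H at hTn hTP
  haveI : H.Normal := hH ▸ inferInstance
  have hHP : H ≤ (P : Subgroup G) := hH ▸ CfsgLib.Core.pCore_le_sylow P
  obtain ⟨E, hE⟩ : ∃ E, E = H ⊓ centralizer (H : Set G) := ⟨_, rfl⟩
  haveI : E.Normal := hE ▸ inferInstance
  haveI : IsMulCommutative E := by
    rw [← le_centralizer_iff_isMulCommutative, hE]
    exact inf_le_right.trans (Subgroup.centralizer_le inf_le_left)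
  have hEp : IsPGroup p E :=
    (hH ▸ CfsgLib.Core.isPGroup_pCore p G : IsPGroup p H).to_le (hE ▸ inf_le_left)
  have hcop : (Nat.card T).Coprime (Nat.card E) := by
    obtain ⟨k, hk⟩ := IsPGroup.iff_card.1 hEp
    exact hk ▸ hTc.pow_right k
  have hR : ⁅E, H ⊔ T⁆ ≤ ⁅E, T⁆ := by
    rw [commutator_le]
    intro v hv x hx
    rw [sup_comm] at hx
    obtain ⟨t, ht, h, hh, rfl⟩ := mem_sup_of_normal_right.mp hx
    have hc1 : Commute v h := (mem_centralizer_iff.mp (hE ▸ hv : v ∈ H ⊓ centralizer (H : Set G)).2 h hh).symm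
    have h1 : ⁅v, t * h⁆ = ⁅v, t⁆ := by
      have h2 : h * v⁻¹ = v⁻¹ * h := hc1.inv_left.eq.symm
      simp only [commutatorElement_def, mul_assoc]
      rw [mul_inv_rev, ← mul_assoc h v⁻¹, h2]
      simp [mul_assoc]
    rw [h1]
    exact commutator_mem_commutator hv ht
  have hbot : ⁅E, H ⊔ T⁆ = ⊥ := by
    by_contra hne
    have hRP : ⁅E, H ⊔ T⁆ ≤ (P : Subgroup G) :=
      (commutator_le_left E (H ⊔ T)).trans (hE ▸ inf_le_left.trans hHP)
    have h1 : (⁅E, H ⊔ T⁆).subgroupOf (P : Subgroup G) ≠ ⊥ := by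
      rw [Ne, subgroupOf_eq_bot, disjoint_iff, inf_of_le_left hRP]
      exact hne
    have h2 := CfsgLib.PGroups.inf_center_ne_bot P.2 h1
    haveI := Fact.mk (Fact.out : p.Prime)
    have hd : p ∣ Nat.card ((⁅E, H ⊔ T⁆).subgroupOf (P : Subgroup G) ⊓ center (P : Subgroup G) :
        Subgroup (P : Subgroup G)) := by
      rcases (P.2.to_subgroup _).card_eq_or_dvd with h | h
      · exact absurd (Subgroup.card_eq_one.mp h) h2
      · exact h
    obtain ⟨⟨⟨z, hzP⟩, hzm⟩, hz⟩ := exists_prime_orderOf_dvd_card' p hd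
    rw [Subgroup.orderOf_mk, Subgroup.orderOf_mk] at hz
    obtain ⟨hzR, hzc⟩ := Subgroup.mem_inf.mp hzm
    have hzY : z ∈ omegaZ p (P : Subgroup G) :=
      CfsgLib.PGroups.mem_omegaOne ⟨hzP, mem_centralizer_iff.mpr fun y hy =>
        congrArg Subtype.val (mem_center_iff.mp hzc ⟨y, hy⟩)⟩ (hz ▸ pow_orderOf_eq_one z)
    have hzT : z ∈ centralizer (T : Set G) := by
      refine mem_centralizer_iff.mpr fun t _ => ?_
      exact (mem_centralizer_iff.mp (hY.ge (mem_top t)) z hzY).symm
    have hz1 : z = 1 := mem_bot.mp ((CfsgLib.Core.abelian_inf_eq_bot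
      (CfsgLib.Core.le_normalizer_of_normal T E) hcop).le
      ⟨⟨commutator_le_left E (H ⊔ T) (mem_subgroupOf.mp hzR), hzT⟩, hR (mem_subgroupOf.mp hzR)⟩)
    exact (Fact.out : p.Prime).ne_one (by rw [← hz, hz1, orderOf_one])
  rw [eq_top_iff, ← hTP]
  refine sup_le ?_ ?_
  · rw [le_centralizer_iff]
    have hZE : (P : Subgroup G) ⊓ centralizer ((P : Subgroup G) : Set G) ≤ E := by
      have h1 : centralizer ((P : Subgroup G) : Set G) ≤ centralizer (H : Set G) :=
        Subgroup.centralizer_le (SetLike.coe_subset_coe.2 hHP)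
      rw [hE]
      exact inf_le_right.trans (le_inf (h1.trans (hH ▸ hc)) h1)
    refine hZE.trans ((commutator_eq_bot_iff_le_centralizer.mp hbot).trans ?_)
    exact Subgroup.centralizer_le (SetLike.coe_subset_coe.2 le_sup_right)
  · rw [le_centralizer_iff]
    exact inf_le_right

/-- The last step: offending abelian subgroups centralise `V`. -/
theorem exists_top_of_offenders {G : Type w} [Group G] [Finite G] {P : Sylow p G}
    (hc : centralizer (pCore p G : Set G) ≤ pCore p G)
    (hdich : ∀ N : Subgroup G, N.Normal → N ≤ pCore p G ∨ N ⊔ (P : Subgroup G) = ⊤)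
    (hT : ∃ T : Subgroup G, (Nat.card T).Coprime p ∧ (pCore p G ⊔ T).Normal ∧
      T ⊔ (P : Subgroup G) = ⊤ ∧ IsMulCommutative T)
    (hoff : ∀ V A' : Subgroup G, V.Normal → IsElementaryAbelian p V →
      centralizer (V : Set G) = pCore p G → V ≤ (P : Subgroup G) → A' ≤ (P : Subgroup G) →
      IsMulCommutative A' →
      (∀ B : Subgroup G, B ≤ (P : Subgroup G) → IsMulCommutative B → Nat.card B ≤ Nat.card A') →
      ⁅⁅V, A'⁆, A'⁆ = ⊥ → ⁅V, A'⁆ = ⊥) :
    normalizer ((thompsonSubgroupAOf (P : Subgroup G) : Subgroup G) : Set G) = ⊤ ∨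
      centralizer (((P : Subgroup G) ⊓ centralizer ((P : Subgroup G) : Set G) : Subgroup G) : Set G)
        = ⊤ := by
  haveI := omegaZClosure_normal p G
  rcases hdich (centralizer ((omegaZClosure p G : Subgroup G) : Set G)) inferInstance with h | h
  swap
  · exact Or.inr (centralizer_center_eq_top hc hT h)
  left
  have hel := omegaZClosure_elementary hc
  have hVH : omegaZClosure p G ≤ pCore p G ⊓ centralizer (pCore p G : Set G) :=
    iSup_le fun S => omegaZ_le_center_pCore hc S
  generalize hVd : omegaZClosure p G = V at h hel hVH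
  haveI : V.Normal := hVd ▸ omegaZClosure_normal p G
  have hHP : pCore p G ≤ (P : Subgroup G) := CfsgLib.Core.pCore_le_sylow P
  have hVP : V ≤ (P : Subgroup G) := hVH.trans (inf_le_left.trans hHP)
  have hCV : centralizer (V : Set G) = pCore p G :=
    le_antisymm h (le_centralizer_iff.1 (hVH.trans inf_le_right))
  have hle : ∀ A : Subgroup G, IsMaxIn (fun A => IsMulCommutative A) (P : Subgroup G) A →
      A ≤ pCore p G := by
    rintro A ⟨hAP, hAc, hAmax⟩
    obtain ⟨A', hA'P, hA'c, hcard, hq, hne⟩ :=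
      replacement_abelian P.2 hel hVP le_normalizer_of_normal hAc hAP hAmax
    have h0 : ⁅V, A⁆ = ⊥ := by
      by_contra h0
      exact hne h0 (hoff V A' inferInstance hel hCV hVP hA'P hA'c
        (fun B hB hB' => hcard ▸ hAmax B hB hB') hq)
    exact (commutator_eq_bot_iff_le_centralizer.1 ((commutator_comm _ _).trans h0)).trans h
  rw [← thompsonAOf_eq_of_le hHP hle, eq_top_iff]
  refine le_trans ?_ ((thompsonALoc p).W_normalizer (pCore p G))
  rw [normalizer_eq_top]

/-- `p = 2` without sections `S₄`: a quadratic abelian subgroup of largest order centralises. -/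
theorem commutator_eq_bot_of_sfour_free {G : Type w} [Group G] [Finite G]
    (hfree : ¬ Involves (Equiv.Perm (Fin 4)) G) {P : Sylow 2 G} (hM : ∃ M : Subgroup (G ⧸ pCore 2 G),
      M.Normal ∧ (Nat.card M).Coprime 2 ∧ centralizer (M : Set (G ⧸ pCore 2 G)) ≤ M)
    (V A : Subgroup G) (hVn : V.Normal) (hV : IsElementaryAbelian 2 V)
    (hCV : centralizer (V : Set G) = pCore 2 G) (hVP : V ≤ (P : Subgroup G))
    (hAP : A ≤ (P : Subgroup G)) (hA : IsMulCommutative A)
    (hmax : ∀ B : Subgroup G, B ≤ (P : Subgroup G) → IsMulCommutative B →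
      Nat.card B ≤ Nat.card A)
    (hq : ⁅⁅V, A⁆, A⁆ = ⊥) : ⁅V, A⁆ = ⊥ := by
  haveI := hVn
  obtain ⟨M, hMn, hMc, hMC⟩ := hM
  haveI := hMn
  set Q := pCore 2 G with hQ
  set π := QuotientGroup.mk' Q with hπ
  have hker : ∀ g, π g = 1 → g ∈ centralizer (V : Set G) := fun g hg =>
    hCV ▸ (QuotientGroup.eq_one_iff g).1 hg
  set Ab := A.map π with hAb
  have hsq : ∀ a ∈ A, a * a ∈ centralizer (V : Set G) := fun a ha => by
    rw [← pow_two]; exact quad_pow_mem hV le_normalizer_of_normal hq ha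
  have hAbe : IsElementaryAbelian 2 Ab := by
    refine ⟨le_centralizer_iff_isMulCommutative.1 ?_, ?_⟩
    · rintro _ ⟨u, hu, rfl⟩
      rw [mem_centralizer_iff]
      rintro _ ⟨v, hv, rfl⟩
      rw [← map_mul, ← map_mul, comm_of_mem hA hv hu]
    · rintro _ ⟨u, hu, rfl⟩
      rw [← map_pow, pow_two]
      exact (QuotientGroup.eq_one_iff _).2 (hCV ▸ hsq u hu)
  obtain ⟨n, a, k, hcard, haA, hkM, hk1, hinv, hcomm⟩ := exists_dual_family M
    (Nat.coprime_two_right.1 hMc) hMC Ab hAbe
  choose a' ha'A ha' using haA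
  have hk' : ∀ i, ∃ g : G, π g = k i := fun i => QuotientGroup.mk'_surjective Q _
  choose k' hk' using hk'
  have hnorm : ∀ g : G, g ∈ normalizer (V : Set G) := fun g =>
    le_normalizer_of_normal (K := ⊤) (mem_top g)
  have hbound := pow_four_mul_card_le hfree n V hV a' k' (fun i => hnorm _) (fun i => hnorm _)
    (fun i => hsq _ (ha'A i)) (fun i j => comm_of_mem hA (ha'A i) (ha'A j))
    (fun i => hker _ (by rw [map_mul, map_mul, map_mul, map_inv, ha', hk', hinv, inv_mul_cancel]))
    (fun i j hij => hker _ (by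
      rw [map_mul, map_mul, map_mul, map_inv, map_inv, ha', hk', hcomm i j hij,
        mul_inv_cancel_right, mul_inv_cancel]))
    (fun i => ⟨orderOf (k i),
      (Nat.coprime_two_right.1 hMc).of_dvd_nat (orderOf_dvd_natCard M (hkM i)),
      hker _ (by rw [map_pow, hk', pow_orderOf_eq_one])⟩)
    (fun i hi => hk1 i (by
      rw [← hk']
      exact (QuotientGroup.eq_one_iff _).2 (hCV ▸ hi)))
  have hCA : Nat.card ↥(V ⊓ centralizer (A : Set G)) ≤
      Nat.card ↥(V ⊓ centralizer (Set.range a')) :=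
    Subgroup.card_le_of_le (inf_le_inf_left _ (centralizer_le (by
      rintro _ ⟨i, rfl⟩; exact ha'A i)))
  set A₀ := A ⊓ centralizer (V : Set G) with hA₀
  have hA₀V : IsMulCommutative (A₀ ⊔ V : Subgroup G) :=
    abelian_sup (abelian_mono hA inf_le_left) hV.1 inf_le_right
  have h1 := hmax _ (sup_le (inf_le_left.trans hAP) hVP) hA₀V
  have h2 : Nat.card A₀ * Nat.card V
      = Nat.card (A₀ ⊔ V : Subgroup G) * Nat.card ↥(A₀ ⊓ V) :=
    CfsgLib.PLocal.card_sup_mul_card_inf A₀ V le_normalizer_of_normal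
  have h3 : Nat.card ↥(A₀ ⊓ V) ≤ Nat.card ↥(V ⊓ centralizer (A : Set G)) :=
    Subgroup.card_le_of_le (le_inf inf_le_right fun u hu =>
      le_centralizer_iff_isMulCommutative.2 hA hu.1.1)
  have h4 : Nat.card A = Nat.card A₀ * Nat.card Ab := by
    have e1 := card_mul_relIndex' (inf_le_left : A₀ ≤ A)
    rw [← e1, hA₀, inf_relIndex_left]
    congr 1
    rw [hCV]
    exact (congrArg (fun H : Subgroup G => H.relIndex A) (QuotientGroup.ker_mk' Q).symm).trans
      (relIndex_ker (K := A) π)
  set c := Nat.card ↥(V ⊓ centralizer (A : Set G))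
  have hV' : Nat.card V ≤ 2 ^ n * c := by
    refine Nat.le_of_mul_le_mul_left ?_ (Nat.card_pos : 0 < Nat.card A₀)
    calc Nat.card A₀ * Nat.card V
        = Nat.card (A₀ ⊔ V : Subgroup G) * Nat.card ↥(A₀ ⊓ V) := h2
      _ ≤ Nat.card A₀ * Nat.card Ab * c := Nat.mul_le_mul (h1.trans h4.le) h3
      _ ≤ Nat.card A₀ * (2 ^ n * c) := by
          rw [mul_assoc]; exact Nat.mul_le_mul_left _ (Nat.mul_le_mul_right _ hcard)
  have hn : n = 0 := by
    by_contra hn0
    have h6 := Nat.le_of_mul_le_mul_right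
      ((Nat.mul_le_mul_left _ hCA).trans (hbound.trans hV')) Nat.card_pos
    have h7 : 2 ^ n < 4 ^ n := Nat.pow_lt_pow_left (by norm_num) hn0
    omega
  subst hn
  have : Ab = ⊥ := Subgroup.card_eq_one.1 (le_antisymm (by simpa using hcard) Nat.card_pos)
  rw [hAb, Subgroup.map_eq_bot_iff, QuotientGroup.ker_mk'] at this
  rw [commutator_comm, commutator_eq_bot_iff_le_centralizer, hCV]
  exact this

/-- Thompson's normal `p`-complement theorem, abelian version of `J`; `p` odd or no `S₄`. -/
theorem hasNormalPComplement_thompsonA {G : Type w} [Group G] [Finite G]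
    (h : p ≠ 2 ∨ ¬ Involves (Equiv.Perm (Fin 4)) G) (P : Sylow p G)
    (hC : HasNormalPComplement p (centralizer
      (((P : Subgroup G) ⊓ centralizer ((P : Subgroup G) : Set G) : Subgroup G) : Set G)))
    (hJ : HasNormalPComplement p
      (normalizer (thompsonSubgroupAOf (P : Subgroup G) : Set G))) :
    HasNormalPComplement p G := by
  by_cases hp : p = 2
  swap
  · refine hasNormalPComplement_of_locals hp {thompsonALoc p, centralizerCenterLoc p}
      ⟨thompsonALoc p, Set.mem_insert _ _, fun S => le_rfl⟩ (fun K _ _ Q hcfg => ?_) P ?_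
    · rcases exists_top_of_offenders hcfg.centralizer_le hcfg.dich hcfg.exists_coprime
        (fun V A hVn hV hCV hVP hAP hA _ hq => by
          rw [commutator_comm, commutator_eq_bot_iff_le_centralizer, hCV]
          intro a ha
          haveI := hVn
          refine hcfg.quad V hVn (isPGroup_of_elementary hV) hCV.le a (hAP ha) fun v hv => ?_
          exact quad_of_commutator (le_bot_iff.mp ((commutator_mono (commutator_mono le_rfl
            (zpowers_le.2 ha)) (zpowers_le.2 ha)).trans hq.le)) hv) with h1 | h1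
      · exact ⟨thompsonALoc p, Set.mem_insert _ _, h1⟩
      · exact ⟨centralizerCenterLoc p, Set.mem_insert_of_mem _ rfl, h1⟩
    · rintro L (rfl | rfl)
      · exact hJ
      · exact hC
  subst hp
  have hfree := h.resolve_left (not_not_intro rfl)
  let 𝓛 : Set (Loc.{w} 2) := {thompsonALoc 2, centralizerCenterLoc 2}
  suffices ∀ (n : ℕ) (K : Type w) [Group K] [Finite K], IsSec G K → Nat.card K = n →
      ∀ Q : Sylow 2 K, (∀ L ∈ 𝓛, HasNormalPComplement 2 (L.M (Q : Subgroup K))) →
        HasNormalPComplement 2 K from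
    this _ G (isSec_self G) rfl P (by rintro L (rfl | rfl); exacts [hJ, hC])
  intro n
  induction n using Nat.strong_induction_on with
  | _ n ih =>
  intro K _ _ hsec hn Q hQ
  by_contra hno
  have hmin : MinimalIn G 𝓛 Q :=
    ⟨hQ, hno, hsec, fun K' _ _ hs hlt Q' h' => ih _ (hn ▸ hlt) K' hs rfl Q' h'⟩
  have hcfg := hmin.configFree
    (hmin.pCore_lt ⟨thompsonALoc 2, Set.mem_insert _ _, fun S => le_rfl⟩)
  rcases exists_top_of_offenders hcfg.centralizer_le hcfg.dich hcfg.exists_coprime
    (commutator_eq_bot_of_sfour_free (not_involves_of_isSec hsec hfree) hcfg.exists_odd)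
    with h1 | h1
  · exact hno (npc_of_top h1 (hQ _ (Set.mem_insert _ _)))
  · exact hno (npc_of_top h1 (hQ _ (Set.mem_insert_of_mem _ rfl)))

end CfsgLib.Techniques
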