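import Cfsg.Agent.Lib.Techniques.Control
import Cfsg.Agent.Lib.Transfer.Fusion
import Cfsg.Agent.Lib.Transfer.Conj
import Cfsg.Agent.Lib.HallGen.Counting
import Cfsg.Agent.Lib.PLocal.Comm

/-!
# Control of fusion lifts from a normal subgroup
-/

set_option autoImplicit false
set_option linter.all false

namespace CfsgLib.Techniques

open Subgroup

variable {G : Type*} [Group G] {p : ℕ}

/-- Downward induction on the order of the fused subgroup. -/
theorem downward_card [Finite G] [Fact p.Prime] (S : Sylow p G) (Φ : Subgroup G → G → Prop)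
    (mono : ∀ A g, Φ A g → ∀ B, B ≤ A → Φ B g)
    (trans : ∀ A g k, Φ A g → Φ (A.map (MulAut.conj g).toMonoidHom) k → Φ A (k * g))
    (step : ∀ U : Subgroup G, U ≤ (S : Subgroup G) → IsFullyNormalized p (S : Subgroup G) U →
      (∀ D : Subgroup G, D ≤ (S : Subgroup G) → ∀ g : G,
        D.map (MulAut.conj g).toMonoidHom ≤ (S : Subgroup G) →
        Nat.card U < Nat.card D → Φ D g) →
      ∀ x ∈ normalizer (U : Set G), Φ U x) :
    ∀ A : Subgroup G, A ≤ (S : Subgroup G) → ∀ g : G,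
      A.map (MulAut.conj g).toMonoidHom ≤ (S : Subgroup G) → Φ A g := by
  suffices H : ∀ k, ∀ A : Subgroup G, A ≤ (S : Subgroup G) → ∀ g : G,
      A.map (MulAut.conj g).toMonoidHom ≤ (S : Subgroup G) →
      Nat.card (S : Subgroup G) - Nat.card A ≤ k → Φ A g from
    fun A hA g hg => H _ A hA g hg le_rfl
  intro k
  induction k using Nat.strong_induction_on with
  | _ k ih => ?_
  intro D hD g hg hk
  have hcard : ∀ X : Subgroup G, X ≤ (S : Subgroup G) →
      Nat.card X ≤ Nat.card (S : Subgroup G) := fun X hX => Subgroup.card_le_of_le hX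
  have IH : ∀ (D' : Subgroup G) (g' : G), D' ≤ (S : Subgroup G) →
      D'.map (MulAut.conj g').toMonoidHom ≤ (S : Subgroup G) → Nat.card D < Nat.card D' →
      Φ D' g' := fun D' g' h1 h2 h3 => by
    have := hcard D' h1
    exact ih (Nat.card (S : Subgroup G) - Nat.card D') (by omega) D' h1 g' h2 le_rfl
  rcases eq_or_lt_of_le hD with rfl | hlt
  · exact step _ le_rfl (isFullyNormalized_self S)
      (fun D' hD' g' hg' hlt => absurd (hcard D' hD') (by omega)) g
      (mem_normalizer_of_map_conj_eq (Subgroup.eq_of_le_of_card_ge hg (by rw [card_map_conj])))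
  obtain ⟨a₀, haS, hfull, -⟩ := exists_fullyNormalized_conj S hD
  set U := D.map (MulAut.conj a₀).toMonoidHom with hU
  have hUD : Nat.card U = Nat.card D := card_map_conj D a₀
  have hKU : ∀ x ∈ normalizer (U : Set G), Φ U x :=
    step U haS hfull fun D' hD' g' hg' hlt' => IH D' g' hD' hg' (hUD ▸ hlt')
  set E := D.map (MulAut.conj g).toMonoidHom with hE
  have hb₀ : E.map (MulAut.conj (a₀ * g⁻¹)).toMonoidHom = U := by
    rw [hE, map_conj_conj, inv_mul_cancel_right]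
  obtain ⟨m, -, haU, haN⟩ := hfull.exists_correct S.2 (hU.symm)
  obtain ⟨m', -, hbU, hbN⟩ := hfull.exists_correct S.2 hb₀
  set a := m * a₀
  set b := m' * (a₀ * g⁻¹)
  set n := b * g * a⁻¹ with hn
  have hnU : n ∈ normalizer (U : Set G) := by
    refine mem_normalizer_of_map_conj_eq ?_
    rw [hn, ← map_conj_conj, ← haU, map_conj_inv_conj, ← map_conj_conj, ← hE, hbU, haU]
  have hElt : E < (S : Subgroup G) := lt_of_le_of_ne hg fun he => by
    have := card_map_conj D g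
    rw [← hE, he] at this
    exact hlt.ne (Subgroup.eq_of_le_of_card_ge hlt.le this.le)
  have p1 : Φ D a :=
    mono _ _ (IH _ a inf_le_left (haN.trans inf_le_left)
      (CfsgLib.Transfer.card_lt_of_lt (CfsgLib.Transfer.lt_inf_normalizer S.2 hlt))) _
      (le_inf hD le_normalizer)
  have p2 : Φ D (n * a) := trans _ _ _ p1 (haU ▸ hKU n hnU)
  have hbig : Nat.card D <
      Nat.card (((S : Subgroup G) ⊓ normalizer (E : Set G)).map
        (MulAut.conj b).toMonoidHom : Subgroup G) := by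
    rw [card_map_conj, ← card_map_conj D g]
    exact CfsgLib.Transfer.card_lt_of_lt (CfsgLib.Transfer.lt_inf_normalizer S.2 hElt)
  have p3 := IH _ b⁻¹ (hbN.trans inf_le_left) (by rw [map_conj_inv_conj]; exact inf_le_left) hbig
  have e : g = b⁻¹ * (n * a) := by rw [hn]; group
  rw [e]
  refine trans _ _ _ p2 (mono _ _ p3 _ ?_)
  rw [show n * a = b * g by rw [hn]; group, ← map_conj_conj]
  exact Subgroup.map_mono (le_inf hg le_normalizer)

/-- A `p'`-element stabilizing the chain `U ≥ B ≥ 1` centralizes the `p`-group `U`. -/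
theorem commute_of_chain {U : Subgroup G} (hU : IsPGroup p U) {e u : G}
    (he : Nat.Coprime (orderOf e) p) (hd : e * u * e⁻¹ * u⁻¹ ∈ U)
    (hfix : Commute e (e * u * e⁻¹ * u⁻¹)) : e * u = u * e := by
  set d := e * u * e⁻¹ * u⁻¹ with hd'
  have hpow : ∀ n : ℕ, e ^ n * u * (e ^ n)⁻¹ = d ^ n * u := by
    intro n
    induction n with
    | zero => simp
    | succ n ih =>
      calc e ^ (n + 1) * u * (e ^ (n + 1))⁻¹ = e * (e ^ n * u * (e ^ n)⁻¹) * e⁻¹ := by
            rw [pow_succ']; group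
        _ = d ^ n * (e * u * e⁻¹) := by rw [ih, ← mul_assoc e, (hfix.pow_right n).eq]; group
        _ = d ^ (n + 1) * u := by
            rw [pow_succ, mul_assoc (d ^ n) d, hd', inv_mul_cancel_right]
  have h1 := hpow (orderOf e)
  rw [pow_orderOf_eq_one, one_mul, inv_one, mul_one, eq_comm, mul_eq_right] at h1
  obtain ⟨k, hk⟩ := hU ⟨d, hd⟩
  have hd1 : d = 1 := orderOf_eq_one_iff.1 (Nat.eq_one_of_dvd_coprimes (he.pow_right k)
    (orderOf_dvd_of_pow_eq_one h1) (orderOf_dvd_of_pow_eq_one (congrArg Subtype.val hk)))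
  rwa [hd', mul_inv_eq_one, mul_inv_eq_iff_eq_mul] at hd1

/-- intersecting a Sylow subgroup with a normal subgroup -/
theorem IsSylowSub.inf_normal_of_conj [Finite G] [Fact p.Prime] {Q H C : Subgroup G}
    (hQ : IsSylowSub p Q H) (hCH : C ≤ H) (hC : ∀ h ∈ H, ∀ c ∈ C, h * c * h⁻¹ ∈ C) :
    IsSylowSub p (Q ⊓ C) C := by
  obtain ⟨hQH, hQp, hQi⟩ := hQ
  refine ⟨inf_le_right, hQp.to_le inf_le_left, fun hd => hQi ?_⟩
  haveI : (C.subgroupOf H).Normal := ⟨fun c hc h => hC h h.2 c hc⟩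
  have h1 : Q.relIndex C = (Q.subgroupOf H).relIndex (C.subgroupOf H) :=
    (relIndex_subgroupOf hCH).symm
  rw [inf_relIndex_right, h1] at hd
  exact hd.trans (CfsgLib.HallGen.relIndex_dvd_index_right _ _)

theorem map_pResidual_subgroup [Finite G] [Fact p.Prime] (E : Subgroup G) :
    (Cfsg.pResidual p E).map E.subtype =
      closure {g : G | g ∈ E ∧ Nat.Coprime (orderOf g) p} := by
  rw [Cfsg.pResidual, MonoidHom.map_closure]
  congr 1
  ext g
  constructor
  · rintro ⟨y, hy, rfl⟩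
    exact ⟨y.2, by rwa [Subgroup.coe_subtype, Subgroup.orderOf_coe]⟩
  · rintro ⟨hg, hgc⟩
    exact ⟨⟨g, hg⟩, by rwa [Set.mem_setOf_eq, Subgroup.orderOf_mk], rfl⟩

theorem exists_decomp_coprime_closure [Finite G] [Fact p.Prime] {E T : Subgroup G}
    (hT : IsSylowSub p T E) {e : G} (he : e ∈ E) :
    ∃ t ∈ T, ∃ k ∈ closure {g : G | g ∈ E ∧ Nat.Coprime (orderOf g) p}, e = t * k := by
  obtain ⟨hTE, hTp, hTi⟩ := hT
  let P : Sylow p E := (hTp.comap_subtype (K := E)).toSylow hTi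
  obtain ⟨t, ht, k, hk, h⟩ := Transfer.exists_mul_mem_pResidual P ⟨e, he⟩
  refine ⟨t, ht, k, ?_, congrArg Subtype.val h⟩
  rw [← map_pResidual_subgroup]
  exact ⟨k, hk, rfl⟩

variable [Finite G] [Fact p.Prime] {N : Subgroup G} [N.Normal] {V : Subgroup G}

/-- strong control by `N_N(V)` gives simultaneous control by all conjugates of `V` -/
theorem exists_mem_iInf_conj (P : Sylow p G) (hV : V ≤ (P : Subgroup G) ⊓ N)
    (hctrl : ∀ A : Subgroup G, A ≤ (P : Subgroup G) ⊓ N → ∀ n ∈ N,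
      A.map (MulAut.conj n).toMonoidHom ≤ (P : Subgroup G) ⊓ N →
      ∃ h ∈ N ⊓ normalizer (V : Set G), ∃ c ∈ N ⊓ centralizer (A : Set G), n = h * c)
    (s : Set G) (hsfin : s.Finite)
    (hs : s ⊆ (normalizer (((P : Subgroup G) ⊓ N : Subgroup G) : Set G) : Set G)) :
    ∀ A : Subgroup G, A ≤ (P : Subgroup G) ⊓ N → ∀ n ∈ N,
      A.map (MulAut.conj n).toMonoidHom ≤ (P : Subgroup G) ⊓ N →
      ∃ h ∈ N, (∀ x ∈ s, h ∈ normalizer ((V.map (MulAut.conj x).toMonoidHom : Subgroup G) : Set G)) ∧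
        ∃ c ∈ N ⊓ centralizer (A : Set G), n = h * c := by
  induction s, hsfin using Set.Finite.induction_on with
  | empty =>
    intro A hA n hn hAn
    exact ⟨n, hn, by simp, 1, one_mem _, (mul_one n).symm⟩
  | @insert y s hys hsf ih =>
    intro A hA n hn hAn
    set PN := (P : Subgroup G) ⊓ N with hPN
    have hs' : s ⊆ (normalizer (PN : Set G) : Set G) := fun x hx => hs (Set.mem_insert_of_mem _ hx)
    have hy : y ∈ normalizer (PN : Set G) := hs (Set.mem_insert _ _)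
    obtain ⟨h, hhN, hh, c, hc, hnhc⟩ := ih hs' A hA n hn hAn
    have hVx : ∀ x ∈ s, V.map (MulAut.conj x).toMonoidHom ≤ PN := fun x hx =>
      (Subgroup.map_mono hV).trans (map_conj_of_mem_normalizer (hs' hx)).le
    set A1 := A ⊔ ⨆ x ∈ s, V.map (MulAut.conj x).toMonoidHom with hA1
    have hA1le : A1 ≤ PN := sup_le hA (iSup₂_le hVx)
    have hA1h : A1.map (MulAut.conj h).toMonoidHom ≤ PN := by
      simp only [hA1, Subgroup.map_sup, Subgroup.map_iSup]
      refine sup_le ?_ (iSup₂_le fun x hx => ?_)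
      · rintro _ ⟨a, ha, rfl⟩
        have h1 := hAn ⟨a, ha, rfl⟩
        show h * a * h⁻¹ ∈ PN
        have h2 : c * a = a * c := (mem_centralizer_iff.1 hc.2 a ha).symm
        simp only [MulEquiv.coe_toMonoidHom, MulAut.conj_apply, hnhc, mul_inv_rev] at h1
        rwa [show h * c * a * (c⁻¹ * h⁻¹) = h * (c * a) * c⁻¹ * h⁻¹ by group, h2,
          show h * (a * c) * c⁻¹ * h⁻¹ = h * a * h⁻¹ by group] at h1
      · rw [map_conj_of_mem_normalizer (hh x hx)]
        exact hVx x hx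
    -- control by the conjugate of `V` under `y`
    have hyi : y⁻¹ ∈ normalizer (PN : Set G) := inv_mem hy
    obtain ⟨h₁, hh₁, c₁, hc₁, he⟩ := hctrl (A1.map (MulAut.conj y⁻¹).toMonoidHom)
      ((Subgroup.map_mono hA1le).trans (map_conj_of_mem_normalizer hyi).le) (y⁻¹ * h * y)
      (by simpa using (inferInstance : N.Normal).conj_mem h hhN y⁻¹)
      (by
        rw [map_conj_conj, show y⁻¹ * h * y * y⁻¹ = y⁻¹ * h by group, ← map_conj_conj]
        exact (Subgroup.map_mono hA1h).trans (map_conj_of_mem_normalizer hyi).le)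
    set h' := y * h₁ * y⁻¹ with hh'
    set c' := y * c₁ * y⁻¹ with hc'
    have hhc : h = h' * c' := by
      calc h = y * (y⁻¹ * h * y) * y⁻¹ := by group
        _ = y * (h₁ * c₁) * y⁻¹ := by rw [he]
        _ = h' * c' := by rw [hh', hc']; group
    have hc'C : c' ∈ centralizer (A1 : Set G) := by
      rw [mem_centralizer_iff]
      intro a ha
      have h1 := mem_centralizer_iff.1 hc₁.2 (y⁻¹ * a * y) ⟨a, ha, by simp⟩
      calc a * c' = y * ((y⁻¹ * a * y) * c₁) * y⁻¹ := by rw [hc']; group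
        _ = y * (c₁ * (y⁻¹ * a * y)) * y⁻¹ := by rw [h1]
        _ = c' * a := by rw [hc']; group
    refine ⟨h', (inferInstance : N.Normal).conj_mem h₁ hh₁.1 y, ?_, c' * c, ?_, ?_⟩
    · intro x hx
      rcases Set.mem_insert_iff.1 hx with rfl | hx
      · rw [normalizer_map_conj', mem_map_conj_iff, hh',
          show x⁻¹ * (x * h₁ * x⁻¹) * x = h₁ by group]
        exact hh₁.2
      · have hle : V.map (MulAut.conj x).toMonoidHom ≤ A1 :=
          le_sup_of_le_right (le_iSup₂ (f := fun x _ => V.map (MulAut.conj x).toMonoidHom) x hx)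
        have h1 : c' ∈ normalizer ((V.map (MulAut.conj x).toMonoidHom : Subgroup G) : Set G) :=
          centralizer_le_normalizer _ (centralizer_le (SetLike.coe_subset_coe.2 hle) hc'C)
        have h2 : h' = h * c'⁻¹ := by rw [hhc, mul_inv_cancel_right]
        rw [h2]
        exact mul_mem (hh x hx) (inv_mem h1)
    · refine mem_inf.2 ⟨mul_mem ((inferInstance : N.Normal).conj_mem c₁ hc₁.1 y) hc.1, ?_⟩
      exact mul_mem (centralizer_le (SetLike.coe_subset_coe.2 le_sup_left) hc'C) hc.2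
    · rw [← mul_assoc, ← hhc, hnhc]

theorem control_of_normal (P : Sylow p G) (hV : V ≤ (P : Subgroup G) ⊓ N)
    (hctrl : ∀ A : Subgroup G, A ≤ (P : Subgroup G) ⊓ N → ∀ n ∈ N,
      A.map (MulAut.conj n).toMonoidHom ≤ (P : Subgroup G) ⊓ N →
      ∃ h ∈ N ⊓ normalizer (V : Set G), ∃ c ∈ N ⊓ centralizer (A : Set G), n = h * c)
    {W : Subgroup G}
    (hW : W = Subgroup.closure (⋃ x ∈ normalizer (((P : Subgroup G) ⊓ N : Subgroup G) : Set G),
      ((V.map (MulAut.conj x).toMonoidHom : Subgroup G) : Set G))) :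
    ∀ A : Subgroup G, A ≤ (P : Subgroup G) → ∀ g : G,
      A.map (MulAut.conj g).toMonoidHom ≤ (P : Subgroup G) →
      ∃ h ∈ normalizer (W : Set G), ∀ a ∈ A, h * a * h⁻¹ = g * a * g⁻¹ := by
  set PN := (P : Subgroup G) ⊓ N with hPN
  set M := normalizer (W : Set G) with hM
  have hWsup : W = ⨆ x ∈ normalizer (PN : Set G), V.map (MulAut.conj x).toMonoidHom := by
    rw [hW]
    refine le_antisymm ((closure_le _).2 ?_) (iSup₂_le fun x hx => ?_)
    · simp only [Set.iUnion_subset_iff]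
      exact fun x hx y hy =>
        le_iSup₂ (f := fun x _ => V.map (MulAut.conj x).toMonoidHom) x hx hy
    · exact fun y hy => subset_closure (Set.mem_biUnion hx hy)
  have hnorm : normalizer (PN : Set G) ≤ M := fun x hx => by
    refine mem_normalizer_of_map_conj_eq (eq_of_le_of_card_ge ?_ (card_map_conj W x).ge)
    simp only [hWsup, Subgroup.map_iSup]
    refine iSup₂_le fun y hy => ?_
    rw [map_conj_conj]
    exact le_iSup₂ (f := fun x _ => V.map (MulAut.conj x).toMonoidHom) (x * y) (mul_mem hx hy)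
  have hPM : (P : Subgroup G) ≤ M := fun x hx => hnorm (by
    refine mem_normalizer_of_map_conj_eq (eq_of_le_of_card_ge ?_ (card_map_conj PN x).ge)
    rintro _ ⟨y, hy, rfl⟩
    exact mem_inf.2 ⟨mul_mem (mul_mem hx hy.1) (inv_mem hx),
      (inferInstance : N.Normal).conj_mem y hy.2 x⟩)
  have hPNi : ¬ p ∣ PN.relIndex N := fun hd =>
    P.not_dvd_index (by
      rw [hPN, inf_relIndex_right] at hd
      exact hd.trans (CfsgLib.HallGen.relIndex_dvd_index_right _ _))
  have hPNp : IsPGroup p PN := P.2.to_le inf_le_left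
  -- subgroups of `P ∩ N`
  have hNlem : ∀ A : Subgroup G, A ≤ PN → ∀ g : G, A.map (MulAut.conj g).toMonoidHom ≤ PN →
      ∃ h ∈ M, ∃ d ∈ N ⊓ centralizer (A : Set G), g = h * d := by
    intro A hA g hg
    obtain ⟨m, hmN, hm⟩ := Transfer.exists_conj_le hPNp hPNi
      (S := PN.map (MulAut.conj g).toMonoidHom) (by
        rintro _ ⟨y, hy, rfl⟩
        exact (inferInstance : N.Normal).conj_mem y hy.2 g) (hPNp.map _)
    have hx₀ : m⁻¹ * g ∈ normalizer (PN : Set G) := by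
      refine mem_normalizer_of_map_conj_eq (eq_of_le_of_card_ge ?_ (card_map_conj PN _).ge)
      rintro _ ⟨y, hy, rfl⟩
      have := hm _ ⟨y, hy, rfl⟩
      simpa [mul_assoc] using this
    set x₀ := m⁻¹ * g with hx₀'
    obtain ⟨h, hhN, hh, c, hc, he⟩ := exists_mem_iInf_conj P hV hctrl
      (normalizer (PN : Set G) : Set G) (Set.toFinite _) le_rfl
      (A.map (MulAut.conj x₀).toMonoidHom)
      ((Subgroup.map_mono hA).trans (map_conj_of_mem_normalizer hx₀).le) m hmN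
      (by rwa [map_conj_conj, hx₀', mul_inv_cancel_left])
    have hhM : h ∈ M := by
      refine mem_normalizer_of_map_conj_eq (eq_of_le_of_card_ge ?_ (card_map_conj W h).ge)
      simp only [hWsup, Subgroup.map_iSup]
      refine iSup₂_le fun y hy => ?_
      rw [map_conj_of_mem_normalizer (hh y hy)]
      exact le_iSup₂ (f := fun x _ => V.map (MulAut.conj x).toMonoidHom) y hy
    refine ⟨h * x₀, mul_mem hhM (hnorm hx₀), x₀⁻¹ * c * x₀, mem_inf.2 ⟨?_, ?_⟩, ?_⟩
    · simpa using (inferInstance : N.Normal).conj_mem c hc.1 x₀⁻¹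
    · rw [mem_centralizer_iff]
      intro a ha
      have h1 := mem_centralizer_iff.1 hc.2 (x₀ * a * x₀⁻¹) ⟨a, ha, rfl⟩
      calc a * (x₀⁻¹ * c * x₀) = x₀⁻¹ * ((x₀ * a * x₀⁻¹) * c) * x₀ := by group
        _ = x₀⁻¹ * (c * (x₀ * a * x₀⁻¹)) * x₀ := by rw [h1]
        _ = (x₀⁻¹ * c * x₀) * a := by group
    · rw [show h * x₀ * (x₀⁻¹ * c * x₀) = h * c * x₀ by group, ← he, hx₀', mul_inv_cancel_left]
  refine downward_card P (fun A g => ∃ h ∈ M, ∀ a ∈ A, h * a * h⁻¹ = g * a * g⁻¹)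
    (fun A g ⟨h, hh, he⟩ B hB => ⟨h, hh, fun a ha => he a (hB ha)⟩)
    (fun A g k ⟨h, hh, he⟩ ⟨h', hh', he'⟩ => ⟨h' * h, mul_mem hh' hh, fun a ha => by
      rw [conj_mul_conj, conj_mul_conj, he a ha]
      exact he' _ ⟨a, ha, rfl⟩⟩) ?_
  intro U hU hfull IH x hx
  set B := U ⊓ N with hB
  set E := N ⊓ centralizer (B : Set G) ⊓ normalizer (U : Set G) with hE
  set TE := (P : Subgroup G) ⊓ E with hTE
  have hUp : IsPGroup p U := P.2.to_le hU
  have hxU : ∀ {y : G}, y ∈ normalizer (U : Set G) → ∀ u ∈ U, y * u * y⁻¹ ∈ U :=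
    fun {y} hy u hu => (mem_normalizer_iff.1 hy u).1 hu
  set C := N ⊓ centralizer (B : Set G) with hC
  have hCn : ∀ y ∈ normalizer (U : Set G), ∀ c ∈ C, y * c * y⁻¹ ∈ C := by
    intro y hy e he
    refine mem_inf.2 ⟨(inferInstance : N.Normal).conj_mem e he.1 y, ?_⟩
    rw [mem_centralizer_iff]
    intro b hb
    have hb' : y⁻¹ * b * y ∈ B := by
      refine ⟨?_, ?_⟩
      · simpa using hxU (inv_mem hy) b hb.1
      · simpa using (inferInstance : N.Normal).conj_mem b hb.2 y⁻¹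
    have h1 := mem_centralizer_iff.1 he.2 _ hb'
    calc b * (y * e * y⁻¹) = y * ((y⁻¹ * b * y) * e) * y⁻¹ := by group
      _ = y * (e * (y⁻¹ * b * y)) * y⁻¹ := by rw [h1]
      _ = y * e * y⁻¹ * b := by group
  have hEn : ∀ y ∈ normalizer (U : Set G), ∀ e ∈ E, y * e * y⁻¹ ∈ E := fun y hy e he =>
    mem_inf.2 ⟨hCn y hy e he.1, mul_mem (mul_mem hy he.2) (inv_mem hy)⟩
  have hTEs : IsSylowSub p TE E := by
    have h1 := (show IsSylowSub p ((P : Subgroup G) ⊓ normalizer (U : Set G))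
      (normalizer (U : Set G)) from ⟨inf_le_right, P.2.to_le inf_le_left, hfull⟩).inf_normal_of_conj
      (C := E) inf_le_right hEn
    rwa [inf_assoc, inf_eq_right.2 (inf_le_right : E ≤ normalizer (U : Set G))] at h1
  by_cases hcase : TE ≤ U
  swap
  · -- a larger subgroup is normalized
    obtain ⟨e, he, hm⟩ := Transfer.exists_conj_le hTEs.2.1 hTEs.2.2
      (S := TE.map (MulAut.conj x).toMonoidHom) (by
        rintro _ ⟨y, hy, rfl⟩
        exact hEn x hx y hy.2) (hTEs.2.1.map _)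
    set n' := e⁻¹ * x with hn'
    have hn'U : n' ∈ normalizer (U : Set G) := mul_mem (inv_mem he.2) hx
    have hn'T : n' ∈ normalizer (TE : Set G) := by
      refine mem_normalizer_of_map_conj_eq (eq_of_le_of_card_ge ?_ (card_map_conj TE _).ge)
      rintro _ ⟨y, hy, rfl⟩
      have := hm _ ⟨y, hy, rfl⟩
      simpa [hn', mul_assoc] using this
    obtain ⟨t, ht, k, hk, hek⟩ := exists_decomp_coprime_closure hTEs he
    have hkU : k ∈ centralizer (U : Set G) := by
      refine (closure_le _).2 ?_ hk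
      rintro y ⟨hy, hyc⟩
      rw [SetLike.mem_coe, mem_centralizer_iff]
      intro u hu
      have hdU : y * u * y⁻¹ * u⁻¹ ∈ U := mul_mem (hxU hy.2 u hu) (inv_mem hu)
      have hdN : y * u * y⁻¹ * u⁻¹ ∈ N := by
        rw [show y * u * y⁻¹ * u⁻¹ = y * (u * y⁻¹ * u⁻¹) by group]
        exact mul_mem hy.1.1 ((inferInstance : N.Normal).conj_mem _ (inv_mem hy.1.1) u)
      exact (commute_of_chain hUp hyc hdU
        (mem_centralizer_iff.1 hy.1.2 _ ⟨hdU, hdN⟩).symm).symm
    have htn : t * n' ∈ normalizer (U : Set G) ∧ t * n' ∈ normalizer (TE : Set G) :=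
      ⟨mul_mem ht.2.2 hn'U, mul_mem (le_normalizer ht) hn'T⟩
    set Q := U ⊔ TE with hQ
    have hQP : Q ≤ (P : Subgroup G) := sup_le hU inf_le_left
    have hQt : Q.map (MulAut.conj (t * n')).toMonoidHom ≤ (P : Subgroup G) := by
      rw [hQ, Subgroup.map_sup, map_conj_of_mem_normalizer htn.1,
        map_conj_of_mem_normalizer htn.2]
      exact hQP
    obtain ⟨h, hh, heq⟩ := IH Q hQP (t * n') hQt
      (CfsgLib.Transfer.card_lt_of_lt (lt_of_le_of_ne le_sup_left fun h =>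
        hcase (h ▸ le_sup_right)))
    refine ⟨h, hh, fun u hu => ?_⟩
    rw [heq u (mem_sup_left hu)]
    have h1 := mem_centralizer_iff.1 hkU _ (hxU hn'U u hu)
    calc t * n' * u * (t * n')⁻¹ = t * (n' * u * n'⁻¹) * t⁻¹ := by group
      _ = t * (k * (n' * u * n'⁻¹) * k⁻¹) * t⁻¹ := by rw [← h1, mul_inv_cancel_right]
      _ = (e * n') * u * (e * n')⁻¹ := by rw [hek]; group
      _ = x * u * x⁻¹ := by rw [hn', mul_inv_cancel_left]
  -- `C_{P ∩ N}(B) ≤ B`
  have hsmall : ∀ R : Subgroup G, R ≤ C → IsPGroup p R → U ≤ normalizer (R : Set G) → R ≤ U := by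
    intro R hRC hR hUR
    by_contra hRU
    have hlt : U < U ⊔ R := lt_of_le_of_ne le_sup_left fun h => hRU (h ▸ le_sup_right)
    have hlt' := CfsgLib.Transfer.lt_inf_normalizer (hUp.to_sup_of_normal_right' hR hUR) hlt
    obtain ⟨z, hz, hzU⟩ := SetLike.exists_of_lt hlt'
    obtain ⟨hz1, hz2⟩ := mem_inf.1 hz
    rw [← SetLike.mem_coe, coe_mul_of_left_le_normalizer_right U R hUR] at hz1
    obtain ⟨u, hu, r, hr, rfl⟩ := hz1
    refine hzU (mul_mem hu ?_)
    have hrU : r ∈ normalizer (U : Set G) := by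
      simpa using mul_mem (inv_mem (le_normalizer hu)) hz2
    have hrE : r ∈ E := mem_inf.2 ⟨hRC hr, hrU⟩
    obtain ⟨e, he, hm⟩ := Transfer.exists_conj_le hTEs.2.1 hTEs.2.2 (S := zpowers r)
      (zpowers_le.2 hrE) (hR.to_le (zpowers_le.2 hr))
    have := hxU he.2 _ (hcase (hm r (mem_zpowers r)))
    simpa [mul_assoc] using this
  obtain ⟨Q, hUQ, hQs⟩ := exists_isSylowSub (p := p) (le_sup_left : U ≤ U ⊔ C) hUp
  have hUC : U ≤ normalizer (C : Set G) := fun u hu =>
    mem_normalizer_of_map_conj_eq (eq_of_le_of_card_ge (by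
      rintro _ ⟨c, hc, rfl⟩
      exact hCn u (le_normalizer hu) c hc) (card_map_conj C u).ge)
  have hRs : IsSylowSub p (Q ⊓ C) C := hQs.inf_normal_of_conj le_sup_right fun h hh c hc =>
    (mem_normalizer_iff.1 ((sup_le hUC le_normalizer) hh) c).1 hc
  set R := Q ⊓ C with hR
  have hRU : R ≤ U := hsmall R inf_le_right hRs.2.1 fun u hu =>
    mem_normalizer_of_map_conj_eq (eq_of_le_of_card_ge (by
      rintro _ ⟨c, hc, rfl⟩
      exact mem_inf.2 ⟨mul_mem (mul_mem (hUQ hu) hc.1) (inv_mem (hUQ hu)),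
        hCn u (le_normalizer hu) c hc.2⟩) (card_map_conj R u).ge)
  have hRcentral : ∀ r ∈ R, ∀ c ∈ C, r * c = c * r := fun r hr c hc =>
    mem_centralizer_iff.1 hc.2 r ⟨hRU hr, hr.2.1⟩
  let PC : Sylow p C := (hRs.2.1.comap_subtype (K := C)).toSylow hRs.2.2
  have hcomp : Cfsg.HasNormalPComplement p C :=
    Transfer.hasNormalPComplement_of_centralizes PC fun Z hZ y _ _ =>
      mem_centralizer_iff.2 fun z hz => Subtype.ext (hRcentral _ (hZ hz) _ y.2)
  set O := closure {g : G | g ∈ C ∧ Nat.Coprime (orderOf g) p} with hO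
  have hOc : (Nat.card O).Coprime p := by
    rw [hO, ← map_pResidual_subgroup, Subgroup.card_map_of_injective C.subtype_injective]
    exact (Transfer.hasNormalPComplement_iff_coprime).1 hcomp
  have hUO : U ≤ normalizer (O : Set G) := fun u hu =>
    mem_normalizer_of_map_conj_eq (eq_of_le_of_card_ge (by
      rw [hO, MonoidHom.map_closure]
      refine closure_mono ?_
      rintro _ ⟨c, ⟨hc, hcc⟩, rfl⟩
      exact ⟨hCn u (le_normalizer hu) c hc,
        by rwa [orderOf_injective _ (MulAut.conj u).injective c]⟩) (card_map_conj O u).ge)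
  -- the element on `B`
  obtain ⟨h₀, hh₀, d, hd, hxd⟩ := hNlem B (inf_le_inf_right N hU) x (by
    rintro _ ⟨b, hb, rfl⟩
    exact ⟨hU (hxU hx b hb.1), (inferInstance : N.Normal).conj_mem b hb.2 x⟩)
  obtain ⟨r, hr, k, hk, hdk⟩ := exists_decomp_coprime_closure hRs hd
  set h₁ := h₀ * r with hh₁
  have hh₁M : h₁ ∈ M := mul_mem hh₀ (hPM (hU (hRU hr)))
  have hxk : x = h₁ * k := by rw [hxd, hdk, hh₁, mul_assoc]
  set O' := O ⊓ M with hO'
  have hUO' : U ≤ normalizer (O' : Set G) := fun u hu =>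
    mem_normalizer_of_map_conj_eq (eq_of_le_of_card_ge (by
      rintro _ ⟨c, hc, rfl⟩
      exact mem_inf.2 ⟨(mem_normalizer_iff.1 (hUO hu) c).1 hc.1,
        mul_mem (mul_mem (hPM (hU hu)) hc.2) (inv_mem (hPM (hU hu)))⟩) (card_map_conj O' u).ge)
  have hkU : U.map (MulAut.conj k).toMonoidHom ≤ U ⊔ O' := by
    rintro _ ⟨u, hu, rfl⟩
    show k * u * k⁻¹ ∈ U ⊔ O'
    have h1 : k * u * k⁻¹ * u⁻¹ ∈ O := by
      rw [show k * u * k⁻¹ * u⁻¹ = k * (u * k⁻¹ * u⁻¹) by group]
      exact mul_mem hk ((mem_normalizer_iff.1 (hUO hu) _).1 (inv_mem hk))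
    have h2 : k * u * k⁻¹ ∈ M := by
      have h3 := mul_mem (mul_mem (inv_mem hh₁M) (hPM (hU (hxU hx u hu)))) hh₁M
      rw [hxk] at h3
      simpa [mul_assoc] using h3
    have h4 : k * u * k⁻¹ * u⁻¹ ∈ O' := mem_inf.2 ⟨h1, mul_mem h2 (inv_mem (hPM (hU hu)))⟩
    rw [show k * u * k⁻¹ = k * u * k⁻¹ * u⁻¹ * u by group]
    exact mul_mem (mem_sup_right h4) (mem_sup_left hu)
  have hcopO : (Nat.card O').Coprime p := hOc.coprime_dvd_left (card_dvd_of_le inf_le_left)
  have hdisjO : ∀ u ∈ U, u ∈ O → u = 1 := fun u hu huO => by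
    obtain ⟨i, hi⟩ := IsPGroup.iff_orderOf.1 hUp ⟨u, hu⟩
    have h1 : orderOf u ∣ Nat.card O := by
      rw [← Subgroup.orderOf_mk u huO]; exact orderOf_dvd_natCard _
    rw [Subgroup.orderOf_mk] at hi
    refine orderOf_eq_one_iff.1 (Nat.eq_one_of_dvd_coprimes (hOc.pow_right i) h1 ?_)
    rw [hi]
  have hind : ¬ p ∣ U.relIndex (U ⊔ O') := by
    have h1 := PLocal.card_sup_mul_card_inf U O' hUO'
    have hbot : U ⊓ O' = ⊥ := eq_bot_iff.2 fun u hu => hdisjO u hu.1 hu.2.1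
    rw [hbot, card_bot, mul_one] at h1
    have h2 : Nat.card U * U.relIndex (U ⊔ O') = Nat.card ↥(U ⊔ O') := by
      rw [← relIndex_bot_left, relIndex_mul_relIndex _ _ _ bot_le (le_sup_left : U ≤ U ⊔ O'),
        relIndex_bot_left]
    rw [← h1] at h2
    rw [Nat.eq_of_mul_eq_mul_left Nat.card_pos h2]
    exact fun hdv => (Fact.out : p.Prime).ne_one (Nat.eq_one_of_dvd_coprimes hcopO hdv dvd_rfl)
  obtain ⟨n, hn, hnk⟩ := Transfer.exists_conj_le hUp hind hkU (hUp.map _)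
  rw [← SetLike.mem_coe, coe_mul_of_left_le_normalizer_right U O' hUO'] at hn
  obtain ⟨u₀, hu₀, o, ho, rfl⟩ := hn
  set o₁ := u₀ * o * u₀⁻¹ with ho₁
  have ho₁O : o₁ ∈ O' := (mem_normalizer_iff.1 (hUO' hu₀) o).1 ho
  refine ⟨h₁ * o₁, mul_mem hh₁M ho₁O.2, fun u hu => ?_⟩
  have hw : o₁⁻¹ * (k * u * k⁻¹) * o₁ ∈ U := by
    have h1 := hnk _ ⟨u, hu, rfl⟩
    simp only [MulEquiv.coe_toMonoidHom, MulAut.conj_apply] at h1
    have h2 := mul_mem (mul_mem hu₀ h1) (inv_mem hu₀)
    rw [ho₁]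
    simpa [mul_assoc] using h2
  have hk' : o₁⁻¹ * k ∈ O := mul_mem (inv_mem ho₁O.1) hk
  have hw1 : o₁⁻¹ * (k * u * k⁻¹) * o₁ * u⁻¹ = 1 := by
    refine hdisjO _ (mul_mem hw (inv_mem hu)) ?_
    rw [show o₁⁻¹ * (k * u * k⁻¹) * o₁ * u⁻¹ =
      (o₁⁻¹ * k) * (u * (o₁⁻¹ * k)⁻¹ * u⁻¹) by group]
    exact mul_mem hk' ((mem_normalizer_iff.1 (hUO hu) _).1 (inv_mem hk'))
  rw [mul_inv_eq_one] at hw1
  calc h₁ * o₁ * u * (h₁ * o₁)⁻¹
      = h₁ * (o₁ * (o₁⁻¹ * (k * u * k⁻¹) * o₁) * o₁⁻¹) * h₁⁻¹ := by rw [hw1]; group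
    _ = x * u * x⁻¹ := by rw [hxk]; group

end CfsgLib.Techniques
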