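import Cfsg.Agent.Lib.Techniques2.OrbitNorm
import Cfsg.Agent.Lib.Techniques2.NormalControl
import Cfsg.Agent.Lib.Core.Cores
import Cfsg.Prelude.Def_Amalgam
import Cfsg.Prelude.Def_LocalEven
import Cfsg.Prelude.Def_PLocal

/-!
# Weak closure of central elements from quadratic or small degree elements
-/

set_option autoImplicit false
set_option linter.all false

namespace CfsgLib.Techniques

open Subgroup Cfsg
open scoped commutatorElement

variable {G : Type*} [Group G] {p : ℕ}

theorem pCoreOf_le_self (M : Subgroup G) : pCoreOf p M ≤ M := map_subtype_le _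

theorem isPGroup_pCoreOf (M : Subgroup G) : IsPGroup p (pCoreOf p M) :=
  (CfsgLib.Core.isPGroup_pCore p M).map _

theorem conj_mem_pCoreOf (M : Subgroup G) {m : G} (hm : m ∈ M) {u : G} (hu : u ∈ pCoreOf p M) :
    m * u * m⁻¹ ∈ pCoreOf p M := by
  obtain ⟨v, hv, rfl⟩ := hu
  exact ⟨⟨m, hm⟩ * v * ⟨m, hm⟩⁻¹, (inferInstance : (pCore p M).Normal).conj_mem v hv _, rfl⟩

theorem le_pCoreOf {M U : Subgroup G} (hUM : U ≤ M) (hU : IsPGroup p U)
    (hn : ∀ m ∈ M, ∀ u ∈ U, m * u * m⁻¹ ∈ U) : U ≤ pCoreOf p M := fun u hu => by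
  haveI : (U.subgroupOf M).Normal := ⟨fun v hv m => hn m m.2 v hv⟩
  exact ⟨⟨u, hUM hu⟩, CfsgLib.Core.le_pCore (N := U.subgroupOf M) hU.comap_subtype hu, rfl⟩

theorem pCoreOf_le_isSylowSub [Finite G] [Fact p.Prime] {P M : Subgroup G}
    (hP : IsSylowSub p P M) : pCoreOf p M ≤ P := by
  let T : Sylow p M := (hP.2.1.comap_subtype (K := M)).toSylow hP.2.2
  rintro _ ⟨v, hv, rfl⟩
  exact CfsgLib.Core.pCore_le_sylow T hv

theorem isSylowSub_of_le [Finite G] [Fact p.Prime] {P M M' : Subgroup G} (hP : IsSylowSub p P M)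
    (h1 : P ≤ M') (h2 : M' ≤ M) : IsSylowSub p P M' :=
  ⟨h1, hP.2.1, fun hd => hP.2.2 (hd.trans (relIndex_dvd_of_le_left_aux h1 h2))⟩
where
  relIndex_dvd_of_le_left_aux {P M M' : Subgroup G} (h1 : P ≤ M') (h2 : M' ≤ M) :
      P.relIndex M' ∣ P.relIndex M := by
    rw [← relIndex_mul_relIndex P M' M h1 h2]
    exact dvd_mul_right _ _

/-- Induction on the subgroup `M` for local statements. -/
theorem local_induction [Finite G] [Fact p.Prime] (W : Subgroup G → Subgroup G)
    (A Stab P : Subgroup G)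
    (key : ∀ M : Subgroup G, IsSylowSub p P M → A ≤ pCoreOf p M →
      M ⊓ normalizer (W P : Set G) ≤ Stab → ¬ M ≤ normalizer (W P : Set G) →
      (∀ M' : Subgroup G, M' < M → P ≤ M' → M' ≤ Stab) → M ≤ Stab) :
    ∀ M : Subgroup G, IsSylowSub p P M → A ≤ pCoreOf p M →
      M ⊓ normalizer (W P : Set G) ≤ Stab → M ≤ Stab := by
  intro M
  induction hk : Nat.card M using Nat.strong_induction_on generalizing M with
  | _ k ih =>
    intro hP hA hN
    by_cases hle : M ≤ normalizer (W P : Set G)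
    · exact (le_inf le_rfl hle).trans hN
    refine key M hP hA hN hle fun M' hlt hPM' => ?_
    refine ih _ (hk ▸ CfsgLib.Transfer.card_lt_of_lt hlt) M' rfl (isSylowSub_of_le hP hPM' hlt.le)
      (hA.trans (le_pCoreOf ((pCoreOf_le_isSylowSub hP).trans hPM') (isPGroup_pCoreOf M)
        fun m hm u hu => conj_mem_pCoreOf M (hlt.le hm) hu))
      ((inf_le_inf_right _ hlt.le).trans hN)

/-- A normal subgroup inside `Stab` whose Sylow subgroup is not in the core. -/
theorem le_of_normal_inside [Finite G] [Fact p.Prime] {Stab P M K : Subgroup G}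
    (hP : IsSylowSub p P M) (hKM : K ≤ M) (hKn : ∀ m ∈ M, ∀ k ∈ K, m * k * m⁻¹ ∈ K)
    (hK : K ≤ Stab) (hne : ¬ P ⊓ K ≤ pCoreOf p M)
    (IH : ∀ M' : Subgroup G, M' < M → P ≤ M' → M' ≤ Stab) : M ≤ Stab := by
  set R := P ⊓ K with hR
  have hRs : IsSylowSub p R K := hP.inf_normal_of_conj hKM hKn
  set M' := M ⊓ normalizer (R : Set G) with hM'
  have hPM' : P ≤ M' := le_inf hP.1 fun x hx =>
    mem_normalizer_of_map_conj_eq (eq_of_le_of_card_ge (by
      rintro _ ⟨r, hr, rfl⟩
      exact mem_inf.2 ⟨mul_mem (mul_mem hx hr.1) (inv_mem hx), hKn x (hP.1 hx) r hr.2⟩)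
      (card_map_conj R x).ge)
  have hlt : M' < M := lt_of_le_of_ne inf_le_left fun h => hne
    (le_pCoreOf (inf_le_right.trans hKM) hRs.2.1 fun m hm u hu =>
      (mem_normalizer_iff.1 (h.ge hm).2 u).1 hu)
  intro m hm
  obtain ⟨k, hk, hkm⟩ := Transfer.exists_conj_le hRs.2.1 hRs.2.2
    (S := R.map (MulAut.conj m).toMonoidHom) (by
      rintro _ ⟨r, hr, rfl⟩
      exact hKn m hm r hr.2) (hRs.2.1.map _)
  have h1 : k⁻¹ * m ∈ M' := mem_inf.2 ⟨mul_mem (inv_mem (hKM hk)) hm,
    mem_normalizer_of_map_conj_eq (eq_of_le_of_card_ge (by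
      rintro _ ⟨r, hr, rfl⟩
      simpa [mul_assoc] using hkm _ ⟨r, hr, rfl⟩) (card_map_conj R _).ge)⟩
  simpa using mul_mem (hK hk) (IH M' hlt hPM' h1)

/-- From the local statement to the whole group. -/
theorem global_stab [Finite G] [Fact p.Prime] (S : Sylow p G) {W : Subgroup G → Subgroup G}
    (hW : IsConjugacyFunctor p W)
    (hWZ : ∀ P : Subgroup G, IsPGroup p ↥P → P ⊓ centralizer (P : Set G) ≤ W P)
    (A Stab : Subgroup G)
    (hAZ : A ≤ (S : Subgroup G) ⊓ centralizer ((S : Subgroup G) : Set G))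
    (hC : centralizer (A : Set G) ≤ Stab) (hSA : Stab ≤ normalizer (A : Set G))
    (hN : normalizer (W (S : Subgroup G) : Set G) ≤ Stab)
    (hloc : ∀ M P : Subgroup G, IsSylowSub p P M → P ≤ (S : Subgroup G) →
      (S : Subgroup G) ⊓ centralizer ((S : Subgroup G) : Set G) ≤ P → A ≤ pCoreOf p M →
      M ⊓ normalizer (W P : Set G) ≤ Stab → M ≤ Stab) :
    ∀ g : G, A.map (MulAut.conj g).toMonoidHom ≤ (S : Subgroup G) → g ∈ Stab := by
  intro g hg
  refine downward_induction S (fun D g => (A : Set G) ⊆ D → g ∈ Stab)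
    (fun U => A ≤ U → normalizer (U : Set G) ≤ Stab) ?_ ?_ ?_ ?_ ?_ A g (hAZ.trans inf_le_left) hg
    le_rfl
  · exact fun B g h C hC hAC => h (hAC.trans hC)
  · intro B g k hg hk hAB
    refine mul_mem (hk fun a ha => ?_) (hg hAB)
    have h1 := hSA (hg hAB)
    refine ⟨g⁻¹ * a * g, hAB ?_, by group⟩
    exact (mem_normalizer_iff''.1 h1 a).1 ha
  · intro g hA
    refine hC (mem_centralizer_iff.2 fun a ha => ?_)
    rw [show a = 1 from (mem_bot (x := a)).1 (hA ha), one_mul, mul_one]
  · intro U hU _ hfull hK' hD hAU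
    set P₀ := (S : Subgroup G) ⊓ normalizer (U : Set G) with hP₀
    have hZP : (S : Subgroup G) ⊓ centralizer ((S : Subgroup G) : Set G) ≤ P₀ := fun z hz =>
      mem_inf.2 ⟨hz.1, centralizer_le_normalizer _
        (centralizer_le (SetLike.coe_subset_coe.2 hU) hz.2)⟩
    refine hloc _ P₀ ⟨inf_le_right, S.2.to_le inf_le_left, hfull⟩ inf_le_left hZP
      (hAU.trans (le_pCoreOf le_normalizer (S.2.to_le hU)
        fun m hm u hu => (mem_normalizer_iff.1 hm u).1 hu)) ?_
    refine inf_le_right.trans ?_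
    rcases eq_or_lt_of_le (inf_le_left : P₀ ≤ (S : Subgroup G)) with he | hlt
    · rw [hP₀, he]
      exact hN
    have hgrow := CfsgLib.Transfer.card_lt_of_lt (lt_inf_normalizer_functor hW S.2 hlt)
    set W₀ := W P₀ with hW₀
    have hAW : A ≤ W₀ := le_trans (fun a ha => mem_inf.2 ⟨hZP (hAZ ha),
      centralizer_le (SetLike.coe_subset_coe.2 (inf_le_left : P₀ ≤ _)) (hAZ ha).2⟩)
      (hWZ _ (S.2.to_le inf_le_left))
    have hWS : W₀ ≤ (S : Subgroup G) :=
      (functor_le hW (S.2.to_le inf_le_left)).trans inf_le_left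
    obtain ⟨a, haS, hafull, hsub⟩ := exists_fullyNormalized_conj S hWS
    have ha : a ∈ Stab := hD _ a inf_le_left (hsub.trans inf_le_left) hgrow
      (SetLike.coe_subset_coe.2 (le_inf (hAZ.trans inf_le_left) (hAW.trans le_normalizer)))
    have hAW' : A ≤ W₀.map (MulAut.conj a).toMonoidHom := by
      rw [← map_conj_of_mem_normalizer (hSA ha)]
      exact Subgroup.map_mono hAW
    by_cases hbot : W₀.map (MulAut.conj a).toMonoidHom = ⊥
    · have hA0 : A = ⊥ := le_bot_iff.1 (hAW'.trans hbot.le)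
      exact fun x _ => hC (mem_centralizer_iff.2 fun z hz => by
        rw [hA0] at hz
        rw [(mem_bot (x := z)).1 hz, one_mul, mul_one])
    have hK := hK' _ haS hbot hafull
      (hgrow.trans_le (by
        have := Subgroup.card_le_of_le hsub
        rwa [card_map_conj] at this)) hAW'
    intro x hx
    have h1 : a * x * a⁻¹ ∈ Stab := hK (by
      rw [normalizer_map_conj', mem_map_conj_iff]
      simpa [mul_assoc] using hx)
    simpa [mul_assoc] using mul_mem (mul_mem (inv_mem ha) h1) ha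
  · exact fun U _ _ _ hK x hx hAU => hK hAU hx

/-- The element fixed by the stabilizing subgroups is fixed by `M`. -/
theorem fixed_of_norm_vanishes [Finite G] [Fact p.Prime] {P M : Subgroup G} (hP : IsSylowSub p P M)
    (g₀ : G) (hg₀ : g₀ ∈ P)
    (hgood : ∀ U V : Subgroup ↥M, IsChiefFactor U V →
      U.map M.subtype ≤ pCoreOf p M ⊓ centralizer (pCoreOf p M : Set G) →
      iterCommutator (U.map M.subtype) (zpowers g₀) (p - 1) ≤ V.map M.subtype) :
    ∀ (n : ℕ) (X : Subgroup G), Nat.card X ≤ n →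
      X ≤ pCoreOf p M ⊓ centralizer (pCoreOf p M : Set G) →
      (∀ m ∈ M, ∀ x ∈ X, m * x * m⁻¹ ∈ X) → ∀ x ∈ X, (∀ q ∈ P, q * x = x * q) →
      (∀ y ∈ M, (∀ g : G, g ∈ P → (∃ m ∈ M, g = m * g₀ * m⁻¹) → y * g * y⁻¹ ∈ P) →
        y * x = x * y) → ∀ m ∈ M, m * x = x * m := by
  classical
  intro n
  induction n with
  | zero => exact fun X hX => absurd hX (Nat.card_pos (α := X)).not_ge
  | succ n ih =>
    intro X hcard hXV hXn x hx hxP hxΛ
    rcases eq_or_ne x 1 with rfl | hx1
    · intro m _; rw [one_mul, mul_one]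
    have hXM : X ≤ M := hXV.trans (inf_le_left.trans (pCoreOf_le_self M))
    -- a maximal normal subgroup of `M` inside `X`
    obtain ⟨Y, ⟨hYlt, hYn⟩, hYmax⟩ := (Set.toFinite
      {Y : Subgroup G | Y < X ∧ ∀ m ∈ M, ∀ y ∈ Y, m * y * m⁻¹ ∈ Y}).exists_maximal
      ⟨⊥, bot_lt_iff_ne_bot.2 fun h => hx1 (by rwa [h, mem_bot] at hx), fun m _ y hy => by
        rw [mem_bot] at hy ⊢
        rw [hy, mul_one, mul_inv_cancel]⟩
    have hXc : IsMulCommutative X := le_centralizer_iff_isMulCommutative.1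
      (hXV.trans (inf_le_right.trans (centralizer_le
        (SetLike.coe_subset_coe.2 (hXV.trans inf_le_left)))))
    haveI := hXc
    letI : CommGroup X := { (inferInstance : Group X) with mul_comm := fun a b => mul_comm' a b }
    have hmax' : ∀ N : Subgroup G, Y ≤ N → N ≤ X → (∀ m ∈ M, ∀ y ∈ N, m * y * m⁻¹ ∈ N) →
        N = Y ∨ N = X := fun N h1 h2 h3 => by
      rcases eq_or_lt_of_le h2 with h | h
      · exact Or.inr h
      · exact Or.inl (le_antisymm (hYmax ⟨h, h3⟩ h1) h1)
    -- chief factor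
    have hchief : IsChiefFactor (X.subgroupOf M) (Y.subgroupOf M) := by
      refine ⟨lt_of_le_not_ge (comap_mono hYlt.le) fun h => ?_, ⟨fun v hv m => hXn m m.2 v hv⟩,
        ⟨fun v hv m => hYn m m.2 v hv⟩, fun N hN h1 h2 => ?_⟩
      · exact hYlt.not_ge fun v hv => @h ⟨v, hXM hv⟩ hv
      · have e : N = (N.map M.subtype).subgroupOf M :=
          (comap_map_eq_self_of_injective M.subtype_injective N).symm
        rcases hmax' (N.map M.subtype) (fun v hv => ⟨⟨v, hXM (hYlt.le hv)⟩, h1 hv, rfl⟩)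
            (by rintro _ ⟨v, hv, rfl⟩; exact h2 hv)
            (by
              rintro m hm _ ⟨v, hv, rfl⟩
              exact ⟨⟨m, hm⟩ * v * ⟨m, hm⟩⁻¹, hN.conj_mem v hv _, rfl⟩) with h | h
        · exact Or.inl (by rw [e, h])
        · exact Or.inr (by rw [e, h])
    have hXmap : (X.subgroupOf M).map M.subtype = X := map_subgroupOf_eq_of_le hXM
    have hYmap : (Y.subgroupOf M).map M.subtype = Y :=
      map_subgroupOf_eq_of_le (hYlt.le.trans hXM)
    have hiter := hgood _ _ hchief (by rw [hXmap]; exact hXV)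
    rw [hXmap, hYmap] at hiter
    let Y' : Subgroup X := Y.subgroupOf X
    -- `p`-th powers lie in `Y`
    have hpow : ∀ a : X, a ^ p ∈ Y' := by
      intro a
      let N : Subgroup G := Y ⊔ (powMonoidHom p : X →* X).range.map X.subtype
      have hNX : N ≤ X := sup_le hYlt.le (map_subtype_le _)
      have hNn : ∀ m ∈ M, ∀ y ∈ N, m * y * m⁻¹ ∈ N := by
        intro m hm
        have h1 : N ≤ N.comap (MulAut.conj m).toMonoidHom := by
          refine sup_le (fun y hy => mem_sup_left (hYn m hm y hy)) ?_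
          rintro _ ⟨_, ⟨b, rfl⟩, rfl⟩
          refine mem_sup_right ⟨⟨m * b * m⁻¹, hXn m hm b b.2⟩ ^ p, ⟨_, rfl⟩, ?_⟩
          show (m * b * m⁻¹) ^ p = m * (((b ^ p : X)) : G) * m⁻¹
          rw [conj_pow, SubmonoidClass.coe_pow]
        exact fun y hy => h1 hy
      rcases hmax' N le_sup_left hNX hNn with h | h
      · exact h.le (mem_sup_right ⟨_, ⟨a, rfl⟩, rfl⟩)
      · exfalso
        -- the map `X → X/Y`, `a ↦ a ^ p` would be onto
        have hXp : IsPGroup p (X ⧸ Y') :=
          ((isPGroup_pCoreOf M).to_le (hXV.trans inf_le_left)).to_quotient Y'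
        have hsurj : Function.Surjective (fun z : X ⧸ Y' => z ^ p) := by
          intro z
          obtain ⟨b, rfl⟩ := QuotientGroup.mk_surjective z
          have hb : (b : G) ∈ (Y : Subgroup G) ⊔ (powMonoidHom p : X →* X).range.map X.subtype :=
            h.ge b.2
          have e : (Y : Subgroup G) ⊔ (powMonoidHom p : X →* X).range.map X.subtype =
              (Y' ⊔ (powMonoidHom p : X →* X).range).map X.subtype := by
            rw [Subgroup.map_sup, map_subgroupOf_eq_of_le hYlt.le]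
          rw [e] at hb
          obtain ⟨b', hb', hbe⟩ := hb
          rw [show b' = b from Subtype.ext hbe] at hb'
          obtain ⟨y, hy, _, ⟨c, rfl⟩, rfl⟩ := mem_sup.1 hb'
          refine ⟨(c : X ⧸ Y'), ?_⟩
          show ((c : X ⧸ Y')) ^ p = _
          rw [← QuotientGroup.mk_pow, QuotientGroup.eq]
          simpa [powMonoidHom_apply, mul_comm y] using hy
        obtain ⟨z, hz⟩ : ∃ z : X ⧸ Y', orderOf z = p := by
          have : Nontrivial (X ⧸ Y') := QuotientGroup.nontrivial_iff.mpr fun h' => hYlt.not_ge fun v hv => by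
            have := h'.ge (mem_top (⟨v, hv⟩ : X))
            exact this
          obtain ⟨k, hk⟩ := IsPGroup.iff_card.1 hXp
          refine exists_prime_orderOf_dvd_card' p ?_
          rw [hk]
          refine dvd_pow_self p fun h0 => ?_
          rw [h0, pow_zero] at hk
          exact absurd hk (Finite.one_lt_card).ne'
        have hinj := Finite.injective_iff_surjective.2 hsurj
        have h1 : z = 1 := hinj (by simp [← hz, pow_orderOf_eq_one])
        rw [h1, orderOf_one] at hz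
        exact (Fact.out : p.Prime).ne_one hz.symm
    -- the action
    let ρ : M →* MulAut X :=
      { toFun := fun m =>
          { toFun := fun a => ⟨(m : G) * a * (m : G)⁻¹, hXn m m.2 a a.2⟩
            invFun := fun a => ⟨((m⁻¹ : M) : G) * a * ((m⁻¹ : M) : G)⁻¹, hXn _ (m⁻¹).2 a a.2⟩
            left_inv := fun a => Subtype.ext (by simp only [InvMemClass.coe_inv]; group)
            right_inv := fun a => Subtype.ext (by simp only [InvMemClass.coe_inv]; group)
            map_mul' := fun a b => Subtype.ext (by simp only [Subgroup.coe_mul]; group) }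
        map_one' := MulEquiv.ext fun a => Subtype.ext (by simp)
        map_mul' := fun m k => MulEquiv.ext fun a => Subtype.ext (by
          simp only [MulAut.mul_apply, MulEquiv.coe_mk, Equiv.coe_fn_mk, Subgroup.coe_mul]; group) }
    have hρ : ∀ (m : M) (a : X), ((ρ m a : X) : G) = (m : G) * a * (m : G)⁻¹ := fun m a => rfl
    let σ : P →* MulAut X := ρ.comp (inclusion hP.1)
    have hσ : ∀ (q : P) (a : X), ((σ q a : X) : G) = (q : G) * a * (q : G)⁻¹ := fun q a => rfl
    let Λ : Set P := {q | ∃ m ∈ M, (q : G) = m * g₀ * m⁻¹}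
    have hΛ : ∀ h, ∀ q ∈ Λ, h * q * h⁻¹ ∈ Λ := by
      rintro h q ⟨m, hm, hq⟩
      refine ⟨h * m, mul_mem (hP.1 h.2) hm, ?_⟩
      rw [Subgroup.coe_mul, Subgroup.coe_mul, InvMemClass.coe_inv, hq]
      group
    -- norm of `g₀`
    have hnorm : ∀ b : X, ∏ i ∈ Finset.range p, ρ (⟨g₀, hP.1 hg₀⟩ ^ i) b ∈ Y' := by
      intro b
      let s : X →* X := (ρ ⟨g₀, hP.1 hg₀⟩).toMonoidHom
      let c : ℕ → X := fun k => Nat.rec (motive := fun _ => ↥X) b (fun _ w => s w * w⁻¹) k
      have hit : ∀ k, ((c k : X) : G) ∈ iterCommutator X (zpowers g₀) k := by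
        intro k
        induction k with
        | zero => exact b.2
        | succ k ihk =>
          show ((s (c k) : X) : G) * ((c k : X) : G)⁻¹ ∈ ⁅iterCommutator X (zpowers g₀) k, zpowers g₀⁆
          rw [commutator_comm]
          exact commutator_mem_commutator (mem_zpowers g₀) ihk
      have h1 := norm_mem Y' s b c rfl (fun k => (inv_mul_cancel_right (s (c k)) (c k)).symm)
        (mem_subgroupOf.2 (hiter (hit (p - 1)))) hpow
      have e : ∀ i : ℕ, (s^[i]) b = ρ (⟨g₀, hP.1 hg₀⟩ ^ i) b := by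
        intro i
        induction i with
        | zero => simp
        | succ i ihi =>
          rw [Function.iterate_succ_apply', ihi, pow_succ', map_mul, MulAut.mul_apply]
          rfl
      rwa [Finset.prod_congr rfl fun i _ => e i] at h1
    have hgood' : ∀ q ∈ Λ, ∀ a : X, ∏ i ∈ Finset.range p, σ (q ^ i) a ∈ Y' := by
      rintro q ⟨m, hm, hq⟩ a
      have h1 := hnorm (ρ ⟨m, hm⟩⁻¹ a)
      have e : ∏ i ∈ Finset.range p, σ (q ^ i) a =
          ρ ⟨m, hm⟩ (∏ i ∈ Finset.range p, ρ (⟨g₀, hP.1 hg₀⟩ ^ i) (ρ ⟨m, hm⟩⁻¹ a)) := by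
        rw [map_prod]
        refine Finset.prod_congr rfl fun i _ => ?_
        rw [← MulAut.mul_apply, ← MulAut.mul_apply, ← map_mul, ← map_mul]
        show ρ (inclusion hP.1 (q ^ i)) a = _
        congr 2
        refine Subtype.ext ?_
        show ((q ^ i : P) : G) = m * ((⟨g₀, hP.1 hg₀⟩ ^ i : M) : G) * m⁻¹
        rw [SubmonoidClass.coe_pow, SubmonoidClass.coe_pow, hq, conj_pow]
      rw [e]
      exact hYn m hm _ h1
    -- the product over the orbit of `x`
    set x' : X := ⟨x, hx⟩ with hx'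
    set Ω := orb ρ x' with hΩ
    set t := ∏ w ∈ Ω, w with ht
    have htfix : ∀ m : M, ρ m t = t := fun m => by
      rw [ht, map_prod]
      refine Finset.prod_bij' (fun w _ => ρ m w) (fun w _ => ρ m⁻¹ w) ?_ ?_ ?_ ?_ ?_
      · intro w hw
        rw [hΩ, ← orb_eq_of_mem hw]
        exact mem_orb.2 ⟨m, rfl⟩
      · intro w hw
        rw [hΩ, ← orb_eq_of_mem hw]
        exact mem_orb.2 ⟨m⁻¹, rfl⟩
      · intro w _; rw [← MulAut.mul_apply, ← map_mul, inv_mul_cancel, map_one, MulAut.one_apply]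
      · intro w _; rw [← MulAut.mul_apply, ← map_mul, mul_inv_cancel, map_one, MulAut.one_apply]
      · intro w _; rfl
    have hrest : ∏ w ∈ Ω.erase x', w ∈ Y' := by
      refine prod_mem_of_orbits σ Y' _ (fun w hw q => ?_) fun w hw => ?_
      · rw [Finset.mem_erase] at hw ⊢
        refine ⟨fun he => hw.1 ?_, (orb_eq_of_mem hw.2).le (mem_orb.2 ⟨_, rfl⟩)⟩
        have h1 : σ q⁻¹ x' = x' := Subtype.ext (by
          rw [hσ]; show ((q⁻¹ : P) : G) * x * ((q⁻¹ : P) : G)⁻¹ = x
          rw [hxP _ (q⁻¹).2, mul_inv_cancel_right])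
        rwa [← he, ← MulAut.mul_apply, ← map_mul, inv_mul_cancel, map_one, MulAut.one_apply,
          he] at h1
      · refine orbit_prod_mem Y' (Nat.card P) P le_rfl hP.2.1 σ Λ hΛ hgood' w ?_
        by_contra hfix
        push Not at hfix
        obtain ⟨hwx, hwΩ⟩ := Finset.mem_erase.1 hw
        obtain ⟨y, rfl⟩ := mem_orb.1 hwΩ
        refine hwx (Subtype.ext ?_)
        show (y : G) * x * (y : G)⁻¹ = x
        -- `y⁻¹ Λ y` centralizes `x`
        set N := M ⊓ centralizer ({x} : Set G) with hNdef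
        have hPN : IsSylowSub p P N := isSylowSub_of_le hP
          (le_inf hP.1 fun q hq => mem_centralizer_singleton_iff.2 (hxP q hq)) inf_le_left
        set S' := closure {g : G | ∃ q ∈ Λ, g = (y : G)⁻¹ * q * y} with hS'
        have hS'N : S' ≤ N := (closure_le _).2 (by
          rintro _ ⟨q, hq, rfl⟩
          refine mem_inf.2 ⟨mul_mem (mul_mem (inv_mem y.2) (hP.1 q.2)) y.2, ?_⟩
          rw [mem_centralizer_singleton_iff]
          have h1 : (q : G) * ((y : G) * x * (y : G)⁻¹) * (q : G)⁻¹ = (y : G) * x * (y : G)⁻¹ :=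
            congrArg Subtype.val (hfix q hq)
          calc (y : G)⁻¹ * q * y * x
              = (y : G)⁻¹ * ((q : G) * ((y : G) * x * (y : G)⁻¹) * (q : G)⁻¹) * q * y := by group
            _ = x * ((y : G)⁻¹ * q * y) := by rw [h1]; group)
        have hS'p : IsPGroup p S' := (hP.2.1.map (MulAut.conj (y : G)⁻¹).toMonoidHom).to_le
          ((closure_le _).2 (by
            rintro _ ⟨q, -, rfl⟩
            exact ⟨q, q.2, by simp⟩))
        obtain ⟨c, hc, hcy⟩ := Transfer.exists_conj_le hPN.2.1 hPN.2.2 hS'N hS'p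
        have h2 := hxΛ (c⁻¹ * (y : G)⁻¹) (mul_mem (inv_mem hc.1) (inv_mem y.2))
          (fun g hgP hg => by
            simpa [mul_assoc] using hcy _ (subset_closure ⟨⟨g, hgP⟩, hg, rfl⟩))
        have h3 := mem_centralizer_singleton_iff.1 hc.2
        have hy : (y : G)⁻¹ * x = x * (y : G)⁻¹ := by
          calc (y : G)⁻¹ * x = c * (c⁻¹ * (y : G)⁻¹ * x) := by group
            _ = c * (x * (c⁻¹ * (y : G)⁻¹)) := by rw [h2]
            _ = c * x * (c⁻¹ * (y : G)⁻¹) := by group
            _ = x * c * (c⁻¹ * (y : G)⁻¹) := by rw [h3]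
            _ = x * (y : G)⁻¹ := by group
        calc (y : G) * x * (y : G)⁻¹ = (y : G) * (x * (y : G)⁻¹) := by group
          _ = x := by rw [← hy, mul_inv_cancel_left]
    -- descend to `Y`
    have hsplit : t = x' * ∏ w ∈ Ω.erase x', w :=
      (Finset.mul_prod_erase Ω _ (self_mem_orb ρ x')).symm
    set v := ∏ w ∈ Ω.erase x', w with hv
    have hcomm : ∀ y ∈ M, y * x = x * y → y * (v : G) = (v : G) * y := fun y hy hyx => by
      have h1 : ρ ⟨y, hy⟩ x' = x' := Subtype.ext (by
        rw [hρ]; show y * x * y⁻¹ = x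
        rw [hyx, mul_inv_cancel_right])
      have h2 := htfix ⟨y, hy⟩
      rw [hsplit, map_mul, h1, mul_right_inj] at h2
      exact mul_inv_eq_iff_eq_mul.1 (congrArg Subtype.val h2)
    have hvfix := ih Y (by
        have := CfsgLib.Transfer.card_lt_of_lt hYlt
        omega) (hYlt.le.trans hXV) hYn (v : G) hrest
      (fun q hq => hcomm q (hP.1 hq) (hxP q hq)) (fun y hy hyΛ => hcomm y hy (hxΛ y hy hyΛ))
    intro m hm
    have h2 := htfix ⟨m, hm⟩
    have h3 : ρ ⟨m, hm⟩ v = v := Subtype.ext (by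
      rw [hρ]; show m * (v : G) * m⁻¹ = v
      rw [hvfix m hm, mul_inv_cancel_right])
    rw [hsplit, map_mul, h3, mul_left_inj] at h2
    exact mul_inv_eq_iff_eq_mul.1 (congrArg Subtype.val h2)

end CfsgLib.Techniques
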