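import Cfsg.Agent.Lib.Techniques2.QuadraticBound
import Cfsg.Agent.Lib.PLocal.PConstrained

/-!
# Sylow `2`-subgroups of class two in `2`-constrained groups without `S₄`
-/

set_option autoImplicit false
set_option linter.all false

namespace CfsgLib.Techniques

open Subgroup
open scoped commutatorElement

universe u

variable {G : Type u} [Group G] [Finite G]

set_option maxHeartbeats 1000000 in
/-- in a `2`-constrained group without `S₄` and with Sylow `2`-subgroup of class two, the largest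
elementary abelian subgroups lie in `O₂` -/
theorem maxElementary_le_pCore
    (hfree : ¬ Cfsg.Involves (Equiv.Perm (Fin 4)) G)
    (hCQ : centralizer (Cfsg.pCore 2 G : Set G) ≤ Cfsg.pCore 2 G)
    (S : Sylow 2 G) (hcl : ⁅⁅(S : Subgroup G), (S : Subgroup G)⁆, (S : Subgroup G)⁆ = ⊥)
    (A : Subgroup G) (hAS : A ≤ (S : Subgroup G)) (hA : Cfsg.IsElementaryAbelian 2 A)
    (hmax : ∀ B : Subgroup G, B ≤ (S : Subgroup G) → Cfsg.IsElementaryAbelian 2 B →
      Nat.card B ≤ Nat.card A) :
    A ≤ Cfsg.pCore 2 G := by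
  haveI : Fact (Nat.Prime 2) := ⟨Nat.prime_two⟩
  set Q := Cfsg.pCore 2 G with hQd
  haveI : Q.Normal := CfsgLib.Core.normal_pCore 2 G
  have hQS : Q ≤ (S : Subgroup G) := CfsgLib.Core.pCore_le_sylow S
  set Z₀ : Set G := {z | z ∈ (S : Subgroup G) ⊓ centralizer ((S : Subgroup G) : Set G) ∧ z ^ 2 = 1}
    with hZ₀
  set V := Subgroup.normalClosure Z₀ with hVd
  haveI : V.Normal := Subgroup.normalClosure_normal
  haveI : (Q ⊓ centralizer (Q : Set G)).Normal := by
    refine Subgroup.normalizer_eq_top_iff.1 (eq_top_iff.2 fun g _ => ?_)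
    refine mem_normalizer_of_map_conj_eq ?_
    rw [map_conj_inf, map_conj_of_mem_normalizer (by rw [normalizer_eq_top]; trivial),
      map_conj_of_mem_normalizer (normalizer_le_normalizer_centralizer
        (by rw [normalizer_eq_top]; trivial))]
  have hVQ : V ≤ Q ⊓ centralizer (Q : Set G) := Subgroup.normalClosure_le_normal fun z hz =>
    ⟨hCQ (centralizer_le (SetLike.coe_subset_coe.2 hQS) hz.1.2),
      centralizer_le (SetLike.coe_subset_coe.2 hQS) hz.1.2⟩
  have hVc : ∀ v ∈ V, ∀ w ∈ V, v * w = w * v := fun v hv w hw =>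
    mem_centralizer_iff.1 (hVQ hw).2 v (hVQ hv).1
  have hV : Cfsg.IsElementaryAbelian 2 V := by
    refine ⟨⟨⟨fun v w => Subtype.ext (hVc _ v.2 _ w.2)⟩⟩, fun v hv => ?_⟩
    have key : ∀ y, y ∈ V → y ∈ V ∧ y ^ 2 = 1 := by
      intro y hy
      rw [hVd, Subgroup.normalClosure] at hy
      induction hy using Subgroup.closure_induction with
      | mem x hx =>
        refine ⟨Subgroup.conjugatesOfSet_subset_normalClosure hx, ?_⟩
        obtain ⟨z, hz, hc⟩ := Group.mem_conjugatesOfSet_iff.1 hx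
        obtain ⟨g, rfl⟩ := isConj_iff.1 hc
        rw [conj_pow, hz.2, mul_one, mul_inv_cancel]
      | one => exact ⟨one_mem _, one_pow _⟩
      | mul x z _ _ hx hz =>
        exact ⟨mul_mem hx.1 hz.1, by
          rw [(show Commute x z from hVc x hx.1 z hz.1).mul_pow, hx.2, hz.2, one_mul]⟩
      | inv x _ hx => exact ⟨inv_mem hx.1, by rw [inv_pow, hx.2, inv_one]⟩
    exact (key v hv).2
  set C := centralizer (V : Set G) with hC
  haveI : C.Normal := Subgroup.normalizer_eq_top_iff.1 (eq_top_iff.2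
    ((Subgroup.normalizer_eq_top V).ge.trans normalizer_le_normalizer_centralizer))
  set π := QuotientGroup.mk' C with hπ
  -- `O₂(G / C(V)) = 1`
  have hcore : Cfsg.pCore 2 (G ⧸ C) = ⊥ := by
    set R := (Cfsg.pCore 2 (G ⧸ C)).comap π with hR
    haveI : R.Normal := (CfsgLib.Core.normal_pCore 2 (G ⧸ C)).comap π
    have hCR : C ≤ R := (QuotientGroup.ker_mk' C).ge.trans (ker_le_comap _ _)
    set T := (S : Subgroup G) ⊓ R with hT
    have hTs : IsSylowSub 2 T R := (isSylowSub_sylow S).inf_normal le_top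
      (by rw [normalizer_eq_top])
    have hTC : T ⊔ C = R := by
      refine CfsgLib.PLocal.sup_eq_of_coprime_relIndex inf_le_right hCR hTs.2.2 ?_
      obtain ⟨j, hj⟩ := IsPGroup.iff_card.1 (CfsgLib.Core.isPGroup_pCore 2 (G ⧸ C))
      refine ⟨j, ?_⟩
      rw [← hj, ← map_comap_eq_self_of_surjective (QuotientGroup.mk'_surjective C)
        (Cfsg.pCore 2 (G ⧸ C)), ← relIndex_ker, QuotientGroup.ker_mk']
    have hVT : V ≤ centralizer (T : Set G) := by
      rw [hVd, Subgroup.normalClosure, closure_le]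
      intro y hy
      obtain ⟨z, hz, hc⟩ := Group.mem_conjugatesOfSet_iff.1 hy
      obtain ⟨g, rfl⟩ := isConj_iff.1 hc
      refine mem_centralizer_iff.2 fun t ht => ?_
      obtain ⟨r, hr, n, -, hn, rfl⟩ := exists_mul_normalizer hTs (mem_top g)
        (by rw [normalizer_eq_top]) le_top
      rw [← hTC] at hr
      obtain ⟨t₁, ht₁, c₁, hc₁, rfl⟩ := mem_sup_of_normal_right.1 hr
      have hw : ∀ s ∈ T, s * (n * z * n⁻¹) = n * z * n⁻¹ * s := by
        intro s hs
        have hs' : n⁻¹ * s * n ∈ T := by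
          simpa using (mem_normalizer_iff.1 (inv_mem hn) s).1 hs
        have h1 : (n⁻¹ * s * n) * z = z * (n⁻¹ * s * n) :=
          mem_centralizer_iff.1 hz.1.2 _ hs'.1
        calc s * (n * z * n⁻¹) = n * (n⁻¹ * s * n * z) * n⁻¹ := by group
          _ = n * (z * (n⁻¹ * s * n)) * n⁻¹ := by rw [h1]
          _ = n * z * n⁻¹ * s := by group
      have hwV : n * z * n⁻¹ ∈ V :=
        (inferInstance : V.Normal).conj_mem z (Subgroup.subset_normalClosure hz) n
      have e1 : t₁ * c₁ * n * z * (t₁ * c₁ * n)⁻¹ = n * z * n⁻¹ := by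
        calc t₁ * c₁ * n * z * (t₁ * c₁ * n)⁻¹
            = t₁ * (c₁ * (n * z * n⁻¹) * c₁⁻¹) * t₁⁻¹ := by group
          _ = t₁ * (n * z * n⁻¹) * t₁⁻¹ := by
              rw [← mem_centralizer_iff.1 hc₁ _ hwV, mul_inv_cancel_right]
          _ = n * z * n⁻¹ := by rw [hw _ ht₁, mul_inv_cancel_right]
      rw [e1]
      exact hw t ht
    have hle : R ≤ C := hTC.ge.trans (sup_le (le_centralizer_iff.1 hVT) le_rfl)
    rw [← map_comap_eq_self_of_surjective (QuotientGroup.mk'_surjective C)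
      (Cfsg.pCore 2 (G ⧸ C)), Subgroup.map_eq_bot_iff, QuotientGroup.ker_mk']
    exact hle
  -- the largest subgroups centralize `V`
  have hAC : A ≤ C := by
    set Ab := A.map π with hAb
    have hAbe : Cfsg.IsElementaryAbelian 2 Ab := by
      refine ⟨⟨⟨?_⟩⟩, ?_⟩
      · rintro ⟨_, u, hu, rfl⟩ ⟨_, v, hv, rfl⟩
        refine Subtype.ext ?_
        show π u * π v = π v * π u
        rw [← map_mul, ← map_mul]
        exact congrArg π (congrArg Subtype.val (hA.1.is_comm.comm ⟨u, hu⟩ ⟨v, hv⟩))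
      · rintro _ ⟨u, hu, rfl⟩
        rw [← map_pow, hA.2 u hu, map_one]
    by_contra hnot
    have hAbne : Ab ≠ ⊥ := fun h => hnot (by
      rw [hAb, Subgroup.map_eq_bot_iff, QuotientGroup.ker_mk'] at h
      exact h)
    letI : CommGroup V :=
      { (inferInstance : Group V) with mul_comm := fun x y => Subtype.ext (hVc _ x.2 _ y.2) }
    let φ : G →* MulAut V := MulAut.conjNormal
    have hφ : C ≤ φ.ker := fun g hg => MulEquiv.ext fun w => Subtype.ext (by
      show g * (w : G) * g⁻¹ = w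
      rw [← mem_centralizer_iff.1 hg w w.2, mul_inv_cancel_right])
    let ρ : G ⧸ C →* MulAut V := QuotientGroup.lift C φ hφ
    have hρ : ∀ (g : G) (w : V), ((ρ (π g) w : V) : G) = g * w * g⁻¹ := fun g w => rfl
    have hπ1 : ∀ g, π g = 1 ↔ g ∈ C := fun g => QuotientGroup.eq_one_iff g
    have hVS : V ≤ (S : Subgroup G) := hVQ.trans (inf_le_left.trans hQS)
    have hVi : ∀ w ∈ V, w⁻¹ = w := fun w hw =>
      inv_eq_of_mul_eq_one_right (by rw [← pow_two]; exact hV.2 w hw)
    have hcS : ⁅(S : Subgroup G), (S : Subgroup G)⁆ ≤ centralizer ((S : Subgroup G) : Set G) :=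
      commutator_eq_bot_iff_le_centralizer.1 hcl
    have hh2 : ∀ w : V, w * w = 1 := fun w => Subtype.ext (by
      show (w : G) * w = 1
      rw [← pow_two]; exact hV.2 _ w.2)
    have hab : ∀ P : Subgroup (G ⧸ C), IsPGroup 2 P → ∀ x ∈ P, ∀ y ∈ P, x * y = y * x := by
      intro P hP x hx y hy
      obtain ⟨R, hR⟩ := hP.exists_le_sylow
      obtain ⟨c, rfl⟩ :=
        MulAction.exists_smul_eq (G ⧸ C) (S.mapSurjective (QuotientGroup.mk'_surjective C)) R
      have key : ∀ x ∈ P, ∃ u ∈ (S : Subgroup G), c * π u * c⁻¹ = x := by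
        intro x hx
        have h1 := CfsgLib.Core.mem_conj_smul_iff.1 (hR hx)
        rw [Sylow.coe_mapSurjective] at h1
        obtain ⟨u, hu, hux⟩ := h1
        exact ⟨u, hu, by rw [show π u = c⁻¹ * x * c from hux]; group⟩
      obtain ⟨u, hu, rfl⟩ := key x hx
      obtain ⟨v, hv, rfl⟩ := key y hy
      have huv : π u * π v = π v * π u := by
        rw [← commutatorElement_eq_one_iff_mul_comm, ← map_commutatorElement, hπ1]
        exact centralizer_le (SetLike.coe_subset_coe.2 hVS)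
          (hcS (commutator_mem_commutator hu hv))
      rw [conj_mul, conj_mul, huv]
    have hquad : ∀ a ∈ Ab, ∀ b ∈ Ab, ∀ w ∈ (⊤ : Subgroup V),
        ρ b (ρ a w * w) = ρ a w * w := by
      rintro _ ⟨u, hu, rfl⟩ _ ⟨v, hv, rfl⟩ w -
      refine Subtype.ext ?_
      show v * (u * (w : G) * u⁻¹ * w) * v⁻¹ = u * (w : G) * u⁻¹ * w
      have h : u * (w : G) * u⁻¹ * w = ⁅u, (w : G)⁆ := by
        rw [commutatorElement_def, hVi _ w.2]
      rw [h, mem_centralizer_iff.1 (hcS (commutator_mem_commutator (hAS hu) (hVS w.2))) v (hAS hv),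
        mul_inv_cancel_right]
    have hfree' : ∀ a ∈ Ab, a ≠ 1 →
        ∃ i ∈ (⊤ : Subgroup (G ⧸ C)), i * i = 1 ∧ i * a ≠ a * i := by
      intro a ha ha1
      by_contra hcon
      push Not at hcon
      have hinv : ∀ x : G ⧸ C, x * a * x⁻¹ * (x * a * x⁻¹) = 1 := fun x => by
        rw [conj_mul, ← pow_two, hAbe.2 a ha, mul_one, mul_inv_cancel]
      have hcomm : ∀ x y : G ⧸ C, x * a * x⁻¹ * (y * a * y⁻¹) = y * a * y⁻¹ * (x * a * x⁻¹) := by
        intro x y
        have := hcon _ (mem_top _) (hinv (x⁻¹ * y))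
        calc x * a * x⁻¹ * (y * a * y⁻¹)
            = x * (a * (x⁻¹ * y * a * (x⁻¹ * y)⁻¹)) * x⁻¹ := by group
          _ = x * ((x⁻¹ * y * a * (x⁻¹ * y)⁻¹) * a) * x⁻¹ := by rw [this]
          _ = _ := by group
      set N := Subgroup.normalClosure ({a} : Set (G ⧸ C)) with hN
      have hgen : ∀ y ∈ Group.conjugatesOfSet ({a} : Set (G ⧸ C)), ∃ x, x * a * x⁻¹ = y := by
        intro y hy
        obtain ⟨z, hz, hc⟩ := Group.mem_conjugatesOfSet_iff.1 hy
        rw [Set.mem_singleton_iff] at hz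
        exact isConj_iff.1 (hz ▸ hc)
      have hcm : IsMulCommutative N := by
        refine Subgroup.isMulCommutative_closure fun p hp q hq => ?_
        obtain ⟨x, rfl⟩ := hgen p hp
        obtain ⟨y, rfl⟩ := hgen q hq
        exact hcomm x y
      have hNp : IsPGroup 2 N := fun y => by
        refine ⟨1, Subtype.ext ?_⟩
        have key : ∀ z, z ∈ N → z ∈ N ∧ z ^ 2 = 1 := by
          intro z hz
          rw [hN, Subgroup.normalClosure] at hz
          induction hz using Subgroup.closure_induction with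
          | mem z hz =>
            obtain ⟨x, rfl⟩ := hgen z hz
            exact ⟨Subgroup.conjugatesOfSet_subset_normalClosure hz, by rw [pow_two]; exact hinv x⟩
          | one => exact ⟨one_mem _, one_pow _⟩
          | mul x z _ _ hx hz =>
            exact ⟨mul_mem hx.1 hz.1, by
              rw [(show Commute x z from congrArg Subtype.val
                (hcm.is_comm.comm ⟨x, hx.1⟩ ⟨z, hz.1⟩)).mul_pow, hx.2, hz.2, one_mul]⟩
          | inv x _ hx => exact ⟨inv_mem hx.1, by rw [inv_pow, hx.2, inv_one]⟩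
        simpa using (key _ y.2).2
      have : a ∈ Cfsg.pCore 2 (G ⧸ C) :=
        CfsgLib.Core.le_pCore hNp (Subgroup.subset_normalClosure (Set.mem_singleton a))
      rw [hcore, mem_bot] at this
      exact ha1 this
    have hS3 : ∀ (a b : G ⧸ C) (y z : V), ρ a y = y → ρ b z = z → ρ a z = z * y →
        ρ b y = y * z → y = 1 := by
      intro a b y z h1 h2' h3 h4
      obtain ⟨g, rfl⟩ := QuotientGroup.mk'_surjective C a
      obtain ⟨h, rfl⟩ := QuotientGroup.mk'_surjective C b
      have e1 : g * y * g⁻¹ = (y : G) := congrArg Subtype.val h1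
      have e2 : h * z * h⁻¹ = (z : G) := congrArg Subtype.val h2'
      have e3 : g * z * g⁻¹ = (z : G) * y := congrArg Subtype.val h3
      have e4 : h * y * h⁻¹ = (y : G) * z := congrArg Subtype.val h4
      set E := Subgroup.closure ({(y : G), (z : G)} : Set G) with hE
      have hyE : (y : G) ∈ E := Subgroup.subset_closure (Or.inl rfl)
      have hzE : (z : G) ∈ E := Subgroup.subset_closure (Or.inr rfl)
      have hEV : E ≤ V := (closure_le _).2 (Set.insert_subset y.2 (Set.singleton_subset_iff.2 z.2))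
      have hEe : Cfsg.IsElementaryAbelian 2 E :=
        CfsgLib.Signalizer.elementary_of_le (p := 2) hV hEV
      have hnorm : ∀ k : G, k * y * k⁻¹ ∈ E → k * z * k⁻¹ ∈ E → k ∈ normalizer (E : Set G) := by
        intro k hy' hz'
        refine mem_normalizer_of_map_conj_eq (eq_of_le_of_card_ge ?_ (card_map_conj E k).ge)
        rw [hE, MonoidHom.map_closure, closure_le]
        rintro _ ⟨x, rfl | rfl, rfl⟩
        · exact hy'
        · exact hz'
      have hgN := hnorm g (e1.symm ▸ hyE) (e3.symm ▸ mul_mem hzE hyE)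
      have hhN := hnorm h (e4.symm ▸ mul_mem hyE hzE) (e2.symm ▸ hzE)
      have hcen : ∀ k : G, k * y * k⁻¹ = y → k * z * k⁻¹ = z → k ∈ centralizer (E : Set G) := by
        intro k hy' hz'
        rw [hE, centralizer_closure, mem_centralizer_iff]
        rintro x (rfl | rfl)
        · exact (mul_inv_eq_iff_eq_mul.1 hy').symm
        · exact (mul_inv_eq_iff_eq_mul.1 hz').symm
      have hyy : (y : G) * y = 1 := by rw [← pow_two]; exact hV.2 _ y.2
      have hzz : (z : G) * z = 1 := by rw [← pow_two]; exact hV.2 _ z.2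
      have hyz : (y : G) * z = z * y := hVc _ y.2 _ z.2
      have hgg : g * g ∈ centralizer (E : Set G) := by
        refine hcen _ ?_ ?_
        · rw [show g * g * y * (g * g)⁻¹ = g * (g * y * g⁻¹) * g⁻¹ by group, e1, e1]
        · rw [show g * g * z * (g * g)⁻¹ = g * (g * z * g⁻¹) * g⁻¹ by group, e3, ← conj_mul, e3, e1,
            mul_assoc, hyy, mul_one]
      have hhh : h * h ∈ centralizer (E : Set G) := by
        refine hcen _ ?_ ?_
        · rw [show h * h * y * (h * h)⁻¹ = h * (h * y * h⁻¹) * h⁻¹ by group, e4, ← conj_mul, e4, e2,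
            mul_assoc, hzz, mul_one]
        · rw [show h * h * z * (h * h)⁻¹ = h * (h * z * h⁻¹) * h⁻¹ by group, e2, e2]
      have k1 : g * h * y * (g * h)⁻¹ = z := by
        rw [show g * h * y * (g * h)⁻¹ = g * (h * y * h⁻¹) * g⁻¹ by group, e4, ← conj_mul, e1, e3,
          ← mul_assoc, hyz, mul_assoc, hyy, mul_one]
      have k2 : g * h * z * (g * h)⁻¹ = z * y := by
        rw [show g * h * z * (g * h)⁻¹ = g * (h * z * h⁻¹) * g⁻¹ by group, e2, e3]
      have k3 : g * h * (z * y) * (g * h)⁻¹ = y := by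
        rw [← conj_mul, k2, k1, ← hyz, mul_assoc, hzz, mul_one]
      have hk3 : (g * h) ^ 3 ∈ centralizer (E : Set G) := by
        refine hcen _ ?_ ?_
        · calc (g * h) ^ 3 * y * ((g * h) ^ 3)⁻¹
              = g * h * (g * h * (g * h * y * (g * h)⁻¹) * (g * h)⁻¹) * (g * h)⁻¹ := by
                simp only [pow_succ, pow_zero, one_mul]; group
            _ = y := by rw [k1, k2, k3]
        · calc (g * h) ^ 3 * z * ((g * h) ^ 3)⁻¹
              = g * h * (g * h * (g * h * z * (g * h)⁻¹) * (g * h)⁻¹) * (g * h)⁻¹ := by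
                simp only [pow_succ, pow_zero, one_mul]; group
            _ = z := by rw [k2, k3, k1]
      have hk := mem_centralizer_of_inverted_cube hfree hEe hgN
        ((normalizer (E : Set G)).mul_mem hgN hhN)
        (by rw [show g * (g * h) * g⁻¹ * (g * h) = g * g * (h * h) by group]
            exact mul_mem hgg hhh) hk3
      have hkyz : (z : G) = y := by
        rw [← k1, ← mem_centralizer_iff.1 hk _ hyE, mul_inv_cancel_right]
      rw [hkyz, hyy] at e4
      refine Subtype.ext ?_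
      rw [← hkyz] at hyy e4 ⊢
      rw [mul_inv_eq_iff_eq_mul, one_mul] at e4
      exact left_eq_mul.1 e4.symm |>.trans rfl
    have hlt := card_mul_fixPts_lt ρ hh2 hS3 hab _ ⊤ ⊤ Ab rfl (fun _ _ _ _ => mem_top _)
      (fun l _ hl => by
        obtain ⟨g, rfl⟩ := QuotientGroup.mk'_surjective C l
        refine ⟨0, ?_⟩
        rw [pow_zero, pow_one, hπ1]
        refine mem_centralizer_iff.2 fun w hw => ?_
        have h : g * w * g⁻¹ = w := congrArg Subtype.val (hl ⟨w, hw⟩ (mem_top _))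
        exact (mul_inv_eq_iff_eq_mul.1 h).symm)
      le_top hAbe hquad hfree' hAbne
    rw [top_inf_eq, Subgroup.card_top] at hlt
    set A₀ := A ⊓ C with hA₀
    have hA₀V : Cfsg.IsElementaryAbelian 2 (A₀ ⊔ V : Subgroup G) := by
      have hcl' : ∀ u ∈ A₀ ⊔ V, ∀ v ∈ A₀ ⊔ V, u * v = v * u := by
        have hgen : A₀ ⊔ V ≤ centralizer ((A₀ ⊔ V : Subgroup G) : Set G) := by
          refine sup_le (le_centralizer_iff.1 (sup_le ?_ ?_)) (le_centralizer_iff.1 (sup_le ?_ ?_))
          · intro u hu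
            exact mem_centralizer_iff.2 fun w hw =>
              congrArg Subtype.val (hA.1.is_comm.comm ⟨w, hw.1⟩ ⟨u, hu.1⟩)
          · exact le_centralizer_iff.1 inf_le_right
          · exact inf_le_right
          · exact fun u hu => mem_centralizer_iff.2 fun w hw => hVc w hw u hu
        exact fun u hu v hv => mem_centralizer_iff.1 (hgen hv) u hu
      refine ⟨⟨⟨fun u v => Subtype.ext (hcl' _ u.2 _ v.2)⟩⟩, fun w hw => ?_⟩
      obtain ⟨u, hu, v, hv, rfl⟩ := mem_sup_of_normal_right.1 hw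
      rw [(show Commute u v from hcl' u (mem_sup_left hu) v (mem_sup_right hv)).mul_pow,
        hA.2 u hu.1, hV.2 v hv, one_mul]
    have h1 := hmax _ (sup_le (inf_le_left.trans hAS) ((hVQ.trans inf_le_left).trans hQS)) hA₀V
    have h2 : Nat.card (A₀ ⊔ V : Subgroup G) * Nat.card ↥(V ⊓ A₀) = Nat.card A₀ * Nat.card V := by
      have e1 := card_mul_relIndex' (le_sup_right : V ≤ A₀ ⊔ V)
      have e2 := card_mul_relIndex' (inf_le_right : V ⊓ A₀ ≤ A₀)
      rw [relIndex_sup_right] at e1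
      rw [inf_relIndex_right] at e2
      rw [← e1, ← e2]; ring
    have h3 : Nat.card ↥(V ⊓ A₀) ≤ Nat.card ↥(fixPts ρ Ab) := by
      refine le_trans (Subgroup.card_le_of_le (K := (fixPts ρ Ab).map V.subtype) ?_)
        (Nat.card_congr ((fixPts ρ Ab).equivMapOfInjective _ V.subtype_injective).toEquiv).ge
      rintro x ⟨hxV, hxA⟩
      refine ⟨⟨x, hxV⟩, ?_, rfl⟩
      rintro _ ⟨u, hu, rfl⟩
      refine Subtype.ext ?_
      show u * x * u⁻¹ = x
      rw [mul_inv_eq_iff_eq_mul]
      exact congrArg Subtype.val (hA.1.is_comm.comm ⟨u, hu⟩ ⟨x, hxA.1⟩)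
    have h4 : Nat.card A = Nat.card A₀ * Nat.card Ab := by
      have e1 := card_mul_relIndex' (inf_le_left : A₀ ≤ A)
      rw [← e1, hA₀, inf_relIndex_left]
      congr 1
      exact (congrArg (fun H : Subgroup G => H.relIndex A) (QuotientGroup.ker_mk' C).symm).trans
        (relIndex_ker (K := A) π)
    have h5 : Nat.card A₀ * Nat.card V ≤ Nat.card A₀ * (Nat.card Ab * Nat.card ↥(fixPts ρ Ab)) := by
      rw [← h2, ← mul_assoc]
      exact Nat.mul_le_mul (h1.trans h4.le) h3
    exact absurd (Nat.le_of_mul_le_mul_left h5 Nat.card_pos) (not_le.2 hlt)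
  -- a largest subgroup centralizing `V` lies in the core
  intro a ha
  have haC : a ∈ C := hAC ha
  by_contra haQ
  have haa : (⟨a, haC⟩ : C) * ⟨a, haC⟩ = 1 :=
    Subtype.ext (by rw [Subgroup.coe_mul, ← pow_two]; exact hA.2 a ha)
  have haC' : (⟨a, haC⟩ : C) ∉ Cfsg.pCore 2 C := fun h =>
    haQ (CfsgLib.Core.map_subtype_pCore_le C ⟨_, h, rfl⟩)
  obtain ⟨⟨h, hhC⟩, hh1, hhodd, hinv⟩ := CfsgLib.LocalEvenB.exists_odd_inverted haa haC'
  rw [Subgroup.orderOf_mk] at hhodd
  have hinv' : a * h * a⁻¹ = h⁻¹ := congrArg Subtype.val hinv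
  have hai : a⁻¹ = a := inv_eq_of_mul_eq_one_right (by rw [← pow_two]; exact hA.2 a ha)
  have hmod : ∀ q ∈ Q, q⁻¹ * (a * q * a⁻¹) ∈ V := by
    intro q hq
    have hqS := hQS hq
    have haS := hAS ha
    set c := q⁻¹ * (a * q * a⁻¹) with hc
    have hcS : c ∈ (S : Subgroup G) := mul_mem (inv_mem hqS) (mul_mem (mul_mem haS hqS) (inv_mem haS))
    have hcc : c ∈ centralizer ((S : Subgroup G) : Set G) := by
      rw [commutator_eq_bot_iff_le_centralizer] at hcl
      refine hcl ?_
      rw [show c = ⁅q⁻¹, a⁆ by rw [hc, commutatorElement_def]; group]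
      exact commutator_mem_commutator (inv_mem hqS) haS
    refine Subgroup.subset_normalClosure ⟨⟨hcS, hcc⟩, ?_⟩
    have h1 : a * c * a⁻¹ = c := by
      rw [mem_centralizer_iff.1 hcc a haS, mul_inv_cancel_right]
    have h2 : a * c * a⁻¹ = c⁻¹ := by
      rw [hc, hai]
      calc a * (q⁻¹ * (a * q * a)) * a = a * q⁻¹ * a * q * (a * a) := by group
        _ = a⁻¹ * q⁻¹ * a⁻¹ * q := by
            rw [show a * a = 1 by rw [← pow_two]; exact hA.2 a ha, mul_one, hai]
        _ = _ := by group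
    rw [pow_two]
    conv_lhs => arg 1; rw [← h1, h2]
    rw [inv_mul_cancel]
  set w := h ^ 2 with hw
  have hhV : ∀ v ∈ V, ∀ g ∈ C, g * v * g⁻¹ = v := fun v hv g hg => by
    rw [← mem_centralizer_iff.1 hg v hv, mul_inv_cancel_right]
  have hwq : ∀ q ∈ Q, w * q = q * w := by
    intro q hq
    have hw' : w = h * a * h⁻¹ * a⁻¹ := by
      rw [hw, pow_two]
      calc h * h = h * (a * h * a⁻¹)⁻¹ := by rw [hinv', inv_inv]
        _ = h * a * h⁻¹ * a⁻¹ := by group
    have hz : q⁻¹ * (w * q * w⁻¹) ∈ V := by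
      rw [hw']
      -- `h a h⁻¹` and `a⁻¹` both act trivially modulo `V`
      set q₁ := a⁻¹ * q * a with hq₁
      have hq₁Q : q₁ ∈ Q := by
        simpa using (inferInstance : Q.Normal).conj_mem q hq a⁻¹
      set q₂ := h⁻¹ * q₁ * h with hq₂
      have hq₂Q : q₂ ∈ Q := by
        simpa using (inferInstance : Q.Normal).conj_mem q₁ hq₁Q h⁻¹
      have e1 : q⁻¹ * (h * a * h⁻¹ * a⁻¹ * q * (h * a * h⁻¹ * a⁻¹)⁻¹) =
          (q⁻¹ * (a⁻¹ * q * a)) * (h * (q₂⁻¹ * (a * q₂ * a⁻¹)) * h⁻¹) := by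
        rw [hq₂, hq₁]; group
      rw [e1]
      refine V.mul_mem ?_ ((inferInstance : V.Normal).conj_mem _ (hmod q₂ hq₂Q) h)
      have := hmod q hq
      rwa [hai] at this ⊢
    set z := q⁻¹ * (w * q * w⁻¹) with hzd
    have hwC : w ∈ C := pow_mem hhC 2
    have hj : ∀ j : ℕ, w ^ j * q * (w ^ j)⁻¹ = q * z ^ j := by
      intro j
      induction j with
      | zero => simp
      | succ j ih =>
        calc w ^ (j + 1) * q * (w ^ (j + 1))⁻¹ = w * (w ^ j * q * (w ^ j)⁻¹) * w⁻¹ := by
              rw [pow_succ']; group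
          _ = w * q * w⁻¹ * (w * z ^ j * w⁻¹) := by rw [ih]; group
          _ = q * z * z ^ j := by rw [hhV _ (V.pow_mem hz j) w hwC, hzd]; group
          _ = q * z ^ (j + 1) := by rw [pow_succ', mul_assoc]
    have h1 := hj (orderOf h)
    rw [hw, ← pow_mul, Nat.mul_comm, pow_mul, pow_orderOf_eq_one, one_pow, one_mul, inv_one, mul_one,
      left_eq_mul] at h1
    have h2 : z = 1 := by
      obtain ⟨r, hr⟩ := hhodd
      rwa [hr, pow_succ, pow_mul, hV.2 z hz, one_pow, one_mul] at h1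
    rw [hzd, inv_mul_eq_one, eq_mul_inv_iff_mul_eq] at h2
    exact h2.symm
  have hwQ : w ∈ Q := hCQ (mem_centralizer_iff.2 fun q hq => (hwq q hq).symm)
  obtain ⟨j, hj⟩ := IsPGroup.iff_orderOf.1 (CfsgLib.Core.isPGroup_pCore 2 G) ⟨w, hwQ⟩
  rw [Subgroup.orderOf_mk] at hj
  have h1 : orderOf w = 1 := by
    refine Nat.eq_one_of_dvd_coprimes (Nat.Coprime.pow_left j (Nat.coprime_two_left.2 hhodd))
      hj.dvd ?_
    exact orderOf_dvd_of_mem_zpowers (pow_mem (mem_zpowers h) 2)
  rw [orderOf_eq_one_iff] at h1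
  refine hh1 (Subtype.ext ?_)
  obtain ⟨r, hr⟩ := hhodd
  have := pow_orderOf_eq_one h
  rwa [hr, pow_succ, pow_mul, ← hw, h1, one_pow, one_mul] at this

/-- `G = N(J(S)) O(G)` for `2`-constrained groups without `S₄` and Sylow subgroup of class two -/
theorem thompson_normalizer_sup_eq_top (hcon : Subgroup.centralizer
      (Cfsg.pCore 2 (G ⧸ Cfsg.pPrimeCore 2 G) : Set (G ⧸ Cfsg.pPrimeCore 2 G))
        ≤ Cfsg.pCore 2 (G ⧸ Cfsg.pPrimeCore 2 G))
    (hS4 : ¬ Cfsg.Involves (Equiv.Perm (Fin 4)) G) (S : Sylow 2 G)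
    (hcl : Subgroup.lowerCentralSeries (S : Subgroup G) 2 = ⊥) :
    Subgroup.normalizer ((Cfsg.thompsonSubgroupOf 2 (S : Subgroup G)) : Set G) ⊔
      Cfsg.pPrimeCore 2 G = ⊤ := by
  haveI : Fact (Nat.Prime 2) := ⟨Nat.prime_two⟩
  set O := Cfsg.pPrimeCore 2 G with hO
  set π := QuotientGroup.mk' O with hπ
  set U := Cfsg.pPrimePCore 2 G with hU
  set R := (S : Subgroup G) ⊓ U with hR
  have hinj : Set.InjOn π ((S : Subgroup G) : Set G) := injOn_mk'
    (inf_eq_bot_of_coprime S.2 (CfsgLib.Core.coprime_card_pPrimeCore 2 G))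
  set S' := S.mapSurjective (QuotientGroup.mk'_surjective O) with hS'
  have hS'e : (S' : Subgroup (G ⧸ O)) = (S : Subgroup G).map π := Sylow.coe_mapSurjective _ _
  have hfree' : ¬ Cfsg.Involves (Equiv.Perm (Fin 4)) (G ⧸ O) := fun h => hS4
    (CfsgLib.LocalEven.involves_of_section (MonoidHom.id G) (fun _ _ h => h) π
      (QuotientGroup.mk'_surjective O) h)
  have hcl' : ⁅⁅(S' : Subgroup (G ⧸ O)), (S' : Subgroup (G ⧸ O))⁆, (S' : Subgroup (G ⧸ O))⁆ = ⊥ := by
    rw [hS'e, ← Subgroup.map_commutator, ← Subgroup.map_commutator]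
    have h2 : ⁅⁅(S : Subgroup G), (S : Subgroup G)⁆, (S : Subgroup G)⁆ = ⊥ := hcl
    rw [h2, Subgroup.map_bot]
  -- the largest elementary abelian subgroups lie in `O_{2',2}`
  have hmem : ∀ A ∈ Cfsg.maxElementaryAbelianSubgroups 2 ↥(S : Subgroup G),
      A.map (S : Subgroup G).subtype ≤ R := by
    intro A hA
    set A' := A.map (S : Subgroup G).subtype with hA'
    have hA'S : A' ≤ (S : Subgroup G) := Subgroup.map_subtype_le _
    have hA'c : Nat.card A' = Nat.card A :=
      Nat.card_congr (A.equivMapOfInjective _ (S : Subgroup G).subtype_injective).symm.toEquiv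
    have hA'e : Cfsg.IsElementaryAbelian 2 A' := by
      refine ⟨⟨⟨?_⟩⟩, ?_⟩
      · rintro ⟨_, u, hu, rfl⟩ ⟨_, v, hv, rfl⟩
        exact Subtype.ext (congrArg (fun w : A => ((w : (S : Subgroup G)) : G))
          (hA.1.1.is_comm.comm ⟨u, hu⟩ ⟨v, hv⟩))
      · rintro _ ⟨u, hu, rfl⟩
        exact congrArg Subtype.val (hA.1.2 u hu)
    have hle : A'.map π ≤ Cfsg.pCore 2 (G ⧸ O) := by
      refine maxElementary_le_pCore hfree' hcon S' hcl' _
        (hS'e.ge.trans' (Subgroup.map_mono hA'S)) ?_ fun B hB hBe => ?_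
      · refine ⟨⟨⟨?_⟩⟩, ?_⟩
        · rintro ⟨_, u, hu, rfl⟩ ⟨_, v, hv, rfl⟩
          refine Subtype.ext ?_
          show π u * π v = π v * π u
          rw [← map_mul, ← map_mul]
          exact congrArg π (congrArg Subtype.val (hA'e.1.is_comm.comm ⟨u, hu⟩ ⟨v, hv⟩))
        · rintro _ ⟨u, hu, rfl⟩
          rw [← map_pow, hA'e.2 u hu, map_one]
      rw [hS'e] at hB
      set B' := (B.comap π).subgroupOf (S : Subgroup G) with hB'
      have hB'e : Cfsg.IsElementaryAbelian 2 B' := by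
        refine ⟨⟨⟨fun u v => ?_⟩⟩, fun u hu => ?_⟩
        · refine Subtype.ext (Subtype.ext (hinj (mul_mem u.1.2 v.1.2) (mul_mem v.1.2 u.1.2) ?_))
          simp only [Subgroup.coe_mul, map_mul]
          exact congrArg Subtype.val (hBe.1.is_comm.comm ⟨_, u.2⟩ ⟨_, v.2⟩)
        · refine Subtype.ext (hinj (pow_mem u.2 2) (one_mem _) ?_)
          simp only [SubmonoidClass.coe_pow, OneMemClass.coe_one, map_pow, map_one]
          exact hBe.2 _ hu
      have h1 : Nat.card B ≤ Nat.card B' := by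
        refine Nat.card_le_card_of_surjective (fun u : B' => (⟨π (u : (S : Subgroup G)), u.2⟩ : B))
          fun b => ?_
        obtain ⟨s, hs, hsb⟩ := hB b.2
        exact ⟨⟨⟨s, hs⟩, show π s ∈ B from hsb ▸ b.2⟩, Subtype.ext hsb⟩
      have h2 : Nat.card ↥(A'.map π) = Nat.card A' :=
        (Nat.card_eq_of_bijective (π.subgroupMap A') ⟨fun u v h => Subtype.ext
          (hinj (hA'S u.2) (hA'S v.2) (congrArg Subtype.val h)), π.subgroupMap_surjective A'⟩).symm
      rw [h2, hA'c]
      exact h1.trans (hA.2 B' hB'e)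
    exact le_inf hA'S (Subgroup.map_le_iff_le_comap.1 hle)
  have hJ : Subgroup.normalizer (R : Set G) ≤
      Subgroup.normalizer ((Cfsg.thompsonSubgroupOf 2 (S : Subgroup G)) : Set G) := by
    intro n hn
    refine mem_normalizer_of_map_conj_eq (Subgroup.eq_of_le_of_card_ge ?_
      (card_map_conj _ n).ge)
    rw [Cfsg.thompsonSubgroupOf, Cfsg.thompsonSubgroup, Subgroup.map_map, sSup_eq_iSup,
      Subgroup.map_iSup]
    refine iSup_le fun A => ?_
    rw [Subgroup.map_iSup]
    refine iSup_le fun hA => ?_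
    set A'' := (A.map (((MulAut.conj n).toMonoidHom).comp (S : Subgroup G).subtype)) with hA''
    have hA''S : A'' ≤ (S : Subgroup G) := by
      rw [hA'', ← Subgroup.map_map]
      refine (Subgroup.map_mono (hmem A hA)).trans ?_
      rw [map_conj_of_mem_normalizer hn]
      exact inf_le_left
    have hmax : A''.subgroupOf (S : Subgroup G) ∈
        Cfsg.maxElementaryAbelianSubgroups 2 ↥(S : Subgroup G) := by
      have hc : Nat.card ↥(A''.subgroupOf (S : Subgroup G)) = Nat.card A := by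
        rw [Nat.card_congr (Subgroup.subgroupOfEquivOfLe hA''S).toEquiv, hA'',
          Subgroup.card_map_of_injective ((MulAut.conj n).injective.comp
            (S : Subgroup G).subtype_injective)]
      refine ⟨⟨⟨⟨?_⟩⟩, ?_⟩, fun B hB => hc ▸ hA.2 B hB⟩
      · rintro ⟨w, u, hu, huw⟩ ⟨w', v, hv, hvw⟩
        refine Subtype.ext (Subtype.ext ?_)
        show (w : G) * (w' : G) = (w' : G) * (w : G)
        rw [show (w : G) = _ from huw.symm, show (w' : G) = _ from hvw.symm, ← map_mul, ← map_mul]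
        exact congrArg _ (congrArg Subtype.val (hA.1.1.is_comm.comm ⟨u, hu⟩ ⟨v, hv⟩))
      · rintro w ⟨u, hu, huw⟩
        refine Subtype.ext ?_
        show (w : G) ^ 2 = (1 : G)
        rw [show (w : G) = _ from huw.symm, ← map_pow, hA.1.2 u hu, map_one]
    refine le_trans (Subgroup.map_subgroupOf_eq_of_le hA''S).ge ?_
    exact Subgroup.map_mono (le_iSup₂_of_le (f := fun A _ => A) _ hmax le_rfl)
  have hU' : R ⊔ O = U := CfsgLib.PLocal.sup_eq_of_coprime_relIndex inf_le_right
    CfsgLib.PLocal.pPrimeCore_le_pPrimePCore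
    ((isSylowSub_sylow S).inf_normal le_top
      (by rw [Subgroup.normalizer_eq_top] : (⊤ : Subgroup G) ≤ Subgroup.normalizer (U : Set G))).2.2
    CfsgLib.PLocal.relIndex_pPrimeCore_pPrimePCore
  refine eq_top_iff.2 fun g _ => ?_
  obtain ⟨u, hu, n, -, hn, rfl⟩ := exists_mul_normalizer
    ((isSylowSub_sylow S).inf_normal le_top
      (by rw [Subgroup.normalizer_eq_top] : (⊤ : Subgroup G) ≤ Subgroup.normalizer (U : Set G)))
    (Subgroup.mem_top g) (by rw [Subgroup.normalizer_eq_top]) le_top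
  refine mul_mem ?_ (Subgroup.mem_sup_left (hJ hn))
  rw [← hU'] at hu
  exact (sup_le (Subgroup.le_normalizer.trans (hJ.trans le_sup_left)) le_sup_right) hu

end CfsgLib.Techniques
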