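import Mathlib.LinearAlgebra.Basis.VectorSpace
import Mathlib.FieldTheory.Finite.Basic
import Mathlib.Algebra.Polynomial.RingDivision
import Mathlib.RingTheory.Polynomial.Tower
import Cfsg.Prelude.Def_Transfer
import Mathlib.GroupTheory.RegularWreathProduct

/-!
# A vector of nonzero norm generates a regular module of a group of order `p`
-/

set_option autoImplicit false
set_option linter.all false

namespace CfsgLib.Techniques

open Polynomial

theorem exists_dual_of_norm_ne_zero {p : ℕ} [Fact p.Prime] {V : Type*} [AddCommGroup V]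
    [Module (ZMod p) V] (T : Module.End (ZMod p) V) (hT : T ^ p = 1) (x : V)
    (hx : ∑ i ∈ Finset.range p, (T ^ i) x ≠ 0) :
    ∃ φ : V →ₗ[ZMod p] ZMod p, ∀ g : ZMod p → ZMod p, ∃ v, ∀ i, φ ((T ^ i.val) v) = g i := by
  classical
  haveI : NeZero p := ⟨(Fact.out : p.Prime).ne_zero⟩
  let v : ZMod p → V := fun i => (T ^ i.val) x
  have hli : LinearIndependent (ZMod p) v := by
    rw [Fintype.linearIndependent_iff]
    intro c hc
    by_contra hne
    push Not at hne
    obtain ⟨j, hj⟩ := hne
    set P : (ZMod p)[X] := ∑ i : ZMod p, C (c i) * X ^ i.val with hP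
    have hcoe : ∀ j : ZMod p, P.coeff j.val = c j := fun j => by
      rw [hP, finsetSum_coeff, Finset.sum_eq_single j]
      · simp
      · intro i _ hi
        rw [coeff_C_mul, coeff_X_pow, if_neg fun h => hi (ZMod.val_injective p h).symm, mul_zero]
      · simp
    have hP0 : P ≠ 0 := fun h => hj (by rw [← hcoe j, h, coeff_zero])
    have hPx : aeval T P x = 0 := by
      rw [hP, map_sum, LinearMap.sum_apply, ← hc]
      refine Finset.sum_congr rfl fun i _ => ?_
      simp [v, Module.algebraMap_end_apply]
    obtain ⟨R, hR, hR1⟩ := P.exists_eq_pow_rootMultiplicity_mul_and_not_dvd hP0 1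
    set m := P.rootMultiplicity 1 with hm
    have hmp : m ≤ p - 1 := by
      have hd : P.natDegree ≤ p - 1 := natDegree_sum_le_of_forall_le _ _ fun i _ =>
        (natDegree_C_mul_X_pow_le _ _).trans (Nat.le_sub_one_of_lt (ZMod.val_lt i))
      refine le_trans ?_ hd
      rw [hm, ← count_roots]
      exact (Multiset.count_le_card _ _).trans (card_roots' P)
    have hR1' : R.eval 1 ≠ 0 := fun h => hR1 (dvd_iff_isRoot.2 h)
    have h1 : aeval T (R ^ p) = algebraMap (ZMod p) _ (R.eval 1) := by
      rw [← ZMod.expand_card, expand_aeval, hT,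
        show (1 : Module.End (ZMod p) V) = algebraMap (ZMod p) _ 1 from (map_one _).symm,
        aeval_algebraMap_apply, coe_aeval_eq_eval]
    have h2 : aeval T ((X - C (1 : ZMod p)) ^ m) x = 0 := by
      have h3 : aeval T (R ^ (p - 1) * P) x = 0 := by
        rw [map_mul, Module.End.mul_apply, hPx, map_zero]
      have e : R ^ (p - 1) * P = R ^ p * (X - C (1 : ZMod p)) ^ m := by
        rw [← pow_sub_one_mul (Fact.out : p.Prime).ne_zero R, hR]
        ring
      rw [e, map_mul, Module.End.mul_apply, h1, Module.algebraMap_end_apply, smul_eq_zero] at h3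
      exact h3.resolve_left hR1'
    refine hx ?_
    have hgeom : (X - C (1 : ZMod p)) ^ (p - 1) = ∑ i ∈ Finset.range p, X ^ i := by
      refine mul_right_cancel₀ (X_sub_C_ne_zero (1 : ZMod p)) ?_
      rw [← pow_succ, Nat.sub_add_cancel (Fact.out : p.Prime).one_le, map_one, geom_sum_mul,
        sub_pow_char, one_pow]
    have h4 : aeval T ((X - C (1 : ZMod p)) ^ (p - 1)) x = 0 := by
      rw [show p - 1 = (p - 1 - m) + m by omega, pow_add, map_mul, Module.End.mul_apply, h2,
        map_zero]
    rw [hgeom, map_sum, LinearMap.sum_apply] at h4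
    simpa using h4
  obtain ⟨L, hL⟩ := LinearMap.exists_leftInverse_of_injective
    (Fintype.linearCombination (ZMod p) v)
    (LinearMap.ker_eq_bot.2 (linearIndependent_iff_injective_fintypeLinearCombination.1 hli))
  have hLv : ∀ i j, L (v i) j = if i = j then 1 else 0 := fun i j => by
    have h1 := congrFun (LinearMap.congr_fun hL (Pi.single i 1)) j
    simp [Pi.single_apply, eq_comm] at h1 ⊢
    exact h1
  refine ⟨(LinearMap.proj 0).comp L, fun g => ⟨∑ j, g (-j) • v j, fun i => ?_⟩⟩
  have hshift : ∀ j, (T ^ i.val) (v j) = v (i + j) := fun j => by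
    show (T ^ i.val) ((T ^ j.val) x) = (T ^ (i + j).val) x
    rw [← Module.End.mul_apply, ← pow_add, ZMod.val_add]
    conv_lhs => rw [← Nat.div_add_mod (i.val + j.val) p, pow_add, pow_mul, hT, one_pow, one_mul]
  simp only [map_sum, map_smul, hshift, LinearMap.comp_apply, LinearMap.proj_apply, smul_eq_mul, hLv]
  rw [Finset.sum_eq_single (-i)]
  · simp
  · intro j _ hj
    rw [if_neg fun h => hj (eq_neg_of_add_eq_zero_right h), mul_zero]
  · simp

end CfsgLib.Techniques
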