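import Cfsg.Agent.Lib.PGroups.Basic
import Mathlib.Data.Nat.Choose.Dvd
import Mathlib.Algebra.BigOperators.Group.Finset.Basic

/-!
# Orbit products under a `p`-group having elements of vanishing norm
-/

set_option autoImplicit false
set_option linter.all false

namespace CfsgLib.Techniques

open Subgroup

variable {A : Type*} [CommGroup A]

/-- the orbit of `z` as a finset -/
noncomputable def orb {R : Type*} [Group R] [Finite R] (ρ : R →* MulAut A) (z : A) : Finset A :=
  (Set.finite_range fun r : R => ρ r z).toFinset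

theorem mem_orb {R : Type*} [Group R] [Finite R] {ρ : R →* MulAut A} {z w : A} :
    w ∈ orb ρ z ↔ ∃ r : R, ρ r z = w := by
  simp [orb]

theorem self_mem_orb {R : Type*} [Group R] [Finite R] (ρ : R →* MulAut A) (z : A) :
    z ∈ orb ρ z := mem_orb.2 ⟨1, by rw [map_one, MulAut.one_apply]⟩

theorem orb_eq_of_mem {R : Type*} [Group R] [Finite R] {ρ : R →* MulAut A} {z w : A}
    (h : w ∈ orb ρ z) : orb ρ w = orb ρ z := by
  obtain ⟨r, rfl⟩ := mem_orb.1 h
  ext v
  simp only [mem_orb]
  constructor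
  · rintro ⟨s, rfl⟩
    exact ⟨s * r, by rw [map_mul, MulAut.mul_apply]⟩
  · rintro ⟨s, rfl⟩
    exact ⟨s * r⁻¹, by rw [← MulAut.mul_apply, ← map_mul, inv_mul_cancel_right]⟩

/-- an invariant finset is a product of orbits -/
theorem prod_mem_of_orbits [DecidableEq A] {R : Type*} [Group R] [Finite R] (ρ : R →* MulAut A)
    (Y : Subgroup A) (S : Finset A) (hS : ∀ w ∈ S, ∀ r, ρ r w ∈ S)
    (h : ∀ w ∈ S, ∏ v ∈ orb ρ w, v ∈ Y) : ∏ w ∈ S, w ∈ Y := by
  rw [← Finset.prod_fiberwise_of_maps_to (g := fun w => orb ρ w) (t := S.image fun w => orb ρ w)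
    fun w hw => Finset.mem_image_of_mem _ hw]
  refine Y.prod_mem fun O hO => ?_
  obtain ⟨w, hw, rfl⟩ := Finset.mem_image.1 hO
  have e : S.filter (fun v => orb ρ v = orb ρ w) = orb ρ w := by
    ext v
    rw [Finset.mem_filter]
    constructor
    · rintro ⟨-, hv⟩
      exact hv ▸ self_mem_orb ρ v
    · intro hv
      obtain ⟨r, rfl⟩ := mem_orb.1 hv
      exact ⟨hS w hw r, orb_eq_of_mem hv⟩
  rw [e]
  exact h w hw

theorem orbit_prod_mem.{v} {p : ℕ} [Fact p.Prime] [DecidableEq A] (Y : Subgroup A) :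
    ∀ (n : ℕ) (R : Type v) [Group R] [Finite R], Nat.card R ≤ n → IsPGroup p R →
      ∀ (ρ : R →* MulAut A) (Λ : Set R), (∀ h, ∀ g ∈ Λ, h * g * h⁻¹ ∈ Λ) →
      (∀ g ∈ Λ, ∀ a : A, ∏ i ∈ Finset.range p, ρ (g ^ i) a ∈ Y) →
      ∀ z : A, (∃ g ∈ Λ, ρ g z ≠ z) → ∏ w ∈ orb ρ z, w ∈ Y := by
  intro n
  induction n with
  | zero => exact fun R _ _ hc => absurd hc (Nat.card_pos (α := R)).not_ge
  | succ n ih =>
    intro R _ _ hc hR ρ Λ hΛ hgood z ⟨g₀, hg₀, hg₀z⟩
    classical
    let D : Subgroup R :=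
      { carrier := {r | ρ r z = z}
        one_mem' := by simp
        mul_mem' := fun {a b} ha hb => by
          simp only [Set.mem_setOf_eq] at *
          rw [map_mul, MulAut.mul_apply, hb, ha]
        inv_mem' := fun {a} ha => by
          simp only [Set.mem_setOf_eq] at *
          rw [map_inv, MulAut.inv_apply, MulEquiv.symm_apply_eq, ha] }
    have hDne : D ≠ ⊤ := fun h => hg₀z (h.ge (mem_top g₀) : g₀ ∈ D)
    obtain ⟨M₀, hM₀, hDM⟩ : ∃ M₀, IsCoatom M₀ ∧ D ≤ M₀ :=
      (eq_top_or_exists_le_coatom D).resolve_left hDne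
    haveI := CfsgLib.PGroups.normal_of_isCoatom' hR hM₀
    have hidx := CfsgLib.PGroups.index_of_isCoatom hR hM₀
    set ρ' := ρ.comp M₀.subtype with hρ'
    by_cases hcase : ∃ g ∈ Λ, g ∉ M₀
    · obtain ⟨g, hg, hgM⟩ := hcase
      set π := QuotientGroup.mk' M₀
      have hcard : Nat.card (R ⧸ M₀) = p := by rw [← Subgroup.index_eq_card, hidx]
      have hne1 : π g ≠ 1 := fun h => hgM ((QuotientGroup.eq_one_iff g).1 h)
      have hord : orderOf (π g) = p := orderOf_eq_prime (by
        rw [← hcard]; exact pow_card_eq_one') hne1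
      have hcov : ∀ r : R, ∃ i < p, (g ^ i)⁻¹ * r ∈ M₀ := by
        intro r
        have h1 : π r ∈ Submonoid.powers (π g) :=
          (mem_powers_iff_mem_zpowers).2 (mem_zpowers_of_prime_card hcard hne1)
        rw [mem_powers_iff_mem_range_orderOf] at h1
        obtain ⟨i, hi, hir⟩ := Finset.mem_image.1 h1
        refine ⟨i, hord ▸ Finset.mem_range.1 hi, QuotientGroup.eq.1 ?_⟩
        exact (map_pow π g i).trans hir
      have heq : orb ρ z =
          (Finset.range p).biUnion fun i => (orb ρ' z).image fun w => ρ (g ^ i) w := by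
        ext w
        simp only [mem_orb, Finset.mem_biUnion, Finset.mem_image, Finset.mem_range]
        constructor
        · rintro ⟨r, rfl⟩
          obtain ⟨i, hi, hm⟩ := hcov r
          refine ⟨i, hi, ρ ((g ^ i)⁻¹ * r) z, ⟨⟨_, hm⟩, rfl⟩, ?_⟩
          rw [← MulAut.mul_apply, ← map_mul, mul_inv_cancel_left]
        · rintro ⟨i, -, _, ⟨m, rfl⟩, rfl⟩
          exact ⟨g ^ i * m, by rw [map_mul, MulAut.mul_apply]; rfl⟩
      have hdisj : (↑(Finset.range p) : Set ℕ).PairwiseDisjoint
          fun i => (orb ρ' z).image fun w => ρ (g ^ i) w := by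
        intro i hi j hj hij
        rw [Function.onFun, Finset.disjoint_left]
        intro w hw hw'
        obtain ⟨_, ha', rfl⟩ := Finset.mem_image.1 hw
        obtain ⟨_, hb', hb⟩ := Finset.mem_image.1 hw'
        obtain ⟨a, rfl⟩ := mem_orb.1 ha'
        obtain ⟨b, rfl⟩ := mem_orb.1 hb'
        have h1 : (g ^ j * (b : R))⁻¹ * (g ^ i * (a : R)) ∈ M₀ := hDM (by
          show ρ _ z = z
          rw [map_mul, MulAut.mul_apply, map_inv, MulAut.inv_apply, MulEquiv.symm_apply_eq,
            map_mul, MulAut.mul_apply, map_mul, MulAut.mul_apply]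
          exact hb.symm)
        have h2 : π (g ^ j) = π (g ^ i) := by
          have h3 := (QuotientGroup.eq_one_iff _).2 h1
          change π _ = 1 at h3
          rw [map_mul, map_inv, map_mul, map_mul, show π (a : R) = 1 from
            (QuotientGroup.eq_one_iff _).2 a.2, show π (b : R) = 1 from
            (QuotientGroup.eq_one_iff _).2 b.2, mul_one, mul_one, inv_mul_eq_one] at h3
          exact h3
        rw [map_pow, map_pow] at h2
        exact hij (pow_injOn_Iio_orderOf (hord.symm ▸ Finset.mem_range.1 (Finset.mem_coe.1 hi))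
          (hord.symm ▸ Finset.mem_range.1 (Finset.mem_coe.1 hj)) h2.symm)
      rw [heq, Finset.prod_biUnion hdisj]
      have e : ∀ i ∈ Finset.range p, ∏ w ∈ (orb ρ' z).image (fun w => ρ (g ^ i) w), w =
          ρ (g ^ i) (∏ w ∈ orb ρ' z, w) := fun i _ => by
        rw [Finset.prod_image fun a _ b _ h => (ρ (g ^ i)).injective h, map_prod]
      rw [Finset.prod_congr rfl e]
      exact hgood g hg _
    · push Not at hcase
      have hlt : Nat.card M₀ ≤ n := by
        have := M₀.card_mul_index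
        rw [hidx] at this
        have h2 : 2 ≤ p := (Fact.out : p.Prime).two_le
        have h3 : 0 < Nat.card M₀ := Nat.card_pos
        nlinarith
      refine prod_mem_of_orbits ρ' Y _ (fun w hw r => ?_) fun w hw => ?_
      · rw [← orb_eq_of_mem hw]
        exact mem_orb.2 ⟨r, rfl⟩
      · obtain ⟨h, rfl⟩ := mem_orb.1 hw
        refine ih M₀ hlt (hR.to_subgroup M₀) ρ' (M₀.subtype ⁻¹' Λ)
          (fun k g hg => hΛ k g hg) (fun g hg a => by simpa [hρ'] using hgood g hg a) _
          ⟨⟨h * g₀ * h⁻¹, hcase _ (hΛ h g₀ hg₀)⟩, hΛ h g₀ hg₀, fun he => hg₀z ?_⟩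
        change ρ (h * g₀ * h⁻¹) (ρ h z) = ρ h z at he
        rw [← MulAut.mul_apply, ← map_mul, inv_mul_cancel_right, map_mul, MulAut.mul_apply] at he
        exact (ρ h).injective he

/-- Pascal expansion of the norm of a cyclic group -/
theorem norm_eq_prod (s : A →* A) (b : A) (c : ℕ → A) (h0 : c 0 = b)
    (hc : ∀ k, s (c k) = c (k + 1) * c k) (n : ℕ) :
    ∏ i ∈ Finset.range n, (s^[i]) b = ∏ k ∈ Finset.range n, c k ^ n.choose (k + 1) := by
  induction n with
  | zero => simp
  | succ n ih =>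
    have e1 : ∏ i ∈ Finset.range n, (s^[i + 1]) b = s (∏ i ∈ Finset.range n, (s^[i]) b) := by
      rw [map_prod]
      refine Finset.prod_congr rfl fun i _ => ?_
      rw [Function.iterate_succ_apply']
    rw [Finset.prod_range_succ', e1, ih, map_prod, Function.iterate_zero_apply, ← h0]
    simp only [map_pow, hc, mul_pow, Finset.prod_mul_distrib]
    rw [Finset.prod_range_succ' (fun k => c k ^ (n + 1).choose (k + 1))]
    simp only [Nat.choose_succ_succ' n, pow_add, Finset.prod_mul_distrib, zero_add,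
      Nat.choose_zero_right, pow_one]
    have e2 : ∏ k ∈ Finset.range n, c k ^ n.choose (k + 1) =
        (∏ k ∈ Finset.range n, c (k + 1) ^ n.choose (k + 1 + 1)) * c 0 ^ n.choose 1 := by
      rw [← Finset.prod_range_succ' (fun k => c k ^ n.choose (k + 1)), Finset.prod_range_succ,
        Nat.choose_succ_self, pow_zero, mul_one]
    rw [e2]
    simp only [mul_assoc, mul_comm, mul_left_comm]

theorem norm_mem {p : ℕ} [hp : Fact p.Prime] (Y : Subgroup A) (s : A →* A) (b : A) (c : ℕ → A)
    (h0 : c 0 = b) (hc : ∀ k, s (c k) = c (k + 1) * c k) (hlast : c (p - 1) ∈ Y)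
    (hpow : ∀ a : A, a ^ p ∈ Y) : ∏ i ∈ Finset.range p, (s^[i]) b ∈ Y := by
  rw [norm_eq_prod s b c h0 hc]
  refine Y.prod_mem fun k hk => ?_
  rw [Finset.mem_range] at hk
  rcases eq_or_ne (k + 1) p with h | h
  · rw [h, Nat.choose_self, pow_one, show k = p - 1 by omega]
    exact hlast
  · obtain ⟨m, hm⟩ := hp.out.dvd_choose_self (Nat.succ_ne_zero k) (by omega : k + 1 < p)
    rw [show p.choose (k + 1) = p * m from hm, pow_mul]
    exact Y.pow_mem (hpow _) m

end CfsgLib.Techniques
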