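import Cfsg.Agent.Lib.Techniques2.NormalControl

/-!
# Local-to-global induction over subgroups having a conjugate above the centre of a Sylow subgroup
-/

set_option autoImplicit false
set_option linter.all false

namespace CfsgLib.Techniques

open Subgroup

variable {G : Type*} [Group G] {p : ℕ}

/-- some conjugate of `U` lies between `Z(S)` and `S` -/
def HasConjOverCenter (S U : Subgroup G) : Prop :=
  ∃ a : G, S ⊓ centralizer (S : Set G) ≤ U.map (MulAut.conj a).toMonoidHom ∧
    U.map (MulAut.conj a).toMonoidHom ≤ S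

theorem HasConjOverCenter.conj {S U : Subgroup G} (h : HasConjOverCenter S U) (b : G) :
    HasConjOverCenter S (U.map (MulAut.conj b).toMonoidHom) := by
  obtain ⟨a, h1, h2⟩ := h
  exact ⟨a * b⁻¹, by rw [map_conj_conj, inv_mul_cancel_right]; exact ⟨h1, h2⟩⟩

theorem hasConjOverCenter_of_le {S U : Subgroup G} (h1 : S ⊓ centralizer (S : Set G) ≤ U)
    (h2 : U ≤ S) : HasConjOverCenter S U :=
  ⟨1, by rw [map_conj_one]; exact ⟨h1, h2⟩⟩

variable [Finite G] [Fact p.Prime]

/-- Statements `Φ D g` for `g` conjugating `D ≤ S` into `S`, with the subgroups of size at least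
`|N_S(U)|` available at the stage of `U`. -/
theorem downward_induction_le (S : Sylow p G) (Φ : Set G → G → Prop) (K : Subgroup G → Prop)
    (mono : ∀ A g, Φ A g → ∀ B ⊆ A, Φ B g)
    (trans : ∀ A g k, Φ A g → Φ ((fun a => g * a * g⁻¹) '' A) k → Φ A (k * g))
    (hK : ∀ U : Subgroup G, U ≤ (S : Subgroup G) →
      IsFullyNormalized p (S : Subgroup G) U →
      (∀ U' : Subgroup G, U' ≤ (S : Subgroup G) →
        IsFullyNormalized p (S : Subgroup G) U' →
        Nat.card ((S : Subgroup G) ⊓ normalizer (U : Set G) : Subgroup G) <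
          Nat.card ((S : Subgroup G) ⊓ normalizer (U' : Set G) : Subgroup G) → K U') →
      ((S : Subgroup G) ⊓ normalizer (U : Set G) < (S : Subgroup G) →
        ∀ (D : Subgroup G) (g : G), D ≤ (S : Subgroup G) →
          D.map (MulAut.conj g).toMonoidHom ≤ (S : Subgroup G) →
          Nat.card ((S : Subgroup G) ⊓ normalizer (U : Set G) : Subgroup G) ≤ Nat.card D →
          Φ (D : Set G) g) → K U)
    (hKΦ : ∀ U : Subgroup G, U ≤ (S : Subgroup G) →
      IsFullyNormalized p (S : Subgroup G) U → K U → ∀ x ∈ normalizer (U : Set G), Φ (U : Set G) x) :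
    (∀ U : Subgroup G, U ≤ (S : Subgroup G) → IsFullyNormalized p (S : Subgroup G) U → K U) ∧
    ∀ (D : Subgroup G) (g : G), D ≤ (S : Subgroup G) →
      D.map (MulAut.conj g).toMonoidHom ≤ (S : Subgroup G) → Φ (D : Set G) g := by
  have hcard : ∀ X : Subgroup G, X ≤ (S : Subgroup G) →
      Nat.card X ≤ Nat.card (S : Subgroup G) := fun X hX => Subgroup.card_le_of_le hX
  have hKS : ∀ U : Subgroup G, U ≤ (S : Subgroup G) → IsFullyNormalized p (S : Subgroup G) U →
      (S : Subgroup G) ⊓ normalizer (U : Set G) = (S : Subgroup G) → K U := fun U hU hfull he =>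
    hK U hU hfull (fun U' hU' _ hlt => by
      have := hcard _ (inf_le_left : (S : Subgroup G) ⊓ normalizer (U' : Set G) ≤ _)
      rw [he] at hlt
      omega) (fun hlt => absurd he hlt.ne)
  suffices H : ∀ k, (∀ (D : Subgroup G) (g : G), D ≤ (S : Subgroup G) →
        D.map (MulAut.conj g).toMonoidHom ≤ (S : Subgroup G) →
        Nat.card (S : Subgroup G) - Nat.card D ≤ k → Φ (D : Set G) g) ∧
      ∀ U : Subgroup G, U ≤ (S : Subgroup G) → IsFullyNormalized p (S : Subgroup G) U →
        Nat.card (S : Subgroup G) -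
          Nat.card ((S : Subgroup G) ⊓ normalizer (U : Set G) : Subgroup G) ≤ k → K U from
    ⟨fun U h1 h2 => (H _).2 U h1 h2 le_rfl, fun D g h1 h2 => (H _).1 D g h1 h2 le_rfl⟩
  intro k
  induction k using Nat.strong_induction_on with
  | _ k ih => ?_
  have first : ∀ (D : Subgroup G) (g : G), D ≤ (S : Subgroup G) →
      D.map (MulAut.conj g).toMonoidHom ≤ (S : Subgroup G) →
      Nat.card (S : Subgroup G) - Nat.card D ≤ k → Φ (D : Set G) g := by
    intro D g hD hg hk
    rcases eq_or_lt_of_le hD with rfl | hlt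
    · exact hKΦ _ le_rfl (isFullyNormalized_self S)
        (hKS _ le_rfl (isFullyNormalized_self S) (inf_eq_left.2 le_normalizer)) g
        (mem_normalizer_of_map_conj_eq (Subgroup.eq_of_le_of_card_ge hg (by rw [card_map_conj])))
    obtain ⟨a₀, haS, hfull, -⟩ := exists_fullyNormalized_conj S hD
    set U := D.map (MulAut.conj a₀).toMonoidHom with hU
    have hUD : Nat.card U = Nat.card D := card_map_conj D a₀
    have hUlt : U < (S : Subgroup G) := lt_of_le_of_ne haS fun he => by
      have := CfsgLib.Transfer.card_lt_of_lt hlt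
      rw [← hUD, he] at this
      exact lt_irrefl _ this
    have hKU : K U := by
      have h1 := CfsgLib.Transfer.card_lt_of_lt (CfsgLib.Transfer.lt_inf_normalizer S.2 hUlt)
      have h2 := hcard _ (inf_le_left : (S : Subgroup G) ⊓ normalizer (U : Set G) ≤ _)
      exact (ih (Nat.card (S : Subgroup G) -
        Nat.card ((S : Subgroup G) ⊓ normalizer (U : Set G) : Subgroup G)) (by omega)).2 U haS
          hfull le_rfl
    set E := D.map (MulAut.conj g).toMonoidHom with hE
    have hb₀ : E.map (MulAut.conj (a₀ * g⁻¹)).toMonoidHom = U := by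
      rw [hE, map_conj_conj, inv_mul_cancel_right]
    obtain ⟨m, -, haU, haN⟩ := hfull.exists_correct S.2 (hU.symm)
    obtain ⟨m', -, hbU, hbN⟩ := hfull.exists_correct S.2 hb₀
    set a := m * a₀
    set b := m' * (a₀ * g⁻¹)
    set n := b * g * a⁻¹ with hn
    have hnU : n ∈ normalizer (U : Set G) := by
      refine mem_normalizer_of_map_conj_eq ?_
      rw [hn, ← map_conj_conj, ← haU, map_conj_inv_conj, ← map_conj_conj, ← hE, hbU, haU]
    have hElt : E < (S : Subgroup G) := lt_of_le_of_ne hg fun he => by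
      have := card_map_conj D g
      rw [← hE, he] at this
      exact hlt.ne (Subgroup.eq_of_le_of_card_ge hlt.le this.le)
    have IH : ∀ (D' : Subgroup G) (g' : G), D' ≤ (S : Subgroup G) →
        D'.map (MulAut.conj g').toMonoidHom ≤ (S : Subgroup G) → Nat.card D < Nat.card D' →
        Φ (D' : Set G) g' := fun D' g' h1 h2 h3 => by
      have := hcard D' h1
      exact (ih (Nat.card (S : Subgroup G) - Nat.card D') (by omega)).1 D' g' h1 h2 le_rfl
    have p1 : Φ (D : Set G) a :=
      mono _ _ (IH _ a inf_le_left (haN.trans inf_le_left)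
        (CfsgLib.Transfer.card_lt_of_lt (CfsgLib.Transfer.lt_inf_normalizer S.2 hlt))) _
        (SetLike.coe_subset_coe.mpr (le_inf hD le_normalizer))
    have p2 : Φ (D : Set G) (n * a) := by
      refine trans _ _ _ p1 (mono _ _ (hKΦ U haS hfull hKU n hnU) _ ?_)
      rintro _ ⟨d, hd, rfl⟩
      rw [← haU]
      exact ⟨d, hd, by simp [MulAut.conj_apply]⟩
    have hbig : Nat.card D <
        Nat.card (((S : Subgroup G) ⊓ normalizer (E : Set G)).map
          (MulAut.conj b).toMonoidHom : Subgroup G) := by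
      rw [card_map_conj, ← card_map_conj D g]
      exact CfsgLib.Transfer.card_lt_of_lt (CfsgLib.Transfer.lt_inf_normalizer S.2 hElt)
    have p3 := IH _ b⁻¹ (hbN.trans inf_le_left) (by rw [map_conj_inv_conj]; exact inf_le_left) hbig
    have e : g = b⁻¹ * (n * a) := by rw [hn]; group
    rw [e]
    refine trans _ _ _ p2 (mono _ _ p3 _ ?_)
    rintro _ ⟨d, hd, rfl⟩
    refine ⟨g * d * g⁻¹, le_inf hg le_normalizer ⟨d, hd, by simp [MulAut.conj_apply]⟩, ?_⟩
    simp [MulAut.conj_apply, hn, mul_assoc]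
  refine ⟨first, fun U hU hfull hk => hK U hU hfull (fun U' hU' hfull' hlt => ?_)
    (fun _ D g hD hg hle => first D g hD hg (by
      have := hcard D hD
      omega))⟩
  have := hcard _ (inf_le_left : (S : Subgroup G) ⊓ normalizer (U' : Set G) ≤ _)
  exact (ih (Nat.card (S : Subgroup G) -
    Nat.card ((S : Subgroup G) ⊓ normalizer (U' : Set G) : Subgroup G)) (by omega)).2
      U' hU' hfull' le_rfl

/-- Induction proving a property `Strong` of the subgroups with a conjugate over `Z(S)` and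
a statement `Φ` about all fusion in `S`. -/
theorem pair_induction (S : Sylow p G) (Φ : Set G → G → Prop) (Strong : Subgroup G → Prop)
    (mono : ∀ A g, Φ A g → ∀ B ⊆ A, Φ B g)
    (trans : ∀ A g k, Φ A g → Φ ((fun a => g * a * g⁻¹) '' A) k → Φ A (k * g))
    (congr : ∀ A g g', Φ A g → (∀ a ∈ A, g' * a * g'⁻¹ = g * a * g⁻¹) → Φ A g')
    (hΦ : ∀ U : Subgroup G, U ≤ (S : Subgroup G) → IsFullyNormalized p (S : Subgroup G) U →
      Strong U → ∀ x ∈ normalizer (U : Set G), Φ (U : Set G) x)
    (hS : ∀ U : Subgroup G, U ≤ (S : Subgroup G) → IsFullyNormalized p (S : Subgroup G) U →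
      HasConjOverCenter (S : Subgroup G) U →
      (∀ U' : Subgroup G, U' ≤ (S : Subgroup G) → IsFullyNormalized p (S : Subgroup G) U' →
        HasConjOverCenter (S : Subgroup G) U' →
        Nat.card ((S : Subgroup G) ⊓ normalizer (U : Set G) : Subgroup G) <
          Nat.card ((S : Subgroup G) ⊓ normalizer (U' : Set G) : Subgroup G) → Strong U') →
      ((S : Subgroup G) ⊓ normalizer (U : Set G) < (S : Subgroup G) →
        ∀ (D : Subgroup G) (g : G), D ≤ (S : Subgroup G) →
          D.map (MulAut.conj g).toMonoidHom ≤ (S : Subgroup G) →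
          Nat.card ((S : Subgroup G) ⊓ normalizer (U : Set G) : Subgroup G) ≤ Nat.card D →
          Φ (D : Set G) g) → Strong U) :
    ∀ (D : Subgroup G) (g : G), D ≤ (S : Subgroup G) →
      D.map (MulAut.conj g).toMonoidHom ≤ (S : Subgroup G) → Φ (D : Set G) g := by
  refine (downward_induction_le S Φ (fun U => (∀ x ∈ normalizer (U : Set G), Φ (U : Set G) x) ∧
    (HasConjOverCenter (S : Subgroup G) U → Strong U)) mono trans ?_
    (fun U _ _ h => h.1)).2
  intro U hU hfull hK hD
  set P₀ := (S : Subgroup G) ⊓ normalizer (U : Set G) with hP₀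
  have hstrong : HasConjOverCenter (S : Subgroup G) U → Strong U := fun h =>
    hS U hU hfull h (fun U' h1 h2 h3 h4 => (hK U' h1 h2 h4).2 h3) hD
  refine ⟨fun x hx => ?_, hstrong⟩
  by_cases hgood : HasConjOverCenter (S : Subgroup G) U
  · exact hΦ U hU hfull (hstrong hgood) x hx
  -- enlarge `U` by its centralizer in `S`
  set C := centralizer (U : Set G) with hC
  set TC := (S : Subgroup G) ⊓ C with hTC
  have hCN : C ≤ normalizer (U : Set G) := centralizer_le_normalizer _
  have hUN : ∀ y ∈ normalizer (U : Set G), ∀ u ∈ U, y * u * y⁻¹ ∈ U := fun y hy u hu =>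
    (mem_normalizer_iff.1 hy u).1 hu
  have hCn : ∀ y ∈ normalizer (U : Set G), ∀ c ∈ C, y * c * y⁻¹ ∈ C := by
    intro y hy c hc
    rw [hC, mem_centralizer_iff]
    intro u hu
    have h1 := mem_centralizer_iff.1 hc (y⁻¹ * u * y) (by simpa using hUN _ (inv_mem hy) u hu)
    calc u * (y * c * y⁻¹) = y * ((y⁻¹ * u * y) * c) * y⁻¹ := by group
      _ = y * (c * (y⁻¹ * u * y)) * y⁻¹ := by rw [h1]
      _ = y * c * y⁻¹ * u := by group
  have hTCs : IsSylowSub p TC C := by
    have h1 := (show IsSylowSub p P₀ (normalizer (U : Set G)) from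
      ⟨inf_le_right, S.2.to_le inf_le_left, hfull⟩).inf_normal_of_conj hCN hCn
    rwa [hP₀, inf_assoc, inf_eq_right.2 hCN] at h1
  obtain ⟨c, hc, hcx⟩ := Transfer.exists_conj_le hTCs.2.1 hTCs.2.2
    (S := TC.map (MulAut.conj x).toMonoidHom) (by
      rintro _ ⟨t, ht, rfl⟩
      exact hCn x hx t ht.2) (hTCs.2.1.map _)
  set n := c⁻¹ * x with hn
  have hnU : n ∈ normalizer (U : Set G) := mul_mem (inv_mem (hCN hc)) hx
  have hnT : n ∈ normalizer (TC : Set G) := by
    refine mem_normalizer_of_map_conj_eq (eq_of_le_of_card_ge ?_ (card_map_conj TC _).ge)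
    rintro _ ⟨t, ht, rfl⟩
    simpa [hn, mul_assoc] using hcx _ ⟨t, ht, rfl⟩
  set U₁ := U ⊔ TC with hU₁
  have hU₁S : U₁ ≤ (S : Subgroup G) := sup_le hU inf_le_left
  have hnU₁ : n ∈ normalizer (U₁ : Set G) := by
    refine mem_normalizer_of_map_conj_eq ?_
    rw [hU₁, Subgroup.map_sup, map_conj_of_mem_normalizer hnU, map_conj_of_mem_normalizer hnT]
  have hgood₁ : HasConjOverCenter (S : Subgroup G) U₁ := hasConjOverCenter_of_le (fun z hz =>
    mem_sup_right (mem_inf.2 ⟨hz.1, centralizer_le (SetLike.coe_subset_coe.2 hU) hz.2⟩)) hU₁S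
  set P₁ := (S : Subgroup G) ⊓ normalizer (U₁ : Set G) with hP₁
  have hPP : P₀ ≤ P₁ := by
    intro y hy
    refine mem_inf.2 ⟨hy.1, mem_normalizer_of_map_conj_eq (eq_of_le_of_card_ge ?_
      (card_map_conj U₁ y).ge)⟩
    rw [hU₁, Subgroup.map_sup]
    refine sup_le_sup (map_conj_of_mem_normalizer hy.2).le ?_
    rintro _ ⟨t, ht, rfl⟩
    exact mem_inf.2 ⟨mul_mem (mul_mem hy.1 ht.1) (inv_mem hy.1), hCn y hy.2 t ht.2⟩
  suffices h : Φ (U₁ : Set G) n by
    refine congr _ _ _ (mono _ _ h _ (SetLike.coe_subset_coe.2 le_sup_left)) fun u hu => ?_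
    have h1 := mem_centralizer_iff.1 hc _ (hUN n hnU u hu)
    calc x * u * x⁻¹ = c * (n * u * n⁻¹) * c⁻¹ := by rw [hn]; group
      _ = n * u * n⁻¹ := by rw [← h1, mul_inv_cancel_right]
  obtain ⟨a, haS, hafull, hasub⟩ := exists_fullyNormalized_conj S hU₁S
  set U₂ := U₁.map (MulAut.conj a).toMonoidHom with hU₂
  set P₂ := (S : Subgroup G) ⊓ normalizer (U₂ : Set G) with hP₂
  have hle₁₂ : Nat.card P₁ ≤ Nat.card P₂ := by
    rw [← card_map_conj P₁ a]
    exact Subgroup.card_le_of_le hasub
  rcases lt_or_eq_of_le ((Subgroup.card_le_of_le hPP).trans hle₁₂) with hlt | heq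
  · by_cases hPS : P₀ < (S : Subgroup G)
    · have hstr₂ := (hK U₂ haS hafull hlt).2 (hgood₁.conj a)
      have hn₂ : a * n * a⁻¹ ∈ normalizer (U₂ : Set G) := by
        rw [hU₂, normalizer_map_conj', mem_map_conj_iff]
        simpa [mul_assoc] using hnU₁
      have q1 : Φ (U₁ : Set G) a := mono _ _ (hD hPS P₁ a inf_le_left
        (hasub.trans inf_le_left) (Subgroup.card_le_of_le hPP)) _
        (SetLike.coe_subset_coe.2 (le_inf hU₁S le_normalizer))
      have himg : (fun y => a * y * a⁻¹) '' (U₁ : Set G) ⊆ (U₂ : Set G) := by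
        rintro _ ⟨u, hu, rfl⟩
        exact ⟨u, hu, rfl⟩
      have q2 : Φ (U₁ : Set G) (a * n * a⁻¹ * a) :=
        trans _ _ _ q1 (mono _ _ (hΦ U₂ haS hafull hstr₂ _ hn₂) _ himg)
      have q3 := hD hPS (P₁.map (MulAut.conj a).toMonoidHom) a⁻¹
        (hasub.trans inf_le_left) (by rw [map_conj_inv_conj]; exact inf_le_left)
        (by rw [card_map_conj]; exact Subgroup.card_le_of_le hPP)
      have q4 : Φ (U₁ : Set G) (a⁻¹ * (a * n * a⁻¹ * a)) := by
        refine trans _ _ _ q2 (mono _ _ q3 _ ?_)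
        rintro _ ⟨u, hu, rfl⟩
        refine ⟨n * u * n⁻¹, le_inf hU₁S le_normalizer ((mem_normalizer_iff.1 hnU₁ u).1 hu), ?_⟩
        show a * (n * u * n⁻¹) * a⁻¹ = _
        group
      rwa [show a⁻¹ * (a * n * a⁻¹ * a) = n by group] at q4
    · have h1 : P₀ = (S : Subgroup G) := eq_of_le_of_not_lt inf_le_left hPS
      have h2 := Subgroup.card_le_of_le (inf_le_left : P₂ ≤ (S : Subgroup G))
      rw [h1] at hlt
      exact absurd hlt h2.not_gt
  · have hfull₁ : IsFullyNormalized p (S : Subgroup G) U₁ := by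
      have h12 : Nat.card P₁ = Nat.card P₂ :=
        le_antisymm hle₁₂ (heq ▸ Subgroup.card_le_of_le hPP)
      have hP₂s : IsSylowSub p P₂ (normalizer (U₂ : Set G)) :=
        ⟨inf_le_right, S.2.to_le inf_le_left, hafull⟩
      have e : P₁.map (MulAut.conj a).toMonoidHom = P₂ :=
        eq_of_le_of_card_ge hasub (by rw [card_map_conj, h12])
      have h3 := hP₂s.map_conj a⁻¹
      rw [← e, map_conj_inv_conj, ← normalizer_map_conj', hU₂, map_conj_inv_conj] at h3
      exact h3.2.2
    have h0 : P₀ = P₁ := eq_of_le_of_card_ge hPP (heq ▸ hle₁₂)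
    refine hΦ U₁ hU₁S hfull₁ (hS U₁ hU₁S hfull₁ hgood₁ (fun U' h1' h2' h3' h4' => ?_)
      fun hlt' => ?_) n hnU₁
    · exact (hK U' h1' h2' (by rw [h0]; exact h4')).2 h3'
    · rw [← hP₁, ← h0] at hlt' ⊢
      exact hD hlt'

end CfsgLib.Techniques
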