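import Cfsg.Agent.Lib.Techniques2.SFourFree

/-!
# Quadratic elementary abelian groups without offenders

`M` acts on an elementary abelian `2`-group `V`, the `2`-subgroups of `M` are abelian, and no pair
of elements induces `S₃` on a four-subgroup of `V`.  Then a quadratic elementary abelian subgroup
`A`, none of whose nontrivial elements commutes with all involutions, satisfies
`|A| |C_V(A)| < |V|`.
-/

set_option autoImplicit false
set_option linter.all false

namespace CfsgLib.Techniques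

open Subgroup

universe u v

variable {V : Type u} [CommGroup V] {M : Type v} [Group M]

/-- the fixed points of a subgroup -/
def fixPts (ρ : M →* MulAut V) (A : Subgroup M) : Subgroup V where
  carrier := {w | ∀ a ∈ A, ρ a w = w}
  one_mem' a _ := map_one _
  mul_mem' hx hy a ha := by rw [map_mul, hx a ha, hy a ha]
  inv_mem' hx a ha := by rw [map_inv, hx a ha]

theorem mem_fixPts {ρ : M →* MulAut V} {A : Subgroup M} {w : V} :
    w ∈ fixPts ρ A ↔ ∀ a ∈ A, ρ a w = w := Iff.rfl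

/-- a `2`-element inverted by an involution squares to one -/
theorem sq_eq_one_of_inverted (hab : ∀ P : Subgroup M, IsPGroup 2 P → ∀ x ∈ P, ∀ y ∈ P, x * y = y * x)
    {a u : M} (ha : a * a = 1) {k : ℕ} (hu : u ^ 2 ^ k = 1) (hinv : a * u * a⁻¹ = u⁻¹) :
    u * u = 1 ∧ a * u = u * a := by
  haveI : Fact (Nat.Prime 2) := ⟨Nat.prime_two⟩
  have h1 : IsPGroup 2 (zpowers a) := fun x => by
    obtain ⟨x, hx⟩ := x
    obtain ⟨j, rfl⟩ := mem_zpowers_iff.1 hx
    refine ⟨1, Subtype.ext ?_⟩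
    show (a ^ j) ^ 2 ^ 1 = 1
    rw [pow_one, ← zpow_natCast, ← zpow_mul, mul_comm, zpow_mul, zpow_natCast, pow_two, ha,
      one_zpow]
  have h2 : IsPGroup 2 (zpowers u) := fun x => by
    obtain ⟨x, hx⟩ := x
    obtain ⟨j, rfl⟩ := mem_zpowers_iff.1 hx
    refine ⟨k, Subtype.ext ?_⟩
    show (u ^ j) ^ 2 ^ k = 1
    rw [← zpow_natCast, ← zpow_mul, mul_comm, zpow_mul, zpow_natCast, hu, one_zpow]
  have hn : zpowers a ≤ normalizer (zpowers u : Set M) := by
    rw [zpowers_le]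
    refine CfsgLib.Techniques.mem_normalizer_of_map_conj_eq ?_
    rw [MonoidHom.map_zpowers]
    show zpowers (a * u * a⁻¹) = _
    rw [hinv, zpowers_inv]
  have hc := hab _ (h1.to_sup_of_normal_right' h2 hn) a (mem_sup_left (mem_zpowers a)) u
    (mem_sup_right (mem_zpowers u))
  rw [hc, mul_inv_cancel_right] at hinv
  exact ⟨by rw [← mul_inv_cancel u]; exact congrArg (u * ·) hinv, hc⟩

/-- two involutions whose product is a `2`-element commute -/
theorem comm_of_pow_two (hab : ∀ P : Subgroup M, IsPGroup 2 P → ∀ x ∈ P, ∀ y ∈ P, x * y = y * x)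
    {a b : M} (ha : a * a = 1) (hb : b * b = 1) {k : ℕ} (h : (a * b) ^ 2 ^ k = 1) :
    a * b = b * a := by
  have hai : a⁻¹ = a := inv_eq_of_mul_eq_one_right ha
  have hbi : b⁻¹ = b := inv_eq_of_mul_eq_one_right hb
  have h2 := (sq_eq_one_of_inverted hab ha (u := a * b) h
    (by rw [mul_inv_rev, hai, hbi, ← mul_assoc, ha, one_mul])).1
  have h3 := inv_eq_of_mul_eq_one_right h2
  rw [mul_inv_rev, hai, hbi] at h3
  exact h3.symm

variable [Finite V] [Finite M]

set_option maxHeartbeats 800000 in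
/-- the bound -/
theorem card_mul_fixPts_lt (ρ : M →* MulAut V) (h2 : ∀ w : V, w * w = 1)
    (hS3 : ∀ (a b : M) (y z : V), ρ a y = y → ρ b z = z → ρ a z = z * y → ρ b y = y * z → y = 1)
    (hab : ∀ P : Subgroup M, IsPGroup 2 P → ∀ x ∈ P, ∀ y ∈ P, x * y = y * x) :
    ∀ (n : ℕ) (L : Subgroup M) (W : Subgroup V) (A : Subgroup M),
      Nat.card L + Nat.card W + Nat.card A = n →
      (∀ l ∈ L, ∀ w ∈ W, ρ l w ∈ W) →
      (∀ l ∈ L, (∀ w ∈ W, ρ l w = w) → ∃ k : ℕ, l ^ 2 ^ k = 1) →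
      A ≤ L → Cfsg.IsElementaryAbelian 2 A →
      (∀ a ∈ A, ∀ b ∈ A, ∀ w ∈ W, ρ b (ρ a w * w) = ρ a w * w) →
      (∀ a ∈ A, a ≠ 1 → ∃ i ∈ L, i * i = 1 ∧ i * a ≠ a * i) →
      A ≠ ⊥ → Nat.card A * Nat.card ↥(W ⊓ fixPts ρ A) < Nat.card W := by
  intro n
  induction n using Nat.strong_induction_on with
  | _ n ih => ?_
  intro L W A hn hLW hker hAL hA hquad hfree hne
  by_contra hoff
  push Not at hoff
  have hinvV : ∀ w : V, w⁻¹ = w := fun w => inv_eq_of_mul_eq_one_right (h2 w)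
  have hsq : ∀ a ∈ A, a * a = 1 := fun a ha => by rw [← pow_two]; exact hA.2 a ha
  have hAc : ∀ a ∈ A, ∀ b ∈ A, a * b = b * a := fun a ha b hb =>
    congrArg Subtype.val (hA.1.is_comm.comm ⟨a, ha⟩ ⟨b, hb⟩)
  have hcompute : ∀ a b : M, ∀ w : V, ρ (a * b) w = ρ a (ρ b w) := fun a b w => by
    rw [map_mul]; rfl
  -- an element fixing the fixed points of a centralized quadratic subgroup
  have hkernel : ∀ D : Subgroup M, (∀ d ∈ D, ∀ d' ∈ D, ∀ w ∈ W, ρ d' (ρ d w * w) = ρ d w * w) →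
      D ≤ L → ∀ l ∈ L ⊓ centralizer (D : Set M), (∀ w ∈ W ⊓ fixPts ρ D, ρ l w = w) →
        ∃ k : ℕ, l ^ 2 ^ k = 1 := by
    intro D hD hDL l hl hfix
    obtain ⟨k, hk⟩ := hker (l * l) (L.mul_mem hl.1 hl.1) fun w hw => by
      set δ := ρ l w * w with hδ
      have hδW : δ ∈ W := W.mul_mem (hLW l hl.1 w hw) hw
      have hδf : δ ∈ fixPts ρ D := fun d hd => by
        have hc : ρ d w * w ∈ W ⊓ fixPts ρ D :=
          ⟨W.mul_mem (hLW d (hDL hd) w hw) hw, fun d' hd' => hD d hd d' hd' w hw⟩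
        have h1 : ρ d (ρ l w) = ρ l (ρ d w) := by
          rw [← hcompute, ← hcompute, mem_centralizer_iff.1 hl.2 d hd]
        have h3 : ρ d w = (ρ d w * w) * w := by rw [mul_assoc, h2, mul_one]
        rw [hδ, map_mul, h1, h3, map_mul, hfix _ hc]
        calc (ρ d w * w) * ρ l w * ((ρ d w * w) * w)
            = ρ l w * w * ((ρ d w * w) * (ρ d w * w)) := by ac_rfl
          _ = ρ l w * w := by rw [h2, mul_one]
      have h4 : ρ l δ = δ := hfix δ ⟨hδW, hδf⟩
      have h5 : ρ l w = δ * w := by rw [hδ, mul_assoc, h2, mul_one]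
      rw [hcompute, h5, map_mul, h4, h5, ← mul_assoc, h2, one_mul]
    exact ⟨k + 1, by rw [pow_succ', pow_mul, pow_two]; exact hk⟩
  have hinvW : ∀ D : Subgroup M, ∀ l ∈ L ⊓ centralizer (D : Set M),
      ∀ w ∈ W ⊓ fixPts ρ D, ρ l w ∈ W ⊓ fixPts ρ D := fun D l hl w hw =>
    ⟨hLW l hl.1 w hw.1, fun d hd => by
      rw [← hcompute, mem_centralizer_iff.1 hl.2 d hd, hcompute, hw.2 d hd]⟩
  -- all nontrivial elements of `A` commute with the same involutions
  have hshare : ∀ e ∈ A, e ≠ 1 → ∀ x ∈ A, ∀ i ∈ L, i * i = 1 → i * e = e * i →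
      i * x = x * i := by
    intro e he he1 x hx i hiL hi2 hie
    let D : Subgroup M := A ⊓ centralizer {j : M | j ∈ L ∧ j * j = 1 ∧ j * e = e * j}
    have hDA : D ≤ A := inf_le_left
    have heD : e ∈ D := ⟨he, mem_centralizer_iff.2 fun j hj => hj.2.2⟩
    suffices D = A from mem_centralizer_iff.1 (this.ge hx).2 i ⟨hiL, hi2, hie⟩
    by_contra hDne
    obtain ⟨A₁, hA₁, hmaxA₁⟩ := Set.exists_max_image
      {B : Subgroup M | B ≤ A ∧ B ⊓ D = ⊥} (fun B => Nat.card B) (Set.toFinite _)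
      ⟨⊥, bot_le, bot_inf_eq _⟩
    have hsup : A₁ ⊔ D = A := by
      refine le_antisymm (sup_le hA₁.1 hDA) fun a ha => ?_
      by_cases haA₁ : a ∈ A₁
      · exact mem_sup_left haA₁
      have hlt : A₁ < A₁ ⊔ zpowers a :=
        lt_of_le_of_ne le_sup_left fun h => haA₁ (h ▸ mem_sup_right (mem_zpowers a))
      have hne' : (A₁ ⊔ zpowers a) ⊓ D ≠ ⊥ := fun h =>
        absurd (hmaxA₁ _ ⟨sup_le hA₁.1 (zpowers_le.2 ha), h⟩)
          (not_le.2 (Set.Finite.card_lt_card (Set.toFinite _) (SetLike.coe_ssubset_coe.2 hlt)))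
      obtain ⟨⟨d, hd⟩, hd1⟩ := ne_bot_iff_exists_ne_one.mp hne'
      have hd' : d ∈ ((A₁ ⊔ zpowers a : Subgroup M) : Set M) := hd.1
      rw [coe_mul_of_right_le_normalizer_left A₁ (zpowers a)
        ((zpowers_le.2 ha).trans (fun y hy => mem_normalizer_iff.2 fun q => ⟨fun hq => by
          rw [hAc y hy q (hA₁.1 hq), mul_inv_cancel_right]; exact hq, fun hq => by
          have hqA : q ∈ A := by
            have := A.mul_mem (A.mul_mem (A.inv_mem hy) (hA₁.1 hq)) hy
            simpa [mul_assoc] using this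
          rwa [hAc y hy q hqA, mul_inv_cancel_right] at hq⟩))] at hd'
      obtain ⟨a₁, ha₁, c, hc, rfl⟩ := hd'
      obtain ⟨j, rfl⟩ := mem_zpowers_iff.1 hc
      rcases Int.even_or_odd j with ⟨l, rfl⟩ | ⟨l, rfl⟩
      · refine absurd (Subtype.ext ?_) hd1
        have h0 : a ^ (l + l) = 1 := by rw [← two_mul, zpow_mul, zpow_ofNat, pow_two, hsq a ha, one_zpow]
        have hmem : a₁ * a ^ (l + l) ∈ A₁ ⊓ D := ⟨by rw [h0, mul_one]; exact ha₁, hd.2⟩
        rw [hA₁.2, mem_bot] at hmem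
        exact hmem
      · have h0 : a ^ (2 * l + 1) = a := by
          rw [zpow_add, zpow_mul, zpow_ofNat, pow_two, hsq a ha, one_zpow, one_mul, zpow_one]
        have hd2 : a₁ * a ∈ D := by rw [← h0]; exact hd.2
        rw [show a = a₁⁻¹ * (a₁ * a) by group]
        exact mul_mem (mem_sup_left (inv_mem ha₁)) (mem_sup_right hd2)
    have hDlt : Nat.card D < Nat.card A := Set.Finite.card_lt_card (Set.toFinite _)
      (SetLike.coe_ssubset_coe.2 (lt_of_le_of_ne hDA hDne))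
    have hDbot : D ≠ ⊥ := fun h => he1 (mem_bot.1 (h ▸ heD))
    have hA₁bot : A₁ ≠ ⊥ := fun h => hDne (by rw [← hsup, h, bot_sup_eq])
    have hDel : Cfsg.IsElementaryAbelian 2 D :=
      CfsgLib.Signalizer.elementary_of_le (p := 2) hA hDA
    have r1 := ih _ (by omega) L W D rfl hLW hker (hDA.trans hAL) hDel
      (fun a ha b hb => hquad a (hDA ha) b (hDA hb)) (fun a ha => hfree a (hDA ha)) hDbot
    -- the complement on the fixed points of `D`
    have hWlt : Nat.card ↥(W ⊓ fixPts ρ D) < Nat.card W := by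
      refine Set.Finite.card_lt_card (Set.toFinite _) (SetLike.coe_ssubset_coe.2
        (lt_of_le_of_ne inf_le_left fun h => ?_))
      obtain ⟨j, hjL, hj2, hje⟩ := hfree e he he1
      obtain ⟨k, hk⟩ := hker ((j * e) * (j * e)) (L.mul_mem (L.mul_mem hjL (hAL he))
        (L.mul_mem hjL (hAL he))) fun w hw => by
          have hf : ∀ u ∈ W, ρ e u = u := fun u hu => ((h.ge hu).2) e heD
          rw [hcompute, hcompute, hcompute, hf w hw, hf _ (hLW j hjL w hw), ← hcompute, hj2,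
            map_one]
          rfl
      exact hje (comm_of_pow_two hab hj2 (hsq e he) (k := k + 1)
        (by rw [pow_succ', pow_mul, pow_two]; exact hk))
    have hL' : Nat.card ↥(L ⊓ centralizer (D : Set M)) ≤ Nat.card L :=
      Subgroup.card_le_of_le inf_le_left
    have hA₁c : Nat.card A₁ ≤ Nat.card A := Subgroup.card_le_of_le hA₁.1
    have r2 := ih _ (by omega) (L ⊓ centralizer (D : Set M)) (W ⊓ fixPts ρ D) A₁ rfl (hinvW D)
      (hkernel D (fun d hd d' hd' => hquad d (hDA hd) d' (hDA hd')) (hDA.trans hAL))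
      (fun a ha => ⟨hAL (hA₁.1 ha),
        mem_centralizer_iff.2 fun d hd => hAc d (hDA hd) a (hA₁.1 ha)⟩)
      (CfsgLib.Signalizer.elementary_of_le (p := 2) hA hA₁.1)
      (fun a ha b hb w hw => hquad a (hA₁.1 ha) b (hA₁.1 hb) w hw.1)
      (fun a ha ha1 => by
        by_contra hcon
        push Not at hcon
        refine ha1 (mem_bot.1 (hA₁.2.le ⟨ha, hA₁.1 ha, mem_centralizer_iff.2 fun j hj => ?_⟩))
        exact hcon j ⟨hj.1, mem_centralizer_iff.2 fun d hd =>
          (mem_centralizer_iff.1 hd.2 j hj).symm⟩ hj.2.1)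
      hA₁bot
    have hfix : W ⊓ fixPts ρ D ⊓ fixPts ρ A₁ = W ⊓ fixPts ρ A := by
      refine le_antisymm (fun w hw => ⟨hw.1.1, fun a ha => ?_⟩) fun w hw =>
        ⟨⟨hw.1, fun a ha => hw.2 a (hDA ha)⟩, fun a ha => hw.2 a (hA₁.1 ha)⟩
      rw [← hsup, ← SetLike.mem_coe, coe_mul_of_left_le_normalizer_right A₁ D
        (fun y hy => centralizer_le_normalizer _ (mem_centralizer_iff.2 fun q hq =>
          hAc q (hDA hq) y (hA₁.1 hy)))] at ha
      obtain ⟨a₁, ha₁, d, hd, rfl⟩ := ha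
      rw [hcompute, hw.1.2 d hd, hw.2 a₁ ha₁]
    have hcard : Nat.card A = Nat.card A₁ * Nat.card D := by
      rw [← hsup, CfsgLib.Core.card_sup_of_disjoint A₁ D
        (fun y hy => centralizer_le_normalizer _ (mem_centralizer_iff.2 fun q hq =>
          hAc q (hDA hq) y (hA₁.1 hy))) hA₁.2]
    rw [hfix] at r2
    have h6 := Nat.mul_lt_mul_of_pos_left r2 (Nat.card_pos : 0 < Nat.card D)
    rw [hcard, mul_comm (Nat.card A₁), mul_assoc] at hoff
    omega
  -- a conjugate `B`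
  obtain ⟨⟨e, he⟩, he1⟩ := ne_bot_iff_exists_ne_one.mp hne
  replace he1 : e ≠ 1 := fun h => he1 (Subtype.ext h)
  obtain ⟨g, hgL, hg2, hge⟩ := hfree e he he1
  have hgi : g⁻¹ = g := inv_eq_of_mul_eq_one_right hg2
  set B := A.map (MulAut.conj g).toMonoidHom with hB
  have hmemB : ∀ b ∈ B, ∃ a ∈ A, g * a * g = b := by
    rintro _ ⟨a, ha, rfl⟩
    exact ⟨a, ha, by simp [MulAut.conj_apply, hgi]⟩
  have hsqB : ∀ b ∈ B, b * b = 1 := fun b hb => by
    obtain ⟨a, ha, rfl⟩ := hmemB b hb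
    calc g * a * g * (g * a * g) = g * a * (g * g) * (a * g) := by group
      _ = g * (a * a) * g := by rw [hg2]; group
      _ = 1 := by rw [hsq a ha, mul_one, hg2]
  have hBL : B ≤ L := fun b hb => by
    obtain ⟨a, ha, rfl⟩ := hmemB b hb
    exact L.mul_mem (L.mul_mem hgL (hAL ha)) hgL
  have hnc : ∀ a ∈ A, a ≠ 1 → ∀ b ∈ B, b ≠ 1 → a * b ≠ b * a := by
    intro a ha ha1 b hb hb1 hcomm
    obtain ⟨a₀, ha₀, rfl⟩ := hmemB b hb
    have ha01 : a₀ ≠ 1 := fun h => hb1 (by rw [h, mul_one, hg2])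
    have h1 := hshare a ha ha1 e he _ (hBL hb) (hsqB _ hb) hcomm.symm
    have h3 : g * e * g * a₀ = a₀ * (g * e * g) := by
      calc g * e * g * a₀ = g * (e * (g * a₀ * g)) * g := by
            rw [show g * (e * (g * a₀ * g)) * g = g * e * g * a₀ * (g * g) by group, hg2, mul_one]
        _ = g * (g * a₀ * g * e) * g := by rw [h1]
        _ = (g * g) * a₀ * (g * e * g) := by group
        _ = _ := by rw [hg2, one_mul]
    have hge2 : g * e * g * (g * e * g) = 1 := hsqB _ ⟨e, he, by simp [MulAut.conj_apply, hgi]⟩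
    have h4 := hshare a₀ ha₀ ha01 e he _ (L.mul_mem (L.mul_mem hgL (hAL he)) hgL) hge2 h3
    refine hge (comm_of_pow_two hab hg2 (hsq e he) (k := 2) ?_)
    calc (g * e) ^ 2 ^ 2 = (g * e * g * e) * (g * e * g * e) := by
          simp only [show 2 ^ 2 = 4 from rfl, pow_succ, pow_zero, one_mul, mul_assoc]
      _ = (g * e * g * e) * (e * (g * e * g)) := by rw [h4]
      _ = g * e * g * (e * e) * (g * e * g) := by group
      _ = 1 := by rw [hsq e he, mul_one, hge2]
  set C := W ⊓ fixPts ρ A with hC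
  set C' := W ⊓ fixPts ρ B with hC'
  -- `|C'| = |C|`
  have hBel : Cfsg.IsElementaryAbelian 2 B := by
    refine ⟨⟨⟨?_⟩⟩, fun b hb => by rw [pow_two]; exact hsqB b hb⟩
    rintro ⟨_, u, hu, rfl⟩ ⟨_, w, hw, rfl⟩
    refine Subtype.ext ?_
    show MulAut.conj g u * MulAut.conj g w = MulAut.conj g w * MulAut.conj g u
    rw [← map_mul, ← map_mul, hAc u hu w hw]
  have hcardB : Nat.card B = Nat.card A := CfsgLib.Techniques.card_map_conj A g
  have hgg : ∀ w : V, ρ g (ρ g w) = w := fun w => by rw [← hcompute, hg2, map_one]; rfl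
  have hfixB : C' = C.map (ρ g).toMonoidHom := by
    ext w
    constructor
    · intro hw
      refine ⟨ρ g w, ⟨hLW g hgL w hw.1, fun a ha => ?_⟩, hgg w⟩
      have := congrArg (ρ g) (hw.2 (g * a * g) ⟨a, ha, by simp [MulAut.conj_apply, hgi]⟩)
      rwa [hcompute, hcompute, hgg] at this
    · rintro ⟨x, hx, rfl⟩
      refine ⟨hLW g hgL x hx.1, fun b hb => ?_⟩
      obtain ⟨a, ha, rfl⟩ := hmemB b hb
      show ρ (g * a * g) (ρ g x) = ρ g x
      rw [hcompute, hcompute, hgg, hx.2 a ha]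
  have hcardC : Nat.card C' = Nat.card C := by
    rw [hfixB]
    exact (Nat.card_congr (C.equivMapOfInjective _ (ρ g).injective).toEquiv).symm
  have hquadB : ∀ a ∈ B, ∀ b ∈ B, ∀ w ∈ W, ρ b (ρ a w * w) = ρ a w * w := by
    intro a ha b hb w hw
    obtain ⟨a₀, ha₀, rfl⟩ := hmemB a ha
    obtain ⟨b₀, hb₀, rfl⟩ := hmemB b hb
    have := hquad a₀ ha₀ b₀ hb₀ (ρ g w) (hLW g hgL w hw)
    simp only [hcompute]
    rw [map_mul (ρ g) (ρ g (ρ a₀ (ρ g w))) w, hgg, this, map_mul, hgg]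
  -- products of involutions from `A` and `B` have odd order on `W`
  have hodd : ∀ a ∈ A, a ≠ 1 → ∀ b ∈ B, b ≠ 1 →
      ∃ m, Odd m ∧ ∀ w ∈ W, ρ ((a * b) ^ m) w = w := by
    intro a ha ha1 b hb hb1
    obtain ⟨k, m, hm, hord⟩ := Nat.exists_eq_two_pow_mul_odd (orderOf_pos (a * b)).ne'
    refine ⟨m, hm, ?_⟩
    set z := (a * b) ^ m with hz
    have hzk : z ^ 2 ^ k = 1 := by
      rw [hz, ← pow_mul, mul_comm, ← hord, pow_orderOf_eq_one]
    have hai : a⁻¹ = a := inv_eq_of_mul_eq_one_right (hsq a ha)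
    have hbi : b⁻¹ = b := inv_eq_of_mul_eq_one_right (hsqB b hb)
    obtain ⟨hzz, hza⟩ := sq_eq_one_of_inverted hab (hsq a ha) hzk (by
      rw [hz, ← conj_pow, ← inv_pow, mul_inv_rev, hai, hbi, ← mul_assoc a a b, hsq a ha, one_mul])
    have hzb : z * b = b * z := by
      have e1 : Commute z (a * b) := Commute.pow_self _ _
      have e2 : b = a * (a * b) := by rw [← mul_assoc, hsq a ha, one_mul]
      have e3 : Commute z a := hza.symm
      rw [e2]
      exact (e3.mul_right e1).eq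
    by_contra hcon
    have hzL : z ∈ L := L.pow_mem (L.mul_mem (hAL ha) (hBL hb)) m
    have hzsq : ∀ d ∈ zpowers z, d = 1 ∨ d = z := by
      intro d hd
      obtain ⟨j, rfl⟩ := mem_zpowers_iff.1 hd
      rcases Int.even_or_odd j with ⟨l, rfl⟩ | ⟨l, rfl⟩
      · left; rw [← two_mul, zpow_mul, zpow_ofNat, pow_two, hzz, one_zpow]
      · right; rw [zpow_add, zpow_mul, zpow_ofNat, pow_two, hzz, one_zpow, one_mul, zpow_one]
    have hWlt : Nat.card ↥(W ⊓ fixPts ρ (zpowers z)) < Nat.card W :=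
      Set.Finite.card_lt_card (Set.toFinite _) (SetLike.coe_ssubset_coe.2
        (lt_of_le_of_ne inf_le_left fun h => hcon fun w hw => (h.ge hw).2 z (mem_zpowers z)))
    have hL' : Nat.card ↥(L ⊓ centralizer (zpowers z : Set M)) ≤ Nat.card L :=
      Subgroup.card_le_of_le inf_le_left
    have hbL' : b ∈ L ⊓ centralizer (zpowers z : Set M) := ⟨hBL hb, mem_centralizer_iff.2
      fun d hd => by rcases hzsq d hd with rfl | rfl; simp; exact hzb⟩
    have r := ih _ (by omega) (L ⊓ centralizer (zpowers z : Set M)) (W ⊓ fixPts ρ (zpowers z)) A rfl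
      (hinvW _) (hkernel _ (fun d hd d' hd' w hw => by
        rcases hzsq d hd with rfl | rfl
        · simp [h2]
        · rcases hzsq d' hd' with rfl | rfl
          · simp
          · rw [map_mul, ← hcompute, hzz, map_one, mul_comm]; rfl) (zpowers_le.2 hzL))
      (fun a' ha' => ⟨hAL ha', mem_centralizer_iff.2 fun d hd => by
        rcases hzsq d hd with rfl | rfl
        · simp
        · exact hshare a ha ha1 a' ha' z hzL hzz hza.symm⟩)
      hA (fun a' ha' b' hb' w hw => hquad a' ha' b' hb' w hw.1)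
      (fun a' ha' ha'1 => ⟨b, hbL', hsqB b hb, fun h => hnc a' ha' ha'1 b hb hb1 h.symm⟩) hne
    have h1 := CfsgLib.PLocal.card_sup_mul_card_inf (W ⊓ fixPts ρ (zpowers z)) C
      (fun x _ => mem_normalizer_iff.2 fun y => by rw [mul_comm x y, mul_inv_cancel_right])
    have h3 : Nat.card ↥(W ⊓ fixPts ρ (zpowers z) ⊔ C : Subgroup V) ≤ Nat.card W :=
      Subgroup.card_le_of_le (sup_le inf_le_left inf_le_left)
    have h4 : Nat.card ↥(W ⊓ fixPts ρ (zpowers z) ⊓ C) ≤
        Nat.card ↥(W ⊓ fixPts ρ (zpowers z) ⊓ fixPts ρ A) :=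
      Subgroup.card_le_of_le (inf_le_inf_left _ inf_le_right)
    nlinarith [Nat.mul_le_mul h3 h4, (Nat.card_pos : 0 < Nat.card A),
      (Nat.card_pos : 0 < Nat.card ↥(W ⊓ fixPts ρ (zpowers z) ⊓ fixPts ρ A)),
      (Nat.card_pos : 0 < Nat.card C)]
  -- a vector moved by `A` and fixed by `B` is moved freely
  have hmove : ∀ P Q : Subgroup M, P ≤ L → Q ≤ L → Cfsg.IsElementaryAbelian 2 Q →
      Nat.card P + Nat.card Q = Nat.card A + Nat.card A →
      (∀ a ∈ P, ∀ b ∈ Q, a ≠ 1 → b ≠ 1 → a * b ≠ b * a) →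
      (∀ a ∈ P, ∀ b ∈ Q, a ≠ 1 → b ≠ 1 → ∃ m, Odd m ∧ ∀ w ∈ W, ρ ((a * b) ^ m) w = w) →
      (∀ a ∈ P, a * a = 1) →
      (∀ a ∈ Q, ∀ b ∈ Q, ∀ w ∈ W, ρ b (ρ a w * w) = ρ a w * w) →
      Nat.card P = Nat.card A → Nat.card W ≤ Nat.card Q * Nat.card ↥(W ⊓ fixPts ρ Q) →
      Q ≠ ⊥ → ∀ x ∈ W ⊓ fixPts ρ Q, x ∉ fixPts ρ P → ∀ a ∈ P,
        ρ a x * x ∈ fixPts ρ Q → a = 1 := by
    intro P Q hPL hQL hQ hsum hPQ hPQodd hP hQq hPc hoffQ hQne x hx hxP a ha hax
    by_contra ha1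
    obtain ⟨⟨b, hb⟩, hb1⟩ := ne_bot_iff_exists_ne_one.mp hQne
    replace hb1 : b ≠ 1 := fun h => hb1 (Subtype.ext h)
    obtain ⟨m, hm, hmW⟩ := hPQodd a ha b hb ha1 hb1
    set w₀ := ρ a x * x with hw₀
    have e1 : ρ (a * b) x = x * w₀ := by
      rw [hcompute, hx.2 b hb, hw₀, mul_comm (ρ a x) x, ← mul_assoc, h2, one_mul]
    have e2 : ρ (a * b) w₀ = w₀ := by
      rw [hcompute, hax b hb, hw₀, map_mul, ← hcompute, hP a ha, map_one, mul_comm]; rfl
    have e3 : ∀ j : ℕ, ρ ((a * b) ^ j) x = x * w₀ ^ j := by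
      intro j
      induction j with
      | zero => simp
      | succ j ih => rw [pow_succ', hcompute, ih, map_mul, map_pow, e2, e1, pow_succ', mul_assoc]
    have e4 : w₀ = 1 := by
      have := e3 m
      rw [hmW x hx.1, left_eq_mul] at this
      obtain ⟨r, rfl⟩ := hm
      rwa [pow_succ, pow_mul, pow_two, h2, one_pow, one_mul] at this
    have hfixa : ρ a x = x := by
      rw [hw₀, mul_eq_one_iff_eq_inv, hinvV] at e4
      exact e4
    let L' : Subgroup M :=
      { carrier := {l | l ∈ L ∧ ρ l x = x}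
        one_mem' := ⟨one_mem _, by rw [map_one]; rfl⟩
        mul_mem' := fun h h' => ⟨L.mul_mem h.1 h'.1, by rw [hcompute, h'.2, h.2]⟩
        inv_mem' := fun {l} h => ⟨L.inv_mem h.1, by
          conv_lhs => rw [← h.2]
          rw [← hcompute, inv_mul_cancel, map_one]; rfl⟩ }
    have hlt : Nat.card L' < Nat.card L := by
      refine Set.Finite.card_lt_card (Set.toFinite _) (SetLike.coe_ssubset_coe.2
        (lt_of_le_of_ne (fun l hl => hl.1) fun h => hxP fun c hc => ?_))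
      exact (h.ge (hPL hc) : c ∈ L').2
    have hQc : Nat.card Q = Nat.card A := by omega
    have r := ih _ (by omega) L' W Q rfl (fun l hl => hLW l hl.1) (fun l hl => hker l hl.1)
      (fun c hc => ⟨hQL hc, hx.2 c hc⟩) hQ hQq
      (fun c hc hc1 => ⟨a, ⟨hPL ha, hfixa⟩, hP a ha, hPQ a ha c hc ha1 hc1⟩) hQne
    omega
  have hBne : B ≠ ⊥ := fun h => he1 (by
    have : g * e * g ∈ B := ⟨e, he, by simp [MulAut.conj_apply, hgi]⟩
    rw [h, mem_bot] at this
    calc e = (g * g) * e * (g * g) := by rw [hg2, one_mul, mul_one]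
      _ = g * (g * e * g) * g := by group
      _ = 1 := by rw [this, mul_one, hg2])
  have hAB := hmove A B hAL hBL hBel (by omega) (fun a ha b hb ha1 hb1 => hnc a ha ha1 b hb hb1)
    (fun a ha b hb ha1 hb1 => hodd a ha ha1 b hb hb1) hsq hquadB rfl
    (by rw [hcardB, ← hC', hcardC]; exact hoff) hBne
  have hBA := hmove B A hBL hAL hA (by omega)
    (fun b hb a ha hb1 ha1 h => hnc a ha ha1 b hb hb1 h.symm)
    (fun b hb a ha hb1 ha1 => by
      obtain ⟨m, hm, hmW⟩ := hodd a ha ha1 b hb hb1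
      refine ⟨m, hm, fun w hw => ?_⟩
      have h1 : (b * a) ^ m = ((a * b) ^ m)⁻¹ := by
        rw [← inv_pow, mul_inv_rev, inv_eq_of_mul_eq_one_right (hsq a ha),
          inv_eq_of_mul_eq_one_right (hsqB b hb)]
      rw [h1]
      conv_lhs => rw [← hmW w hw]
      rw [← hcompute, inv_mul_cancel, map_one]; rfl)
    hsqB hquad hcardB hoff hne
  obtain ⟨b, hbB, hb1⟩ : ∃ b ∈ B, b ≠ 1 := by
    obtain ⟨⟨b, hb⟩, hb1⟩ := ne_bot_iff_exists_ne_one.mp hBne
    exact ⟨b, hb, fun h => hb1 (Subtype.ext h)⟩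
  obtain ⟨x, hxC, hxC'⟩ : ∃ x ∈ C, x ∉ C' := by
    by_contra hcon
    push Not at hcon
    have heq : C = C' := eq_of_le_of_card_ge hcon hcardC.le
    obtain ⟨m, hm, hmW⟩ := hodd e he he1 b hbB hb1
    obtain ⟨r, rfl⟩ := hm
    have hAfix : ∀ w ∈ W, ∀ c ∈ B, ρ c (ρ e w * w) = ρ e w * w := fun w hw c hc =>
      ((heq.le (⟨W.mul_mem (hLW e (hAL he) w hw) hw, fun a' ha' => hquad e he a' ha' w hw⟩
        : ρ e w * w ∈ C)).2) c hc
    have hBfix : ∀ w ∈ W, ρ e (ρ b w * w) = ρ b w * w := fun w hw =>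
      ((heq.ge (⟨W.mul_mem (hLW b (hBL hbB) w hw) hw, fun b' hb' => hquadB b hbB b' hb' w hw⟩
        : ρ b w * w ∈ C')).2) e he
    have hsq2 : ∀ w ∈ W, ρ ((e * b) ^ 2) w = w := by
      intro w hw
      obtain ⟨c, hc⟩ : ∃ c, c = ρ b w * w := ⟨_, rfl⟩
      obtain ⟨d, hd⟩ : ∃ d, d = ρ e w * w := ⟨_, rfl⟩
      have hbw : ρ b w = c * w := by rw [hc, mul_assoc, h2, mul_one]
      have hew : ρ e w = d * w := by rw [hd, mul_assoc, h2, mul_one]
      have hbc : ρ b c = c := hc ▸ hquadB b hbB b hbB w hw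
      have hec : ρ e c = c := hc ▸ hBfix w hw
      have hbd : ρ b d = d := hd ▸ hAfix w hw b hbB
      have hed : ρ e d = d := hd ▸ hquad e he e he w hw
      simp only [pow_two, hcompute, hbw, hew, map_mul (ρ b), map_mul (ρ e), hbc, hec, hbd, hed]
      calc c * (d * (c * (d * w))) = (c * c) * ((d * d) * w) := by ac_rfl
        _ = w := by rw [h2, h2, one_mul, one_mul]
    have htriv : ∀ w ∈ W, ρ (e * b) w = w := fun w hw => by
      have hj : ∀ j : ℕ, ρ (((e * b) ^ 2) ^ j) w = w := by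
        intro j
        induction j with
        | zero => simp
        | succ j ih => rw [pow_succ, hcompute, hsq2 w hw, ih]
      have := hmW w hw
      rwa [pow_succ', hcompute, pow_mul, hj] at this
    obtain ⟨k, hk⟩ := hker (e * b) (L.mul_mem (hAL he) (hBL hbB)) htriv
    exact hnc e he he1 b hbB hb1 (comm_of_pow_two hab (hsq e he) (hsqB b hbB) hk)
  have hxB : x ∉ fixPts ρ B := fun h => hxC' ⟨hxC.1, h⟩
  set z := ρ b x * x with hzd
  have hzC' : z ∈ C' :=
    ⟨W.mul_mem (hLW b (hBL hbB) x hxC.1) hxC.1, fun c hc => hquadB b hbB c hc x hxC.1⟩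
  have hzA : z ∉ fixPts ρ A := fun h => hb1 (hBA x hxC hxB b hbB h)
  -- `a ↦ [a, z]` is onto `W / C'`
  let φ : A → ↥W ⧸ C'.subgroupOf W := fun a => QuotientGroup.mk
    ⟨ρ (a : M) z * z, W.mul_mem (hLW _ (hAL a.2) z hzC'.1) hzC'.1⟩
  have hφ : Function.Injective φ := by
    intro a a' h
    simp only [φ, QuotientGroup.eq] at h
    have h1 : (ρ (a : M) z * z)⁻¹ * (ρ (a' : M) z * z) ∈ C' := h
    rw [hinvV] at h1
    have h3 : ρ ((a : M) * a') z * z = ρ (a : M) z * z * (ρ (a' : M) z * z) := by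
      rw [hcompute, show ρ (a' : M) z = (ρ (a' : M) z * z) * z by rw [mul_assoc, h2, mul_one],
        map_mul, hquad _ a'.2 _ a.2 z hzC'.1,
        show ρ (a' : M) z * z * z * z = ρ (a' : M) z * z by rw [mul_assoc (ρ (a' : M) z * z), h2, mul_one]]
      ac_rfl
    have h5 := hAB z hzC' hzA ((a : M) * a') (A.mul_mem a.2 a'.2) (h3 ▸ h1.2)
    refine Subtype.ext ?_
    calc (a : M) = (a : M) * ((a' : M) * a') := by rw [hsq _ a'.2, mul_one]
      _ = _ := by rw [← mul_assoc, h5, one_mul]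
  have hidx : Nat.card (↥W ⧸ C'.subgroupOf W) ≤ Nat.card A := by
    have h1 := card_mul_relIndex' (inf_le_left : C' ≤ W)
    change C'.relIndex W ≤ _
    nlinarith [(Nat.card_pos : 0 < Nat.card C'), hoff]
  obtain ⟨a, ha⟩ := ((Nat.bijective_iff_injective_and_card φ).2
    ⟨hφ, le_antisymm (Nat.card_le_card_of_injective φ hφ) hidx⟩).2
    (QuotientGroup.mk ⟨x, hxC.1⟩)
  simp only [φ, QuotientGroup.eq] at ha
  have h1 : (ρ (a : M) z * z)⁻¹ * x ∈ C' := ha
  rw [hinvV] at h1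
  set y := ρ (a : M) z * z with hy
  have e1 : ρ (a : M) y = y := hquad _ a.2 _ a.2 z hzC'.1
  have e2 : ρ b z = z := hzC'.2 b hbB
  have e3 : ρ (a : M) z = z * y := by
    rw [hy, mul_comm (ρ (a : M) z) z, ← mul_assoc, h2, one_mul]
  have e4 : ρ b y = y * z := by
    have := h1.2 b hbB
    rw [map_mul] at this
    calc ρ b y = ρ b y * (ρ b x * ρ b x) := by rw [h2, mul_one]
      _ = (ρ b y * ρ b x) * ρ b x := by rw [mul_assoc]
      _ = y * x * ρ b x := by rw [this]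
      _ = y * z := by rw [hzd, mul_assoc, mul_comm x]
  have hy1 := hS3 _ b y z e1 e2 e3 e4
  rw [hy1, one_mul] at h1
  exact hxC' h1

end CfsgLib.Techniques
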