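import Cfsg.Prelude.Def_Local
import Cfsg.Agent.Lib.Core.Cores
import Mathlib.GroupTheory.Sylow

/-!
# The centre as a direct factor of the fixed points of a Sylow subgroup
-/

set_option autoImplicit false
set_option linter.all false

namespace CfsgLib.Techniques

open Subgroup

theorem exists_factor_of_index_coprime {G : Type*} [Group G] [Finite G] {p : ℕ} [Fact p.Prime]
    (S M : Subgroup G) [M.Normal] (hM : IsMulCommutative M) (hMp : IsPGroup p M)
    (hS : ¬ p ∣ S.index) :
    ∃ K : Subgroup G, K ≤ M ⊓ centralizer (S : Set G) ∧ (M ⊓ center G) ⊓ K = ⊥ ∧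
      (M ⊓ center G) ⊔ K = M ⊓ centralizer (S : Set G) := by
  classical
  haveI := hM
  letI : CommGroup M := { (inferInstance : Group M) with mul_comm := fun a b => mul_comm' a b }
  letI : Fintype (G ⧸ S) := Fintype.ofFinite _
  set Z := M ⊓ centralizer (S : Set G) with hZ
  let c : G → (M →* M) := fun g => (MulAut.conjNormal g : MulAut M).toMonoidHom
  let τ : Z →* M := ∏ q : G ⧸ S, (c q.out).comp (inclusion (inf_le_left : Z ≤ M))
  have hc : ∀ (g : G) (m : M), ((c g m : M) : G) = g * m * g⁻¹ := fun g m =>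
    MulAut.conjNormal_apply g m
  have hτ : ∀ z : Z, τ z = ∏ q : G ⧸ S, c q.out (inclusion (inf_le_left : Z ≤ M) z) := fun z => by
    simp [τ, MonoidHom.finsetProd_apply]
  have hrep : ∀ (z : Z) (g h : G), (QuotientGroup.mk g : G ⧸ S) = QuotientGroup.mk h →
      c g (inclusion (inf_le_left : Z ≤ M) z) = c h (inclusion inf_le_left z) := fun z g h he => by
    obtain ⟨s, hs, rfl⟩ : ∃ s ∈ S, h = g * s := ⟨g⁻¹ * h, QuotientGroup.eq.1 he, by group⟩
    refine Subtype.ext ?_
    rw [hc, hc, coe_inclusion, mul_inv_rev,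
      show g * s * (z : G) * (s⁻¹ * g⁻¹) = g * (s * (z : G)) * s⁻¹ * g⁻¹ by group,
      mem_centralizer_iff.1 z.2.2 s hs]
    group
  have hfix : ∀ z : Z, ((τ z : M) : G) ∈ center G := fun z => by
    refine mem_center_iff.2 fun g => ?_
    have h1 : c g (τ z) = τ z := by
      rw [hτ, map_prod]
      refine Fintype.prod_equiv (MulAction.toPerm g) _ _ fun q => ?_
      have hq : (QuotientGroup.mk (g * q.out) : G ⧸ S) = g • q := by
        conv_rhs => rw [← QuotientGroup.out_eq' q]
        rfl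
      rw [MulAction.toPerm_apply, ← hrep z _ _ (hq.trans (QuotientGroup.out_eq' (g • q)).symm)]
      refine Subtype.ext ?_
      rw [hc, hc, hc]
      group
    have h2 := congrArg Subtype.val h1
    rw [hc] at h2
    exact mul_inv_eq_iff_eq_mul.1 h2
  have hcen : ∀ z : Z, (z : G) ∈ center G → ((τ z : M) : G) = (z : G) ^ S.index := fun z hz => by
    rw [hτ, Finset.prod_congr rfl (fun q _ => show c q.out (inclusion inf_le_left z) =
      inclusion (inf_le_left : Z ≤ M) z from Subtype.ext (by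
        rw [hc, coe_inclusion, mem_center_iff.1 hz q.out, mul_inv_cancel_right])),
      Finset.prod_const, SubmonoidClass.coe_pow, coe_inclusion, Finset.card_univ,
      ← Nat.card_eq_fintype_card]
    rfl
  obtain ⟨k, hk⟩ := IsPGroup.iff_card.1 hMp
  have hco : Nat.Coprime S.index (p ^ k) :=
    (((Fact.out : p.Prime).coprime_iff_not_dvd.2 hS).symm).pow_right k
  have hexp : ∀ m ∈ M, m ^ p ^ k = 1 := fun m hm => by
    have h1 : (⟨m, hm⟩ : M) ^ p ^ k = 1 := by rw [← hk]; exact pow_card_eq_one'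
    exact congrArg Subtype.val h1
  refine ⟨τ.ker.map Z.subtype, map_subtype_le _, eq_bot_iff.2 ?_, le_antisymm
    (sup_le (inf_le_inf_left M (center_le_centralizer _)) (map_subtype_le _)) fun z hz => ?_⟩
  · rintro w ⟨hw, y, hy, rfl⟩
    have h1 : (y : G) ^ S.index = 1 := by
      rw [← hcen y hw.2, show τ y = 1 from hy]; rfl
    have h2 := hexp _ hw.1
    rw [mem_bot]
    exact orderOf_eq_one_iff.1 (Nat.eq_one_of_dvd_coprimes hco (orderOf_dvd_of_pow_eq_one h1)
      (orderOf_dvd_of_pow_eq_one h2))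
  · set u : G := ((τ ⟨z, hz⟩ : M) : G) with hu
    have huW : u ∈ M ⊓ center G := mem_inf.2 ⟨SetLike.coe_mem _, hfix _⟩
    obtain ⟨a, ha⟩ : ∃ a : ℤ, (S.index : ℤ) * a ≡ 1 [ZMOD (p ^ k : ℕ)] :=
      Int.mod_coprime hco
    have hwW : u ^ a ∈ M ⊓ center G := zpow_mem huW a
    have hwZ : u ^ a ∈ Z := inf_le_inf_left M (center_le_centralizer _) hwW
    have hw : ((τ ⟨u ^ a, hwZ⟩ : M) : G) = u := by
      rw [hcen ⟨u ^ a, hwZ⟩ hwW.2]
      show (u ^ a) ^ S.index = u
      obtain ⟨t, ht⟩ := Int.modEq_iff_dvd.1 ha.symm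
      rw [← zpow_natCast, ← zpow_mul, mul_comm a,
        show (S.index : ℤ) * a = 1 + (p ^ k : ℕ) * t by linear_combination ht,
        zpow_add, zpow_one, zpow_mul, zpow_natCast, hexp u huW.1, one_zpow, mul_one]
    have hker : (⟨u ^ a, hwZ⟩ : Z)⁻¹ * ⟨z, hz⟩ ∈ τ.ker := by
      rw [MonoidHom.mem_ker, map_mul, map_inv, inv_mul_eq_one]
      exact Subtype.ext hw
    rw [show z = u ^ a * ((u ^ a)⁻¹ * z) by group]
    exact mul_mem (mem_sup_left hwW) (mem_sup_right ⟨_, hker, rfl⟩)

end CfsgLib.Techniques
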