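import Cfsg.Agent.Lib.Techniques.SectionFusion
import Cfsg.Prelude.Def_PLocal
import Cfsg.Prelude.Def_Amalgam

/-!
# Factorizations of subgroups whose `p`-core contains `Ω₁ Z(S)`
-/

set_option autoImplicit false
set_option linter.all false

namespace CfsgLib.Techniques

open Subgroup

universe u

/-- a group whose `p`-core is a Sylow subgroup of its product with its centralizer is constrained
modulo `O_{p'}` -/
theorem centralizer_pCore_quotient_le {X : Type u} [Group X] [Finite X] {p : ℕ} [Fact p.Prime]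
    (hQ : IsSylowSub p (Cfsg.pCore p X)
      (centralizer ((Cfsg.pCore p X : Subgroup X) : Set X) ⊔ Cfsg.pCore p X))
    (N : Subgroup X) [N.Normal] (hN : N = Cfsg.pPrimeCore p X) :
    centralizer ((Cfsg.pCore p (X ⧸ N) : Subgroup (X ⧸ N)) : Set (X ⧸ N)) ≤
      Cfsg.pCore p (X ⧸ N) := by
  have hco : (Nat.card N).Coprime p := by
    rw [hN]; exact CfsgLib.Core.coprime_card_pPrimeCore p X
  have hO : Cfsg.pPrimeCore p (X ⧸ N) = ⊥ := by
    subst hN; exact CfsgLib.Core.pPrimeCore_quotient_pPrimeCore p X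
  set Q := Cfsg.pCore p X with hQd
  haveI : Q.Normal := CfsgLib.Core.normal_pCore p X
  set π := QuotientGroup.mk' N with hπ
  haveI : (Q.map π).Normal := Subgroup.Normal.map inferInstance π (QuotientGroup.mk'_surjective N)
  have hQp : IsPGroup p Q := CfsgLib.Core.isPGroup_pCore p X
  have hC : centralizer ((Q.map π : Subgroup (X ⧸ N)) : Set (X ⧸ N)) ≤
      (centralizer (Q : Set X)).map π :=
    (CfsgLib.PLocal.map_centralizer_eq N hco hQp).ge
  have hle : centralizer ((Q.map π : Subgroup (X ⧸ N)) : Set (X ⧸ N)) ≤ Q.map π := by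
    refine centralizer_le_of_sylow hO ⟨le_sup_right, hQp.map π, fun hd => hQ.2.2 ?_⟩
    have h1 : (Q.map π).relIndex (centralizer ((Q.map π : Subgroup (X ⧸ N)) : Set (X ⧸ N)) ⊔ Q.map π) ∣
        (Q.map π).relIndex ((centralizer (Q : Set X) ⊔ Q).map π) := by
      rw [Subgroup.map_sup]
      have he : centralizer ((Q.map π : Subgroup (X ⧸ N)) : Set (X ⧸ N)) =
          (centralizer (Q : Set X)).map π :=
        (CfsgLib.PLocal.map_centralizer_eq N hco hQp).symm
      rw [he]
    rw [← Subgroup.relIndex_comap] at h1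
    exact hd.trans (h1.trans (Subgroup.relIndex_dvd_of_le_left _ (Subgroup.le_comap_map π Q)))
  have hQle : Q.map π ≤ Cfsg.pCore p (X ⧸ N) :=
    CfsgLib.Core.map_pCore_le π (QuotientGroup.mk'_surjective N)
  exact ((centralizer_le (SetLike.coe_subset_coe.2 hQle)).trans hle).trans hQle

/-- the elements of `Ω₁ Z(T)` -/
theorem mem_omegaOne_center {X : Type u} [Group X] {p : ℕ} {T : Subgroup X} {z : X}
    (hz : z ∈ Cfsg.omegaOne p (T ⊓ centralizer (T : Set X))) :
    z ∈ T ⊓ centralizer (T : Set X) ∧ z ^ p = 1 := by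
  unfold Cfsg.omegaOne at hz
  induction hz using closure_induction with
  | mem x hx => exact hx
  | one => exact ⟨one_mem _, one_pow _⟩
  | mul x y _ _ hx hy =>
    refine ⟨mul_mem hx.1 hy.1, ?_⟩
    have hcom : Commute x y := mem_centralizer_iff.1 hy.1.2 x hx.1.1
    rw [hcom.mul_pow, hx.2, hy.2, one_mul]
  | inv x _ hx => exact ⟨inv_mem hx.1, by rw [inv_pow, hx.2, inv_one]⟩

/-- lifting a factorization from the quotient by `O_{p'}` -/
theorem factor_of_quotient {X : Type u} [Group X] [Finite X] {p : ℕ} [Fact p.Prime]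
    {W : ∀ (Q : Type u) [Group Q], Subgroup Q} (hW : Cfsg.IsCharPFunctor.{u} p W)
    (T : Sylow p X) (hZ : Cfsg.omegaOne p ((T : Subgroup X) ⊓ centralizer ((T : Subgroup X) : Set X)) ≤
      Cfsg.pCore p X)
    (N : Subgroup X) [N.Normal] (hN : (Nat.card N).Coprime p)
    (hfac : ∀ T' : Sylow p (X ⧸ N), ∀ x : X ⧸ N,
      ∃ a ∈ centralizer ((Cfsg.omegaOne p ((T' : Subgroup (X ⧸ N)) ⊓
        centralizer ((T' : Subgroup (X ⧸ N)) : Set (X ⧸ N))) : Subgroup (X ⧸ N)) : Set (X ⧸ N)),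
      ∃ b ∈ normalizer ((Cfsg.inducedFunctor W (T' : Subgroup (X ⧸ N)) : Subgroup (X ⧸ N)) :
        Set (X ⧸ N)), x = a * b) :
    ∀ x : X, ∃ a ∈ centralizer ((Cfsg.omegaOne p ((T : Subgroup X) ⊓
        centralizer ((T : Subgroup X) : Set X)) : Subgroup X) : Set X),
      ∃ b ∈ normalizer ((Cfsg.inducedFunctor W (T : Subgroup X) : Subgroup X) : Set X),
        x = a * b := by
  set π := QuotientGroup.mk' N with hπ
  have hdis : Cfsg.pCore p X ⊓ N = ⊥ := inf_eq_bot_of_coprime (CfsgLib.Core.isPGroup_pCore p X) hN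
  haveI : (Cfsg.pCore p X).Normal := CfsgLib.Core.normal_pCore p X
  intro x
  obtain ⟨a', ha', b', hb', he⟩ := hfac (T.mapSurjective (QuotientGroup.mk'_surjective N)) (π x)
  rw [Sylow.coe_mapSurjective] at ha' hb'
  obtain ⟨a, rfl⟩ := QuotientGroup.mk'_surjective N a'
  rw [inducedFunctor_map hW T.2 _ (injOn_mk' (inf_eq_bot_of_coprime T.2 hN)),
    ← CfsgLib.PLocal.map_normalizer_eq N hN
      (show IsPGroup p (Cfsg.inducedFunctor W (T : Subgroup X)) from
        T.2.to_le (Subgroup.map_subtype_le _))] at hb'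
  obtain ⟨b, hb, rfl⟩ := hb'
  refine ⟨x * b⁻¹, ?_, b, hb, by group⟩
  rw [mem_centralizer_iff]
  intro z hz
  have hzQ := hZ hz
  obtain ⟨⟨hzT, hzC⟩, hzp⟩ := mem_omegaOne_center hz
  have hπz : π z ∈ Cfsg.omegaOne p ((T : Subgroup X).map π ⊓
      centralizer (((T : Subgroup X).map π : Subgroup (X ⧸ N)) : Set (X ⧸ N))) := by
    refine subset_closure ⟨mem_inf.2 ⟨mem_map_of_mem π hzT, mem_centralizer_iff.2 ?_⟩,
      by rw [← map_pow, hzp, map_one]⟩
    rintro _ ⟨t, ht, rfl⟩
    rw [← map_mul, ← map_mul, mem_centralizer_iff.1 hzC t ht]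
  have hcomm := mem_centralizer_iff.1 ha' _ hπz
  have hxa : π (x * b⁻¹) = π a := by
    rw [map_mul, map_inv, he]
    exact mul_inv_cancel_right _ _
  rw [← hxa, ← map_mul, ← map_mul, hπ, QuotientGroup.mk'_eq_mk'] at hcomm
  obtain ⟨n, hn, hne⟩ := hcomm
  have h1 : n ∈ Cfsg.pCore p X ⊓ N := by
    refine mem_inf.2 ⟨?_, hn⟩
    have : n = (x * b⁻¹)⁻¹ * z⁻¹ * (x * b⁻¹) * z := by
      rw [← eq_inv_mul_iff_mul_eq] at hne
      rw [hne]; group
    rw [this]
    exact mul_mem (by
      simpa using (inferInstance : (Cfsg.pCore p X).Normal).conj_mem _ (inv_mem hzQ)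
        (x * b⁻¹)⁻¹) hzQ
  rw [hdis, mem_bot] at h1
  rw [h1, mul_one] at hne
  exact hne

variable {G : Type u} [Group G] [Finite G] {p : ℕ} [Fact p.Prime]

/-- every subgroup over `S` whose `p`-core contains `Ω₁ Z(S)` factorizes -/
theorem factor_of_sections (S : Sylow p G) {W : ∀ (Q : Type u) [Group Q], Subgroup Q}
    (hW : Cfsg.IsCharPFunctor.{u} p W)
    (hfac : ∀ (K R : Subgroup G) [hR : (R.subgroupOf K).Normal],
      centralizer ((Cfsg.pCore p (↥K ⧸ R.subgroupOf K) : Subgroup (↥K ⧸ R.subgroupOf K)) :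
        Set (↥K ⧸ R.subgroupOf K)) ≤ Cfsg.pCore p (↥K ⧸ R.subgroupOf K) →
      ∀ T : Sylow p (↥K ⧸ R.subgroupOf K), ∀ x : (↥K ⧸ R.subgroupOf K),
        ∃ a ∈ centralizer ((Cfsg.omegaOne p ((T : Subgroup (↥K ⧸ R.subgroupOf K)) ⊓
          centralizer ((T : Subgroup (↥K ⧸ R.subgroupOf K)) : Set (↥K ⧸ R.subgroupOf K))) :
            Subgroup (↥K ⧸ R.subgroupOf K)) : Set (↥K ⧸ R.subgroupOf K)),
        ∃ b ∈ normalizer ((Cfsg.inducedFunctor (G := (↥K ⧸ R.subgroupOf K)) W
          (T : Subgroup (↥K ⧸ R.subgroupOf K)) : Subgroup (↥K ⧸ R.subgroupOf K)) :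
            Set (↥K ⧸ R.subgroupOf K)), x = a * b)
    (K : Subgroup G) (hSK : (S : Subgroup G) ≤ K)
    (hZK : Cfsg.omegaOne p ((S : Subgroup G) ⊓ centralizer ((S : Subgroup G) : Set G)) ≤
      Cfsg.pCoreOf p K) :
    ∀ x ∈ K, ∃ a ∈ centralizer ((Cfsg.omegaOne p ((S : Subgroup G) ⊓
        centralizer ((S : Subgroup G) : Set G)) : Subgroup G) : Set G),
      ∃ b ∈ normalizer ((Cfsg.inducedFunctor W (S : Subgroup G) : Subgroup G) : Set G),
        x = a * b := by
  set Z := Cfsg.omegaOne p ((S : Subgroup G) ⊓ centralizer ((S : Subgroup G) : Set G)) with hZd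
  induction hn : Nat.card K using Nat.strong_induction_on generalizing K with
  | _ n ih => ?_
  subst hn
  set Q := Cfsg.pCoreOf p K with hQd
  have hQK : Q ≤ K := map_subtype_le _
  haveI : (Cfsg.pCore p K).Normal := CfsgLib.Core.normal_pCore p K
  have hSKmap : ((S.subtype hSK : Sylow p K) : Subgroup K).map K.subtype = (S : Subgroup G) := by
    rw [Sylow.coe_subtype, map_subgroupOf_eq_of_le hSK]
  have hQS : Q ≤ (S : Subgroup G) := by
    rw [← hSKmap]
    exact map_mono (CfsgLib.Core.pCore_le_sylow _)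
  have hKQ : K ≤ normalizer (Q : Set G) := by
    intro k hk
    refine mem_normalizer_of_map_conj_eq (eq_of_le_of_card_ge ?_ (card_map_conj Q k).ge)
    rintro _ ⟨_, ⟨q, hq, rfl⟩, rfl⟩
    exact ⟨⟨k, hk⟩ * q * ⟨k, hk⟩⁻¹, (inferInstance : (Cfsg.pCore p K).Normal).conj_mem q hq _, rfl⟩
  set K' := (K ⊓ centralizer (Q : Set G)) ⊔ Q with hK'
  have hK'K : K' ≤ K := sup_le inf_le_left hQK
  have hK'Z : K' ≤ centralizer (Z : Set G) := by
    refine sup_le (inf_le_right.trans (centralizer_le (SetLike.coe_subset_coe.2 hZK)))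
      (fun q hq => mem_centralizer_iff.2 fun z hz => ?_)
    exact (mem_centralizer_iff.1 (mem_omegaOne_center hz).1.2 q (hQS hq)).symm
  have hKK' : K ≤ normalizer (K' : Set G) := by
    intro k hk
    refine mem_normalizer_of_map_conj_eq ?_
    rw [hK', Subgroup.map_sup, map_conj_inf, map_conj_of_mem hk,
      map_conj_of_mem_normalizer (hKQ hk),
      map_conj_of_mem_normalizer (normalizer_le_normalizer_centralizer (hKQ hk))]
  have hSs : IsSylowSub p (S : Subgroup G) K := (isSylowSub_sylow S).of_le hSK le_top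
  set R := (S : Subgroup G) ⊓ K' with hR
  have hRs : IsSylowSub p R K' := hSs.inf_normal hK'K hKK'
  intro x hx
  by_cases hlt : K ⊓ normalizer (R : Set G) < K
  · obtain ⟨k, hk, m, hm, hmR, rfl⟩ := exists_mul_normalizer hRs hx hKK' hK'K
    have hSR : (S : Subgroup G) ≤ normalizer (R : Set G) := fun s hs => by
      refine mem_normalizer_of_map_conj_eq ?_
      rw [hR, map_conj_inf, map_conj_of_mem hs, map_conj_of_mem_normalizer (hKK' (hSK hs))]
    set L := K ⊓ normalizer (R : Set G) with hL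
    have hQR : Q ≤ R := le_inf hQS le_sup_right
    have hQL : Q ≤ L := le_inf hQK (hQR.trans le_normalizer)
    have hQcore : Q ≤ Cfsg.pCoreOf p L := by
      haveI : (Q.subgroupOf L).Normal :=
        (normal_subgroupOf_iff_le_normalizer hQL).2 (inf_le_left.trans hKQ)
      intro q hq
      exact ⟨⟨q, hQL hq⟩, CfsgLib.Core.le_pCore (N := Q.subgroupOf L)
        (S.2.to_le hQS).comap_subtype hq, rfl⟩
    have hcard : Nat.card L < Nat.card K := CfsgLib.Transfer.card_lt_of_lt hlt
    obtain ⟨a, ha, b, hb, rfl⟩ := ih _ hcard L (le_inf hSK hSR) (hZK.trans hQcore) rfl m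
      (mem_inf.2 ⟨hm, hmR⟩)
    exact ⟨k * a, mul_mem (hK'Z hk) ha, b, hb, (mul_assoc k a b).symm⟩
  have hRn : K ≤ normalizer (R : Set G) := by
    have := eq_of_le_of_not_lt inf_le_left hlt
    exact this.ge.trans inf_le_right
  have hRQ : R = Q := le_antisymm (fun r hr => by
    haveI : (R.subgroupOf K).Normal :=
      (normal_subgroupOf_iff_le_normalizer (inf_le_right.trans hK'K)).2 hRn
    exact ⟨⟨r, hK'K hr.2⟩, CfsgLib.Core.le_pCore (N := R.subgroupOf K)
      (S.2.to_le inf_le_left).comap_subtype hr, rfl⟩) (le_inf hQS le_sup_right)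
  have hQs : IsSylowSub p (Cfsg.pCore p K)
      (centralizer ((Cfsg.pCore p K : Subgroup K) : Set K) ⊔ Cfsg.pCore p K) := by
    refine ⟨le_sup_right, CfsgLib.Core.isPGroup_pCore p K, ?_⟩
    rw [← relIndex_map_map_of_injective _ _ K.subtype_injective, Subgroup.map_sup]
    have e : (centralizer ((Cfsg.pCore p K : Subgroup K) : Set K)).map K.subtype =
        K ⊓ centralizer (Q : Set G) := by
      ext g
      constructor
      · rintro ⟨c, hc, rfl⟩
        refine mem_inf.2 ⟨c.2, mem_centralizer_iff.2 ?_⟩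
        rintro _ ⟨q, hq, rfl⟩
        exact congrArg Subtype.val (mem_centralizer_iff.1 hc q hq)
      · intro hg
        exact ⟨⟨g, hg.1⟩, mem_centralizer_iff.2 fun q hq =>
          Subtype.ext (mem_centralizer_iff.1 hg.2 q ⟨q, hq, rfl⟩), rfl⟩
    rw [e]
    have h := hRs.2.2
    rw [hRQ] at h
    exact h
  set O := Cfsg.pPrimeCore p K with hO
  haveI : O.Normal := CfsgLib.Core.normal_pPrimeCore p K
  have eO : (O.map K.subtype).subgroupOf K = O :=
    comap_map_eq_self_of_injective K.subtype_injective _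
  haveI hn' : ((O.map K.subtype).subgroupOf K).Normal := eO.symm ▸ inferInstance
  have hco : (Nat.card ((O.map K.subtype).subgroupOf K)).Coprime p := by
    rw [eO]; exact CfsgLib.Core.coprime_card_pPrimeCore p K
  have hZT : ∀ z : K, z ∈ Cfsg.omegaOne p (((S.subtype hSK : Sylow p K) : Subgroup K) ⊓
      centralizer (((S.subtype hSK : Sylow p K) : Subgroup K) : Set K)) ↔ (z : G) ∈ Z := by
    intro z
    constructor
    · intro hz
      obtain ⟨⟨h1, h2⟩, h3⟩ := mem_omegaOne_center hz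
      rw [Sylow.coe_subtype] at h1
      refine subset_closure ⟨⟨h1, mem_centralizer_iff.2 fun s hs => ?_⟩, congrArg Subtype.val h3⟩
      exact congrArg Subtype.val (mem_centralizer_iff.1 h2 ⟨s, hSK hs⟩ hs)
    · intro hz
      obtain ⟨⟨h1, h2⟩, h3⟩ := mem_omegaOne_center hz
      refine subset_closure ⟨⟨?_, mem_centralizer_iff.2 fun s hs => ?_⟩, Subtype.ext h3⟩
      · rw [Sylow.coe_subtype]; exact h1
      · rw [Sylow.coe_subtype] at hs
        exact Subtype.ext (mem_centralizer_iff.1 h2 s hs)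
  have hZcore : Cfsg.omegaOne p (((S.subtype hSK : Sylow p K) : Subgroup K) ⊓
      centralizer (((S.subtype hSK : Sylow p K) : Subgroup K) : Set K)) ≤ Cfsg.pCore p K := by
    intro z hz
    obtain ⟨q, hq, hqz⟩ := hZK ((hZT z).1 hz)
    rwa [← Subtype.ext hqz]
  obtain ⟨a, ha, b, hb, hab⟩ := factor_of_quotient hW (S.subtype hSK) hZcore
    ((O.map K.subtype).subgroupOf K) hco
    (hfac K (O.map K.subtype) (centralizer_pCore_quotient_le hQs _ eO)) ⟨x, hx⟩
  refine ⟨a, mem_centralizer_iff.2 fun z hz => ?_, b, ?_, congrArg Subtype.val hab⟩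
  · obtain ⟨q, -, rfl⟩ := hZK hz
    exact congrArg Subtype.val (mem_centralizer_iff.1 ha q ((hZT q).2 hz))
  · have h := le_normalizer_map K.subtype ⟨b, hb, rfl⟩
    rwa [← inducedFunctor_map hW (S.subtype hSK).2 _ K.subtype_injective.injOn, hSKmap] at h

end CfsgLib.Techniques
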